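import Cfsg.Agent.S3277
import Mathlib.GroupTheory.Transfer
import Mathlib.GroupTheory.Sylow
import Mathlib.GroupTheory.SpecificGroups.Alternating
import Mathlib.Tactic

/-!
# Two facts about `A₅` inside the centralisers

`exists_inverted`: with self-centralising `A = 2⁴` in which the fused involutions of a four-group
are weakly closed, an element of order 3 of `N(A)` is inverted by a conjugate of `z`.
`three_not_dvd_index`: in `3 × A₅` the fixed points of the given automorphism contain `3²`.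
-/

set_option autoImplicit false
set_option linter.style.haveILetI false
set_option linter.unusedSectionVars false
set_option linter.unusedVariables false

open Subgroup

namespace CfsgLib.AutLThreeFour70

namespace AltAux

variable {X : Type*} [Group X]

theorem sq_one {x : X} (h : orderOf x = 2) : x * x = 1 ∧ x ≠ 1 :=
  ⟨by rw [← sq, ← h, pow_orderOf_eq_one], fun e => by simp [e] at h⟩

theorem orderOf_two {x : X} (h : x * x = 1) (h1 : x ≠ 1) : orderOf x = 2 :=
  orderOf_eq_prime (by rw [sq, h]) h1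

theorem inverts_of_fpf [Finite X] {K : Subgroup X} {w : X} (hw : w * w = 1)
    (hn : ∀ k ∈ K, w * k * w ∈ K) (hf : ∀ k ∈ K, w * k = k * w → k = 1) :
    ∀ k ∈ K, w * k * w = k⁻¹ := by
  have hwi : w⁻¹ = w := inv_eq_of_mul_eq_one_right hw
  let f : K → K := fun k => ⟨(k : X)⁻¹ * (w * k * w), mul_mem (inv_mem k.2) (hn k k.2)⟩
  have hinj : Function.Injective f := by
    intro k l h
    have h' : (k : X)⁻¹ * (w * k * w) = (l : X)⁻¹ * (w * l * w) := congrArg Subtype.val h
    have h2 : (l : X) * (k : X)⁻¹ = w * ((l : X) * (k : X)⁻¹) * w := by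
      calc (l : X) * (k : X)⁻¹ = (l : X) * ((k : X)⁻¹ * (w * k * w)) * (w * k * w)⁻¹ := by group
        _ = (l : X) * ((l : X)⁻¹ * (w * l * w)) * (w * k * w)⁻¹ := by rw [h']
        _ = w * ((l : X) * (k : X)⁻¹) * w := by
          rw [mul_inv_rev, mul_inv_rev, hwi]
          calc (l : X) * ((l : X)⁻¹ * (w * l * w)) * (w * ((k : X)⁻¹ * w))
              = w * l * (w * w) * ((k : X)⁻¹ * w) := by group
            _ = w * ((l : X) * (k : X)⁻¹) * w := by rw [hw]; group
    have h3 : w * ((l : X) * (k : X)⁻¹) = (l : X) * (k : X)⁻¹ * w := by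
      conv_rhs => rw [h2, mul_assoc, hw, mul_one]
    exact Subtype.ext (mul_inv_eq_one.1 (hf _ (mul_mem l.2 (inv_mem k.2)) h3)).symm
  intro k hk
  obtain ⟨x, hx⟩ := (Finite.injective_iff_surjective.1 hinj) ⟨k, hk⟩
  have hx' : (x : X)⁻¹ * (w * x * w) = k := congrArg Subtype.val hx
  rw [← hx', mul_inv_rev, inv_inv, mul_inv_rev, mul_inv_rev, hwi]
  calc w * ((x : X)⁻¹ * (w * x * w)) * w = w * (x : X)⁻¹ * w * x * (w * w) := by group
    _ = w * ((x : X)⁻¹ * w) * x := by rw [hw]; group

theorem four_fpf [Finite X] {K : Subgroup X} {z a : X} (hz : z * z = 1) (ha : a * a = 1)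
    (hza : z * a = a * z) (hnz : ∀ k ∈ K, z * k * z ∈ K) (hna : ∀ k ∈ K, a * k * a ∈ K)
    (fz : ∀ k ∈ K, z * k = k * z → k = 1) (fa : ∀ k ∈ K, a * k = k * a → k = 1)
    (faz : ∀ k ∈ K, a * z * k = k * (a * z) → k = 1) : K = ⊥ := by
  refine (eq_bot_iff_forall _).2 fun k hk => faz k hk ?_
  have h1 := inverts_of_fpf hz hnz fz k hk
  have h2 := inverts_of_fpf ha hna fa k⁻¹ (inv_mem hk)
  rw [inv_inv, ← h1] at h2
  have e1 : a * (z * k * z) * a * (a * z) = a * z * k := by
    calc a * (z * k * z) * a * (a * z) = a * z * k * (z * (a * a) * z) := by group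
      _ = a * z * k := by rw [ha, mul_one, hz, mul_one]
  rw [← e1, h2]

theorem conj_or_common [Finite X] {x u : X} (hx : x * x = 1) (hu : u * u = 1) (hne : x ≠ u) :
    (∃ h, h * x * h⁻¹ = u) ∨ ∃ c, c * c = 1 ∧ c ≠ 1 ∧ c * x = x * c ∧ c * u = u * c := by
  have hxi : x⁻¹ = x := inv_eq_of_mul_eq_one_right hx
  have hui : u⁻¹ = u := inv_eq_of_mul_eq_one_right hu
  set d := x * u with hd
  have hd1 : d ≠ 1 := fun h => hne (by rw [mul_eq_one_iff_eq_inv.1 h, hui])
  have sx : SemiconjBy x d d⁻¹ := by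
    show x * d = d⁻¹ * x
    rw [hd, mul_inv_rev, hxi, hui, ← mul_assoc, hx, one_mul, mul_assoc, hx, mul_one]
  have su : SemiconjBy u d d⁻¹ := by
    show u * d = d⁻¹ * u
    rw [hd, mul_inv_rev, hxi, hui, mul_assoc]
  rcases Nat.even_or_odd' (orderOf d) with ⟨k, hk | hk⟩
  · refine Or.inr ⟨d ^ k, ?_, ?_, ?_, ?_⟩
    · rw [← pow_add, ← two_mul, ← hk, pow_orderOf_eq_one]
    · refine pow_ne_one_of_lt_orderOf ?_ (by have := orderOf_pos d; omega)
      intro h0; subst h0; have := orderOf_pos d; omega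
    all_goals
      have hc : (d⁻¹) ^ k = d ^ k := by
        rw [inv_pow, inv_eq_iff_mul_eq_one, ← pow_add, ← two_mul, ← hk, pow_orderOf_eq_one]
    · have h := (sx.pow_right k).eq
      rw [hc] at h
      exact h.symm
    · have h := (su.pow_right k).eq
      rw [hc] at h
      exact h.symm
  · refine Or.inl ⟨d ^ k, ?_⟩
    have h := (sx.pow_right k).eq
    rw [inv_pow] at h
    have h2 : d ^ (2 * k) = d⁻¹ := by
      rw [eq_inv_iff_mul_eq_one, ← pow_succ, ← hk, pow_orderOf_eq_one]
    calc d ^ k * x * (d ^ k)⁻¹ = d ^ k * (x * (d ^ k)⁻¹) := by group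
      _ = d ^ k * (d ^ k * x) := by
          rw [show x * (d ^ k)⁻¹ = d ^ k * x from by
            calc x * (d ^ k)⁻¹ = d ^ k * ((d ^ k)⁻¹ * x) * (d ^ k)⁻¹ := by group
              _ = d ^ k * x := by rw [← h]; group]
      _ = d ^ (2 * k) * x := by rw [two_mul, pow_add]; group
      _ = u := by rw [h2, hd, mul_inv_rev, hxi, hui, mul_assoc, hx, mul_one]

/-- A group with three self-centralising involutions of a four-group and more involutions is `A₅`. -/
theorem iso_alt_five [Finite X] {z a : X} (hz : z * z = 1) (hz1 : z ≠ 1) (ha : a * a = 1)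
    (ha1 : a ≠ 1) (haz : a ≠ z) (hza : z * a = a * z)
    (hcz : ∀ x, x * z = z * x → x = 1 ∨ x = z ∨ x = a ∨ x = a * z)
    (hca : ∀ x, x * a = a * x → x = 1 ∨ x = z ∨ x = a ∨ x = a * z)
    (hcaz : ∀ x, x * (a * z) = a * z * x → x = 1 ∨ x = z ∨ x = a ∨ x = a * z)
    (hout : ∃ x, orderOf x = 2 ∧ ¬ (x = z ∨ x = a ∨ x = a * z)) (h8 : ¬ 8 ∣ Nat.card X) :
    Nonempty (X ≃* alternatingGroup (Fin 5)) := by
  classical
  haveI : Fact (Nat.Prime 2) := ⟨Nat.prime_two⟩
  have hzi : z⁻¹ = z := inv_eq_of_mul_eq_one_right hz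
  have hai : a⁻¹ = a := inv_eq_of_mul_eq_one_right ha
  have haz2 : a * z * (a * z) = 1 := by
    rw [mul_assoc, ← mul_assoc z, hza, mul_assoc a z, hz, mul_one, ha]
  have haz1 : a * z ≠ 1 := fun h => haz (by rw [mul_eq_one_iff_eq_inv.1 h, hzi])
  set C := centralizer ({z} : Set X)
  have hmem : ∀ x, x ∈ C ↔ x = 1 ∨ x = z ∨ x = a ∨ x = a * z := by
    intro x
    refine ⟨fun hx => hcz x (mem_centralizer_singleton_iff.1 hx), fun hx => ?_⟩
    rw [mem_centralizer_singleton_iff]
    rcases hx with rfl | rfl | rfl | rfl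
    · simp
    · rfl
    · exact hza.symm
    · rw [← mul_assoc, hza]
  have hC4 : Nat.card C = 4 := by
    have hset : (C : Set X) = ↑({1, z, a, a * z} : Finset X) := by ext x; simp [hmem]
    show Nat.card (C : Set X) = 4
    rw [hset, Nat.card_coe_set_eq, Set.ncard_coe_finset]
    have n1 : z ≠ a * z := fun h => ha1 (by simpa using h.symm)
    have n2 : a ≠ a * z := fun h => hz1 (by simpa using h.symm)
    simp [hz1.symm, ha1.symm, haz1.symm, haz.symm, n1, n2]
  have hCe : ∀ c ∈ C, c ^ 2 = 1 := by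
    intro c hc
    rw [sq]
    rcases (hmem c).1 hc with rfl | rfl | rfl | rfl
    exacts [one_mul 1, hz, ha, haz2]
  have hCp : IsPGroup 2 C := IsPGroup.of_card (n := 2) (by rw [hC4]; rfl)
  obtain ⟨x, hxo, hxT⟩ := hout
  obtain ⟨hx2, hx1⟩ := sq_one hxo
  have hxC : x ∉ C := fun h => by
    rcases (hmem x).1 h with h | h | h | h
    exacts [hx1 h, hxT (Or.inl h), hxT (Or.inr (Or.inl h)), hxT (Or.inr (Or.inr h))]
  -- a 2-group containing `C` is `C`
  have hmax : ∀ Q : Subgroup X, IsPGroup 2 Q → C ≤ Q → Q = C := by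
    intro Q hQ hCQ
    obtain ⟨j, hj⟩ := IsPGroup.iff_card.1 hQ
    have hd : Nat.card Q ∣ Nat.card X := card_subgroup_dvd_card Q
    refine le_antisymm ?_ hCQ
    rw [← eq_of_le_of_card_ge hCQ ?_]
    rw [hC4, hj]
    rcases Nat.lt_or_ge j 3 with h | h
    · calc 2 ^ j ≤ 2 ^ 2 := Nat.pow_le_pow_right (by norm_num) (by omega)
        _ = 4 := by norm_num
    · exact absurd (((pow_dvd_pow 2 h).trans (hj ▸ hd))) h8
  refine Cfsg.Agent.S3277.result z (orderOf_two hz hz1) hC4 hCe ?_ ?_
  · rintro ⟨P, K, hK, hKP⟩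
    haveI := hK
    have hodd : ¬ 2 ∣ Nat.card K := by
      rw [← hKP.index_eq_card]
      exact P.not_dvd_index
    have hfix : ∀ w : X, (∀ y, y * w = w * y → y = 1 ∨ y = z ∨ y = a ∨ y = a * z) →
        ∀ k ∈ K, w * k = k * w → k = 1 := by
      intro w hw k hk hkw
      by_contra hne
      refine hodd ?_
      have hk2 : orderOf k = 2 := orderOf_two (by
        rcases hw k hkw.symm with rfl | rfl | rfl | rfl
        exacts [one_mul 1, hz, ha, haz2]) hne
      exact hk2 ▸ Subgroup.orderOf_dvd_natCard K hk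
    have hnorm : ∀ w : X, w * w = 1 → ∀ k ∈ K, w * k * w ∈ K := fun w hw k hk => by
      have := hK.conj_mem k hk w
      rwa [inv_eq_of_mul_eq_one_right hw] at this
    have hbot := four_fpf hz ha hza (hnorm z hz) (hnorm a ha) (hfix z hcz) (hfix a hca)
      (hfix (a * z) hcaz)
    rw [hbot, isComplement'_bot_left] at hKP
    have hT : (⊤ : Subgroup X) = C := hmax ⊤ (hKP ▸ P.isPGroup') le_top
    exact hxC (hT ▸ mem_top x)
  · intro E hE hEel
    have hEp : IsPGroup 2 E := fun e => ⟨1, Subtype.ext (by simpa using hEel.2 e e.2)⟩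
    have hEC : E ≤ C := by
      rw [← hmax (E ⊔ C) (hEp.to_sup_of_normal_left' hCp (le_top.trans_eq
        (normalizer_eq_top_iff.2 hE).symm)) le_sup_right]
      exact le_sup_left
    refine ⟨fun h2 => ?_, fun h4 => ?_⟩
    · obtain ⟨e, he, he1⟩ := E.bot_or_exists_ne_one.resolve_left (fun h => by
        rw [h, card_bot] at h2; omega)
      have hset : ∀ y ∈ E, y = 1 ∨ y = e := by
        intro y hy
        by_contra hcon
        push Not at hcon
        have hc : ({1, e, y} : Finset X).card ≤ Nat.card E := by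
          rw [← Set.ncard_coe_finset, ← Nat.card_coe_set_eq]
          refine Nat.card_mono (Set.toFinite _) ?_
          intro v hv
          simp only [Finset.coe_insert, Finset.coe_singleton, Set.mem_insert_iff,
            Set.mem_singleton_iff] at hv
          rcases hv with rfl | rfl | rfl
          exacts [one_mem E, he, hy]
        rw [h2, Finset.card_insert_of_notMem (by simp [he1.symm, hcon.1.symm]),
          Finset.card_insert_of_notMem (by simp [hcon.2.symm]), Finset.card_singleton] at hc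
        omega
      have hcen : x * e = e * x := by
        rcases hset _ (hE.conj_mem e he x) with h | h
        · exact absurd (conj_eq_one_iff.1 h) he1
        · exact mul_inv_eq_iff_eq_mul.1 h
      refine hxC ((hmem x).2 ?_)
      rcases (hmem e).1 (hEC he) with rfl | rfl | rfl | rfl
      exacts [absurd rfl he1, hcz x hcen, hca x hcen, hcaz x hcen]
    · have hEC' : E = C := eq_of_le_of_card_ge hEC (by omega)
      subst hEC'
      refine hxC ?_
      have hxp : IsPGroup 2 (zpowers x) := IsPGroup.of_card (n := 1) (by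
        rw [Nat.card_zpowers, hxo]; rfl)
      rw [← hmax (C ⊔ zpowers x) (hCp.to_sup_of_normal_left' hxp (le_top.trans_eq
        (normalizer_eq_top_iff.2 hE).symm)) le_sup_left]
      exact mem_sup_right (mem_zpowers x)

/-! ## Facts about `A₅` -/

local notation "A5" => alternatingGroup (Fin 5)

theorem alt_inverter : ∀ n : A5, n * n * n = 1 → n ≠ 1 →
    ∃ x : A5, x * x = 1 ∧ x ≠ 1 ∧ x * n * x = n * n := by decide +kernel

theorem alt_conj : ∀ x : A5, x * x = 1 → x ≠ 1 → ∀ y : A5, y * y = 1 → y ≠ 1 →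
    ∃ g : A5, g * x * g⁻¹ = y := by decide +kernel

theorem alt_centralizer : ∀ n : A5, n * n * n = 1 → n ≠ 1 → ∀ v : A5, v * n = n * v →
    v = 1 ∨ v = n ∨ v = n * n := by decide +kernel

theorem alt_inverted : ∀ z : A5, z * z = 1 → z ≠ 1 →
    ∃ f : A5, f * f * f = 1 ∧ f ≠ 1 ∧ z * f * z = f * f := by decide +kernel

set_option synthInstance.maxSize 8192 in
set_option synthInstance.maxHeartbeats 400000 in
theorem alt_two_subgroups : ∀ z : A5, z * z = 1 → z ≠ 1 →
    ∀ a : A5, a * a = 1 → a ≠ 1 → a ≠ z → z * a = a * z →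
    ∀ f : A5, f * f * f = 1 → f ≠ 1 → z * f * z = f * f →
    ∀ g : A5, g * g * g = 1 → g ≠ 1 → z * g * z = g * g →
    g = f ∨ g = f * f ∨ g = a * f * a ∨ g = a * (f * f) * a := by decide +kernel

/-- Fusion-invariant transfer. -/
theorem transfer_eq_pow_fusion {H : Subgroup X} {B : Type*} [CommGroup B] [H.FiniteIndex]
    (ϕ : H →* B) (hfus : ∀ (x y : H) (g : X), g⁻¹ * (x : X) * g = y → ϕ y = ϕ x) (x : H) :
    MonoidHom.transfer ϕ (x : X) = ϕ x ^ H.index := by
  classical
  letI := H.fintypeQuotientOfFiniteIndex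
  rw [MonoidHom.transfer_eq_prod_quotient_orbitRel_zpowers_quot,
    index_eq_sum_minimalPeriod H (x : X), ← Finset.prod_pow_eq_pow_sum]
  refine Finset.prod_congr rfl fun q _ => ?_
  rw [← map_pow]
  exact hfus (x ^ Function.minimalPeriod ((x : X) • ·) q.out) _ q.out.out (by simp)

/-- Burnside: a Sylow subgroup equal to its normalizer, with free four-group, is everything. -/
theorem eq_top_of_normalizer [Finite X] {A : Subgroup X} {z a : X}
    (hA2 : ∀ v ∈ A, v * v = 1) (hAp : IsPGroup 2 A) (hodd : ¬ 2 ∣ A.index) (hzA : z ∈ A)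
    (haA : a ∈ A) (hza : z * a = a * z) (hz : ∀ x, x * z = z * x → x ∈ A)
    (ha : ∀ x, x * a = a * x → x ∈ A) (haz : ∀ x, x * (a * z) = a * z * x → x ∈ A)
    (hN : normalizer (A : Set X) ≤ A) : A = ⊤ := by
  haveI : Fact (Nat.Prime 2) := ⟨Nat.prime_two⟩
  let P : Sylow 2 X := hAp.toSylow hodd
  have hP : (P : Subgroup X) = A := IsPGroup.toSylow_coe hAp hodd
  have hcomm : ∀ u ∈ A, ∀ v ∈ A, u * v = v * u := fun u hu v hv => by
    have e1 := inv_eq_of_mul_eq_one_right (hA2 _ (mul_mem hu hv))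
    rw [mul_inv_rev, inv_eq_of_mul_eq_one_right (hA2 u hu),
      inv_eq_of_mul_eq_one_right (hA2 v hv)] at e1
    exact e1.symm
  have hle : normalizer ((P : Subgroup X) : Set X) ≤ centralizer ((P : Subgroup X) : Set X) := by
    rw [hP]
    exact fun g hg => mem_centralizer_iff.2 fun v hv => hcomm v hv g (hN hg)
  have hcomp := MonoidHom.ker_transferSylow_isComplement' P hle
  set K := (MonoidHom.transferSylow P hle).ker with hKdef
  have hKA : ∀ k ∈ K, k ∈ A → k = 1 := fun k hk hkA =>
    mem_bot.1 (hcomp.disjoint.le_bot (mem_inf.2 ⟨hk, hP.symm ▸ hkA⟩))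
  have hnorm : ∀ w ∈ A, ∀ k ∈ K, w * k * w ∈ K := fun w hw k hk => by
    have := (inferInstance : K.Normal).conj_mem k hk w
    rwa [inv_eq_of_mul_eq_one_right (hA2 w hw)] at this
  have hbot : K = ⊥ := four_fpf (hA2 z hzA) (hA2 a haA) hza (hnorm z hzA) (hnorm a haA)
    (fun k hk h => hKA k hk (hz k h.symm)) (fun k hk h => hKA k hk (ha k h.symm))
    (fun k hk h => hKA k hk (haz k h.symm))
  rw [hbot, isComplement'_bot_left, hP] at hcomp
  exact hcomp

end AltAux

open AltAux

/-- An element of order 3 of `N(A)` inverted by a conjugate of `z`, with its centralizer. -/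
theorem exists_inverted {Y : Type*} [Group Y] [Finite Y] {z a : Y} (A : Subgroup Y)
    (hz : orderOf z = 2) (ha : orderOf a = 2) (haz : a ≠ z) (hzA : z ∈ A) (haA : a ∈ A)
    (hA : Nat.card A = 16) (hA2 : ∀ v ∈ A, v * v = 1) (hodd : Odd A.index)
    (hc : ∀ w ∈ ({z, a, a * z} : Set Y), Subgroup.centralizer ({w} : Set Y) = A)
    (hW : ∀ g : Y, ∀ w ∈ ({z, a, a * z} : Set Y), g * w * g⁻¹ ∈ A →
      g * w * g⁻¹ ∈ ({z, a, a * z} : Set Y))
    (hout : ∃ g : Y, ∃ w ∈ ({z, a, a * z} : Set Y), g * w * g⁻¹ ∉ A) :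
    ∃ n g : Y, n ∈ Subgroup.normalizer (A : Set Y) ∧ orderOf n = 3 ∧ n * z ≠ z * n ∧
      (g * z * g⁻¹) * n * (g * z * g⁻¹)⁻¹ = n⁻¹ ∧
      ∀ v : Y, v * n = n * v → ∃ i : ℕ, ∃ w, w ∈ A ∧ w * n = n * w ∧ v = n ^ i * w := by
  classical
  haveI : Fact (Nat.Prime 2) := ⟨Nat.prime_two⟩
  obtain ⟨hz2, hz1⟩ := sq_one hz
  obtain ⟨ha2, ha1⟩ := sq_one ha
  have hzi : z⁻¹ = z := inv_eq_of_mul_eq_one_right hz2
  have hcomm : ∀ u ∈ A, ∀ v ∈ A, u * v = v * u := fun u hu v hv => by
    have e1 := inv_eq_of_mul_eq_one_right (hA2 _ (mul_mem hu hv))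
    rw [mul_inv_rev, inv_eq_of_mul_eq_one_right (hA2 u hu),
      inv_eq_of_mul_eq_one_right (hA2 v hv)] at e1
    exact e1.symm
  have hza : z * a = a * z := hcomm z hzA a haA
  have hazA : a * z ∈ A := mul_mem haA hzA
  have haz1 : a * z ≠ 1 := fun h => haz (by rw [mul_eq_one_iff_eq_inv.1 h, hzi])
  have mc : ∀ w ∈ ({z, a, a * z} : Set Y), ∀ x, x * w = w * x → x ∈ A := fun w hw x hx =>
    hc w hw ▸ mem_centralizer_singleton_iff.2 hx
  have mz : ∀ x, x * z = z * x → x ∈ A := mc z (by simp)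
  have ma : ∀ x, x * a = a * x → x ∈ A := mc a (by simp)
  have maz : ∀ x, x * (a * z) = a * z * x → x ∈ A := mc (a * z) (by simp)
  have hAp : IsPGroup 2 A := IsPGroup.of_card (n := 4) (by rw [hA]; rfl)
  have hodd2 : ¬ 2 ∣ A.index := hodd.not_two_dvd_nat
  set N := normalizer (A : Set Y) with hNdef
  have hAN : A ≤ N := le_normalizer
  have hconjA : ∀ g ∈ N, ∀ v ∈ A, g * v * g⁻¹ ∈ A := fun g hg v hv =>
    (mem_normalizer_iff.1 hg v).1 hv
  -- `N` is not `A`
  obtain ⟨g₀, hg₀, hg₀A⟩ : ∃ g ∈ N, g ∉ A := by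
    by_contra hne
    push Not at hne
    obtain ⟨g, w, hw, hgw⟩ := hout
    have htop := eq_top_of_normalizer hA2 hAp hodd2 hzA haA hza mz ma maz hne
    exact hgw (htop ▸ mem_top _)
  set q : Subgroup N := A.subgroupOf N with hq
  haveI : q.Normal := normal_subgroupOf_of_le_normalizer le_rfl
  have hq3 : Nat.card (↥N ⧸ q) = 3 := by
    let f : ↥N ⧸ q → ({z, a, a * z} : Finset Y) := fun c =>
      ⟨(c.out : Y) * z * (c.out : Y)⁻¹, by
        simpa using hW (c.out : Y) z (by simp) (hconjA _ c.out.2 z hzA)⟩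
    have hinj : Function.Injective f := by
      intro c d h
      have h' : (c.out : Y) * z * (c.out : Y)⁻¹ = (d.out : Y) * z * (d.out : Y)⁻¹ :=
        congrArg Subtype.val h
      rw [← QuotientGroup.out_eq' c, ← QuotientGroup.out_eq' d, QuotientGroup.eq]
      refine mem_subgroupOf.2 (mz _ ?_)
      push_cast
      calc (c.out : Y)⁻¹ * d.out * z
          = (c.out : Y)⁻¹ * ((d.out : Y) * z * (d.out : Y)⁻¹) * d.out := by group
        _ = (c.out : Y)⁻¹ * ((c.out : Y) * z * (c.out : Y)⁻¹) * d.out := by rw [h']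
        _ = z * ((c.out : Y)⁻¹ * d.out) := by group
    have hle : Nat.card (↥N ⧸ q) ≤ 3 := by
      refine (Nat.card_le_card_of_injective f hinj).trans ?_
      rw [Nat.card_eq_fintype_card, Fintype.card_coe]
      exact Finset.card_le_three
    have hne1 : Nat.card (↥N ⧸ q) ≠ 1 := fun h => hg₀A (by
      have htop : q = ⊤ := index_eq_one.1 h
      have : (⟨g₀, hg₀⟩ : N) ∈ q := htop ▸ mem_top _
      exact mem_subgroupOf.1 this)
    have hodd' : Odd (Nat.card (↥N ⧸ q)) :=
      hodd.of_dvd_nat ⟨N.index, (relIndex_mul_index hAN).symm⟩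
    rcases hodd' with ⟨j, hj⟩
    have := Nat.card_pos (α := ↥N ⧸ q)
    omega
  have hg3 : g₀ ^ 3 ∈ A := by
    have h := pow_card_eq_one' (x := ((⟨g₀, hg₀⟩ : N) : ↥N ⧸ q))
    rw [hq3, ← QuotientGroup.mk_pow, QuotientGroup.eq_one_iff, hq, mem_subgroupOf] at h
    simpa using h
  set n := g₀ * g₀ with hn
  have hn3 : n ^ 3 = 1 := by
    rw [hn, ← sq, ← pow_mul, show 2 * 3 = 3 + 3 by norm_num, pow_add]
    exact hA2 _ hg3
  have hnA : n ∉ A := fun h => hg₀A (by
    have e : g₀ = g₀ ^ 3 * n⁻¹ := by rw [hn]; group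
    rw [e]; exact mul_mem hg3 (inv_mem h))
  have hn1 : n ≠ 1 := fun h => hnA (h ▸ one_mem A)
  have hnN : n ∈ N := mul_mem hg₀ hg₀
  have hno : orderOf n = 3 := orderOf_eq_prime hn3 hn1
  have hnn : n * n * n = 1 := by rw [← hn3]; simp [pow_succ]
  have hnz : n * z ≠ z * n := fun h => hnA (mz n h)
  have hn2A : n * n ∉ A := fun h => hnA (by
    have e : n = (n * n) * (n * n) := by
      calc n = n * (n * n * n) := by rw [hnn, mul_one]
        _ = (n * n) * (n * n) := by group
    rw [e]; exact mul_mem h h)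
  -- the orbit of `z`
  have hp : n * z * n⁻¹ = a ∨ n * z * n⁻¹ = a * z := by
    rcases hW n z (by simp) (hconjA n hnN z hzA) with h | h | h
    · exact absurd (mul_inv_eq_iff_eq_mul.1 h) hnz
    · exact Or.inl h
    · exact Or.inr h
  have hr : n * n * z * (n * n)⁻¹ = a ∨ n * n * z * (n * n)⁻¹ = a * z := by
    rcases hW (n * n) z (by simp) (hconjA _ (mul_mem hnN hnN) z hzA) with h | h | h
    · exact absurd (mz _ (mul_inv_eq_iff_eq_mul.1 h)) hn2A
    · exact Or.inl h
    · exact Or.inr h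
  have hpr : n * z * n⁻¹ ≠ n * n * z * (n * n)⁻¹ := fun h => hnz (by
    have e : z = n * z * n⁻¹ := by
      calc z = n⁻¹ * (n * z * n⁻¹) * n := by group
        _ = n⁻¹ * (n * n * z * (n * n)⁻¹) * n := by rw [h]
        _ = n * z * n⁻¹ := by group
    exact (mul_inv_eq_iff_eq_mul.1 e.symm))
  -- every element of `N` is `A` times a power of `n`
  have hNdec : ∀ h ∈ N, h ∈ A ∨ n⁻¹ * h ∈ A ∨ (n * n)⁻¹ * h ∈ A := by
    intro h hh
    have key : ∀ m : Y, h * z * h⁻¹ = m * z * m⁻¹ → m⁻¹ * h ∈ A := fun m e => mz _ (by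
      calc m⁻¹ * h * z = m⁻¹ * (h * z * h⁻¹) * h := by group
        _ = m⁻¹ * (m * z * m⁻¹) * h := by rw [e]
        _ = z * (m⁻¹ * h) := by group)
    rcases hW h z (by simp) (hconjA h hh z hzA) with e | e | e
    · exact Or.inl (mz h (mul_inv_eq_iff_eq_mul.1 e))
    all_goals
      rcases hp with p1 | p1 <;> rcases hr with r1 | r1
      all_goals first
        | exact absurd (p1.trans r1.symm) hpr
        | exact Or.inr (Or.inl (key n (e.trans p1.symm)))
        | exact Or.inr (Or.inr (key (n * n) (e.trans r1.symm)))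
  -- conjugation by `n` on `A`, and the norm map
  letI : CommGroup A := { (inferInstance : Group A) with
    mul_comm := fun u v => Subtype.ext (hcomm u u.2 v v.2) }
  let c : A →* A :=
    { toFun := fun v => ⟨n * v * n⁻¹, hconjA n hnN v v.2⟩
      map_one' := Subtype.ext (by simp)
      map_mul' := fun u v => Subtype.ext (by push_cast; group) }
  have hcv : ∀ v : A, ((c v : A) : Y) = n * v * n⁻¹ := fun v => rfl
  have hc3 : ∀ v : A, c (c (c v)) = v := fun v => Subtype.ext (by
    rw [hcv, hcv, hcv]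
    calc n * (n * (n * v * n⁻¹) * n⁻¹) * n⁻¹ = (n * n * n) * v * (n * n * n)⁻¹ := by group
      _ = (v : Y) := by rw [hnn]; group)
  have hsq : ∀ v : A, v * v = 1 := fun v => Subtype.ext (hA2 v v.2)
  let φ : A →* A := MonoidHom.id A * c * c.comp c
  have hφ : ∀ v : A, φ v = v * c v * c (c v) := fun v => rfl
  have hφc : ∀ v : A, φ (c v) = φ v := fun v => by
    rw [hφ, hφ, hc3, mul_comm (c v * c (c v)) v, mul_assoc]
  have hφfix : ∀ v : A, c v = v → φ v = v := fun v h => by rw [hφ, h, h, hsq, one_mul]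
  have hcφ : ∀ v : A, c (φ v) = φ v := fun v => by
    rw [hφ, map_mul, map_mul, hc3, mul_comm (c v * c (c v)) v, mul_assoc]
  set zA : A := ⟨z, hzA⟩ with hzAd
  set aA : A := ⟨a, haA⟩ with haAd
  have hφz : φ zA = 1 := by
    apply Subtype.ext
    rw [hφ]
    push_cast
    simp only [hcv, hzAd]
    have e : n * (n * z * n⁻¹) * n⁻¹ = n * n * z * (n * n)⁻¹ := by group
    rw [e]
    rcases hp with p1 | p1 <;> rcases hr with r1 | r1
    · exact absurd (p1.trans r1.symm) hpr
    · rw [p1, r1, hza]; exact hA2 _ hazA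
    · rw [p1, r1, ← mul_assoc z, hza, mul_assoc a, hz2, mul_one, ha2]
    · exact absurd (p1.trans r1.symm) hpr
  have hφa : φ aA = 1 := by
    rcases hp with p1 | p1
    · rw [show aA = c zA from Subtype.ext p1.symm, hφc, hφz]
    · have e : aA * zA = c zA := Subtype.ext p1.symm
      have := congrArg φ e
      rwa [map_mul, hφc, hφz, mul_one] at this
  -- elements of `A` fixed by `n`
  by_cases hfix : ∀ v : A, c v = v → v = 1
  · -- then all centralizers of involutions of `A` are `A`
    exfalso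
    have hcen : ∀ u ∈ A, u ≠ 1 → ∀ x, x * u = u * x → x ∈ A := by
      intro u hu hu1 x hx
      set K := centralizer ({u} : Set Y) with hK
      have hAK : A ≤ K := fun v hv => mem_centralizer_singleton_iff.2 (hcomm v hv u hu)
      have hzK : z ∈ K := hAK hzA
      have htop : A.subgroupOf K = ⊤ := by
        refine eq_top_of_normalizer (z := (⟨z, hzK⟩ : K)) (a := ⟨a, hAK haA⟩)
          (fun v hv => Subtype.ext (hA2 v hv))
          (IsPGroup.of_equiv hAp (subgroupOfEquivOfLe hAK).symm)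
          (fun h => hodd2 (h.trans ⟨K.index, (relIndex_mul_index hAK).symm⟩))
          hzA haA (Subtype.ext hza) (fun y h => mz y (congrArg Subtype.val h))
          (fun y h => ma y (congrArg Subtype.val h))
          (fun y h => maz y (congrArg Subtype.val h)) ?_
        intro y hy
        have hyN : (y : Y) ∈ N := mem_normalizer_iff.2 fun v => by
          refine ⟨fun hv => ?_, fun hv => ?_⟩
          · exact (mem_normalizer_iff.1 hy ⟨v, hAK hv⟩).1 hv
          · have hvK : v ∈ K := by
              have := mul_mem (mul_mem (inv_mem y.2) (hAK hv)) y.2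
              simpa [mul_assoc] using this
            exact (mem_normalizer_iff.1 hy ⟨v, hvK⟩).2 hv
        have hyu : (y : Y) * u = u * y := mem_centralizer_singleton_iff.1 y.2
        have hfu : ∀ m : Y, m⁻¹ * (y : Y) ∈ A → m * u = u * m := fun m hm => by
          have h2 := hcomm _ hm u hu
          calc m * u = y * (((m⁻¹ * y)⁻¹) * (u * (m⁻¹ * y))) * (m⁻¹ * (y : Y))⁻¹ := by group
            _ = y * u * (m⁻¹ * (y : Y))⁻¹ := by rw [← h2]; group
            _ = u * m := by rw [hyu]; group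
        have hnu : ¬ n * u = u * n := fun h => hu1 (congrArg Subtype.val
          (hfix ⟨u, hu⟩ (Subtype.ext (mul_inv_eq_iff_eq_mul.2 h))))
        rcases hNdec _ hyN with h | h | h
        · exact h
        · exact absurd (hfu n h) hnu
        · refine absurd ?_ hnu
          have h4 : (n * n) * (n * n) = n := by
            calc (n * n) * (n * n) = n * (n * n * n) := by group
              _ = n := by rw [hnn, mul_one]
          have := Commute.mul_left (hfu (n * n) h) (hfu (n * n) h)
          rwa [h4] at this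
      have hxK : x ∈ K := mem_centralizer_singleton_iff.2 hx
      have : (⟨x, hxK⟩ : K) ∈ A.subgroupOf K := htop ▸ mem_top _
      exact this
    obtain ⟨u, huA, hu1, huT⟩ : ∃ u ∈ A, u ≠ 1 ∧ u ∉ ({z, a, a * z} : Set Y) := by
      by_contra hcon
      push Not at hcon
      have hsub : (A : Set Y) ⊆ ↑({1, z, a, a * z} : Finset Y) := fun v hv => by
        by_cases h1 : v = 1
        · simp [h1]
        · have := hcon v hv h1
          simp at this ⊢
          tauto
      have := Nat.card_mono (Set.toFinite _) hsub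
      rw [Nat.card_coe_set_eq (↑({1, z, a, a * z} : Finset Y) : Set Y), Set.ncard_coe_finset] at this
      have h4 := Finset.card_le_four (a := (1 : Y)) (b := z) (c := a) (d := a * z)
      have h16 : Nat.card (A : Set Y) = 16 := hA
      omega
    obtain ⟨g, w, hw, hgw⟩ := hout
    have hw2 : w * w = 1 := by
      rcases hw with rfl | rfl | rfl
      exacts [hz2, ha2, hA2 _ hazA]
    have hx2 : g * w * g⁻¹ * (g * w * g⁻¹) = 1 := by
      calc g * w * g⁻¹ * (g * w * g⁻¹) = g * (w * w) * g⁻¹ := by group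
        _ = 1 := by rw [hw2]; group
    rcases conj_or_common hx2 (hA2 u huA) (fun h => hgw (h ▸ huA)) with ⟨h, hh⟩ | ⟨d, -, hd1, hdx, hdu⟩
    · have e : h * g * w * (h * g)⁻¹ = u := by rw [← hh]; group
      exact huT (e ▸ hW (h * g) w hw (e ▸ huA))
    · exact hgw (hcen d (hcen u huA hu1 d hdu) hd1 _ hdx.symm)
  -- the main case
  push Not at hfix
  obtain ⟨s, hs, hs1⟩ := hfix
  have hker : ∀ v : A, φ v = 1 → (v : Y) = 1 ∨ (v : Y) = z ∨ (v : Y) = a ∨ (v : Y) = a * z := by
    intro u hu
    by_contra hcon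
    have k1 : zA * aA = aA * zA := mul_comm _ _
    have k2 : aA * (aA * zA) = zA := by rw [← mul_assoc, hsq, one_mul]
    have k3 : zA * (aA * zA) = aA := by rw [mul_comm zA, mul_assoc, hsq, mul_one]
    have k4 : aA * zA * zA = aA := by rw [mul_assoc, hsq, mul_one]
    have k5 : aA * zA * aA = zA := by rw [mul_comm, k2]
    let W : Subgroup A :=
      { carrier := {v | v = 1 ∨ v = zA ∨ v = aA ∨ v = aA * zA}
        one_mem' := Or.inl rfl
        mul_mem' := by
          intro v w hv hw
          rcases hv with rfl | rfl | rfl | rfl <;> rcases hw with rfl | rfl | rfl | rfl <;>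
            simp [hsq, k1, k2, k3, k4, k5]
        inv_mem' := by
          intro v hv
          rwa [inv_eq_of_mul_eq_one_right (hsq v)] }
    have hWk : W ≤ φ.ker := by
      intro v hv
      rw [MonoidHom.mem_ker]
      rcases hv with rfl | rfl | rfl | rfl
      exacts [map_one φ, hφz, hφa, by rw [map_mul, hφa, hφz, one_mul]]
    have hW4 : Nat.card W = 4 := by
      have hset : (W : Set A) = ↑({1, zA, aA, aA * zA} : Finset A) := by
        ext v; simp [W]
      show Nat.card (W : Set A) = 4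
      rw [hset, Nat.card_coe_set_eq, Set.ncard_coe_finset]
      have e1 : zA ≠ 1 := fun h => hz1 (congrArg Subtype.val h)
      have e2 : aA ≠ 1 := fun h => ha1 (congrArg Subtype.val h)
      have e3 : aA * zA ≠ 1 := fun h => haz1 (congrArg Subtype.val h)
      have e4 : aA ≠ zA := fun h => haz (congrArg Subtype.val h)
      have e5 : zA ≠ aA * zA := fun h => e2 (by simpa using h.symm)
      have e6 : aA ≠ aA * zA := fun h => e1 (by simpa using h.symm)
      simp [e1.symm, e2.symm, e3.symm, e4.symm, e5, e6]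
    have huW : u ∉ W := by
      rintro (rfl | rfl | rfl | rfl)
      exacts [hcon (Or.inl rfl), hcon (Or.inr (Or.inl rfl)), hcon (Or.inr (Or.inr (Or.inl rfl))),
        hcon (Or.inr (Or.inr (Or.inr rfl)))]
    have hk16 : Nat.card φ.ker ≠ 16 := fun h => hs1 (by
      have htop : φ.ker = ⊤ := eq_top_of_card_eq _ (by rw [h, hA])
      rw [← hφfix s hs]
      exact MonoidHom.mem_ker.1 (htop ▸ mem_top s))
    have hrel : W.relIndex φ.ker = 2 := by
      have hmul : Nat.card W * W.relIndex φ.ker = Nat.card φ.ker := by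
        rw [relIndex, ← Nat.card_congr (subgroupOfEquivOfLe hWk).toEquiv]
        exact card_mul_index _
      have hdvd : Nat.card φ.ker ∣ 16 := hA ▸ card_subgroup_dvd_card φ.ker
      have hne1 : W.relIndex φ.ker ≠ 1 := fun h =>
        huW (relIndex_eq_one.1 h (MonoidHom.mem_ker.2 hu))
      rw [hW4] at hmul
      rw [← hmul] at hdvd hk16
      have hd4 : W.relIndex φ.ker ∣ 4 := Nat.dvd_of_mul_dvd_mul_left (by norm_num) hdvd
      have := (Nat.dvd_prime_pow Nat.prime_two (m := 2)).1 (by simpa using hd4)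
      obtain ⟨j, hj, hje⟩ := this
      interval_cases j
      exacts [absurd (by simpa using hje) hne1, by simpa using hje, absurd (by rw [hje]; norm_num) hk16]
    have hcW : ∀ v : A, v ∈ W → c v ∈ W := by
      intro v hv
      have hT : ∀ t ∈ ({z, a, a * z} : Set Y), ∀ t' : A, (t' : Y) = t → c t' ∈ W := by
        intro t ht t' e
        have h := hW n t ht (hconjA n hnN t (e ▸ t'.2))
        rw [← e, ← hcv] at h
        rcases h with h | h | h
        · exact Or.inr (Or.inl (Subtype.ext h))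
        · exact Or.inr (Or.inr (Or.inl (Subtype.ext h)))
        · exact Or.inr (Or.inr (Or.inr (Subtype.ext h)))
      rcases hv with rfl | rfl | rfl | rfl
      exacts [by rw [map_one]; exact one_mem W, hT z (by simp) _ rfl, hT a (by simp) _ rfl,
        hT (a * z) (by simp) _ rfl]
    have hcu : c u ∉ W := fun h => huW (by
      have := hcW _ (hcW _ h)
      rwa [hc3] at this)
    have hmul : u * c u ∈ W := by
      have h2 : (W.subgroupOf φ.ker).index = 2 := hrel
      have := (Subgroup.mul_mem_iff_of_index_two h2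
        (a := ⟨u, MonoidHom.mem_ker.2 hu⟩) (b := ⟨c u, MonoidHom.mem_ker.2 (by rw [hφc, hu])⟩)).2
        (iff_of_false (fun h => huW h) (fun h => hcu h))
      exact this
    set w := u * c u with hw
    have hwW : φ w = 1 := MonoidHom.mem_ker.1 (hWk hmul)
    -- `u * c w` is fixed by `n`
    have hfixed : c (u * c w) = u * c w := by
      have e1 : c (c w) = w * c w := by
        have h := hwW
        rw [hφ, mul_eq_one_iff_eq_inv, inv_eq_of_mul_eq_one_right (hsq _)] at h
        exact h.symm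
      have e2 : c u = u * w := by rw [hw, ← mul_assoc, hsq, one_mul]
      rw [map_mul, e1, e2, mul_assoc, ← mul_assoc w, hsq, one_mul]
    have h1 : φ (u * c w) = 1 := by rw [map_mul, hu, hφc, hwW, one_mul]
    rw [hφfix _ hfixed] at h1
    have huc : u = c w := by
      rw [← inv_eq_of_mul_eq_one_right (hsq (c w))]
      exact mul_eq_one_iff_eq_inv.1 h1
    exact huW (huc ▸ hcW w hmul)
  -- transfer to the fixed part
  let φ' : A →* φ.range := φ.rangeRestrict
  haveI : A.FiniteIndex := inferInstance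
  let P : Sylow 2 Y := hAp.toSylow hodd2
  have hP : (P : Subgroup Y) = A := IsPGroup.toSylow_coe hAp hodd2
  haveI : IsMulCommutative P := ⟨⟨fun u v => Subtype.ext (hcomm u (hP ▸ u.2) v (hP ▸ v.2))⟩⟩
  have hfus : ∀ (x y : A) (g : Y), g⁻¹ * (x : Y) * g = y → φ' y = φ' x := by
    intro x y g hg
    apply Subtype.ext
    show φ y = φ x
    obtain ⟨m, hm, he⟩ := P.conj_eq_normalizer_conj_of_mem (x : Y) g
      (show (x : Y) ∈ (P : Subgroup Y) by rw [hP]; exact x.2)
      (show g⁻¹ * (x : Y) * g ∈ (P : Subgroup Y) by rw [hg, hP]; exact y.2)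
    rw [hg] at he
    replace hm : m ∈ N := by
      have hm' : m ∈ normalizer ((P : Subgroup Y) : Set Y) := hm
      rwa [hP] at hm'
    rcases hNdec m⁻¹ (inv_mem hm) with h | h | h
    · congr 1
      apply Subtype.ext
      rw [he, show m⁻¹ * (x : Y) * m = m⁻¹ * x * (m⁻¹)⁻¹ by group, hcomm _ h _ x.2]
      group
    · rw [← hφc x]
      congr 1
      apply Subtype.ext
      rw [he, hcv, show m⁻¹ * (x : Y) * m = n * ((n⁻¹ * m⁻¹) * x * (n⁻¹ * m⁻¹)⁻¹) * n⁻¹ by group,
        hcomm _ h _ x.2]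
      group
    · rw [← hφc x, ← hφc (c x)]
      congr 1
      apply Subtype.ext
      rw [he, hcv, hcv, show m⁻¹ * (x : Y) * m
          = n * (n * (((n * n)⁻¹ * m⁻¹) * x * ((n * n)⁻¹ * m⁻¹)⁻¹) * n⁻¹) * n⁻¹ by group,
        hcomm _ h _ x.2]
      group
  let τ : Y →* φ.range := MonoidHom.transfer φ'
  have hτ : ∀ v : A, τ v = φ' v := fun v => by
    show MonoidHom.transfer φ' (v : Y) = φ' v
    rw [transfer_eq_pow_fusion φ' hfus v]
    obtain ⟨j, hj⟩ := hodd
    rw [hj, pow_succ, pow_mul, sq, show φ' v * φ' v = 1 from Subtype.ext (hsq _), one_pow, one_mul]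
  set Y0 := τ.ker with hY0
  have hY0A : ∀ x ∈ Y0, x ∈ A → x = 1 ∨ x = z ∨ x = a ∨ x = a * z := by
    intro x hx hxA
    refine hker ⟨x, hxA⟩ ?_
    have h := MonoidHom.mem_ker.1 hx
    rw [show x = ((⟨x, hxA⟩ : A) : Y) from rfl, hτ] at h
    exact congrArg Subtype.val h
  have hzY : z ∈ Y0 := MonoidHom.mem_ker.2 ((hτ zA).trans (Subtype.ext hφz))
  have haY : a ∈ Y0 := MonoidHom.mem_ker.2 ((hτ aA).trans (Subtype.ext hφa))
  have hnY : n ∈ Y0 := by
    refine MonoidHom.mem_ker.2 ?_
    have h3 : τ n ^ 3 = 1 := by rw [← map_pow, hn3, map_one]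
    have h2 : τ n * τ n = 1 := Subtype.ext (hsq _)
    rw [pow_succ, sq, h2, one_mul] at h3
    exact h3
  have hrange : ∀ r : φ.range, τ ((r : A) : Y) = r := by
    rintro ⟨_, v, rfl⟩
    rw [hτ]
    exact Subtype.ext (hφfix _ (hcφ v))
  have h8 : ¬ 8 ∣ Nat.card Y0 := by
    intro h8
    have hsurj : Function.Surjective τ := fun r => ⟨_, hrange r⟩
    have hidx : Y0.index = Nat.card φ.range := by
      rw [hY0, index_ker, MonoidHom.range_eq_top.2 hsurj, card_top]
    have hkc : Nat.card φ.ker * Nat.card φ.range = 16 := by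
      rw [← index_ker, card_mul_index, hA]
    have hk4 : Nat.card φ.ker ≤ 4 := by
      have hsub : ((φ.ker : Subgroup A) : Set A) ⊆ ↑({1, zA, aA, aA * zA} : Finset A) := fun v hv => by
        simp only [Finset.coe_insert, Finset.coe_singleton, Set.mem_insert_iff,
          Set.mem_singleton_iff]
        rcases hker v hv with h | h | h | h
        exacts [Or.inl (Subtype.ext h), Or.inr (Or.inl (Subtype.ext h)),
          Or.inr (Or.inr (Or.inl (Subtype.ext h))), Or.inr (Or.inr (Or.inr (Subtype.ext h)))]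
      refine (Nat.card_mono (Set.toFinite _) hsub).trans ?_
      rw [Nat.card_coe_set_eq, Set.ncard_coe_finset]
      exact Finset.card_le_four
    have h2r : 4 ∣ Nat.card φ.range := by
      have hp2 : IsPGroup 2 φ.range := hAp.to_subgroup φ.range
      obtain ⟨j, hj⟩ := IsPGroup.iff_card.1 hp2
      rw [hj] at hkc ⊢
      rcases Nat.lt_or_ge j 2 with h | h
      · exfalso
        interval_cases j <;> omega
      · exact pow_dvd_pow 2 h
    have hY : Nat.card Y = 16 * A.index := by rw [← card_mul_index A, hA]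
    have h32 : 32 ∣ Nat.card Y := by
      rw [← card_mul_index Y0, hidx]
      exact mul_dvd_mul h8 h2r
    rw [hY, show 32 = 16 * 2 by norm_num] at h32
    exact hodd2 (Nat.dvd_of_mul_dvd_mul_left (by norm_num) h32)
  have hout0 : ∃ x : Y0, orderOf x = 2 ∧
      ¬ (x = ⟨z, hzY⟩ ∨ x = ⟨a, haY⟩ ∨ x = ⟨a, haY⟩ * ⟨z, hzY⟩) := by
    obtain ⟨g, w, hw, hgw⟩ := hout
    have hwY : w ∈ Y0 := by
      rcases hw with rfl | rfl | rfl
      exacts [hzY, haY, mul_mem haY hzY]
    refine ⟨⟨g * w * g⁻¹, (inferInstance : τ.ker.Normal).conj_mem w hwY g⟩, ?_, ?_⟩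
    · rw [orderOf_mk]
      refine orderOf_two ?_ (fun h => hgw (h ▸ one_mem A))
      have hw2 : w * w = 1 := by
        rcases hw with rfl | rfl | rfl
        exacts [hz2, ha2, hA2 _ hazA]
      calc g * w * g⁻¹ * (g * w * g⁻¹) = g * (w * w) * g⁻¹ := by group
        _ = 1 := by rw [hw2]; group
    · rintro (h | h | h) <;> apply hgw <;> rw [show g * w * g⁻¹ = _ from congrArg Subtype.val h]
      exacts [hzA, haA, hazA]
  have lift : ∀ w : Y0, (∀ x, x * (w : Y) = (w : Y) * x → x ∈ A) → ∀ x : Y0, x * w = w * x →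
      x = 1 ∨ x = ⟨z, hzY⟩ ∨ x = ⟨a, haY⟩ ∨ x = ⟨a, haY⟩ * ⟨z, hzY⟩ := fun w hw x hx => by
    rcases hY0A x x.2 (hw x (congrArg Subtype.val hx)) with h | h | h | h
    exacts [Or.inl (Subtype.ext h), Or.inr (Or.inl (Subtype.ext h)),
      Or.inr (Or.inr (Or.inl (Subtype.ext h))), Or.inr (Or.inr (Or.inr (Subtype.ext h)))]
  obtain ⟨e⟩ := iso_alt_five (z := (⟨z, hzY⟩ : Y0)) (a := ⟨a, haY⟩) (Subtype.ext hz2)
    (fun h => hz1 (congrArg Subtype.val h)) (Subtype.ext ha2)
    (fun h => ha1 (congrArg Subtype.val h)) (fun h => haz (congrArg Subtype.val h))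
    (Subtype.ext hza) (lift _ mz) (lift _ ma) (lift _ maz) hout0 h8
  set nY : Y0 := ⟨n, hnY⟩ with hnYd
  have en3 : e nY * e nY * e nY = 1 := by
    rw [← map_mul, ← map_mul, show nY * nY * nY = 1 from Subtype.ext hnn, map_one]
  have en1 : e nY ≠ 1 := fun h => hn1 (congrArg Subtype.val ((MulEquiv.map_eq_one_iff e).1 h))
  obtain ⟨x, hx2, hx1, hxn⟩ := alt_inverter _ en3 en1
  obtain ⟨g, hg⟩ := alt_conj (e ⟨z, hzY⟩)
    (by rw [← map_mul, show (⟨z, hzY⟩ * ⟨z, hzY⟩ : Y0) = 1 from Subtype.ext hz2, map_one])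
    (fun h => hz1 (congrArg Subtype.val ((MulEquiv.map_eq_one_iff e).1 h))) x hx2 hx1
  refine ⟨n, ((e.symm g : Y0) : Y), hnN, hno, hnz, ?_, ?_⟩
  · have hxe : x = e (e.symm g * ⟨z, hzY⟩ * (e.symm g)⁻¹) := by
      rw [map_mul, map_mul, map_inv, e.apply_symm_apply, hg]
    have hxi : x⁻¹ = x := inv_eq_of_mul_eq_one_right hx2
    have h : (e.symm g * ⟨z, hzY⟩ * (e.symm g)⁻¹) * nY *
        (e.symm g * ⟨z, hzY⟩ * (e.symm g)⁻¹)⁻¹ = nY⁻¹ := e.injective (by
      rw [map_mul, map_mul, map_inv, map_inv, ← hxe, hxi, hxn]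
      exact eq_inv_of_mul_eq_one_left en3)
    simpa using congrArg Subtype.val h
  · intro v hv
    set r : A := (τ v : A) with hr'
    have hrn : (r : Y) * n = n * r := by
      obtain ⟨u, hu⟩ := (τ v).2
      have h := congrArg Subtype.val (hcφ u)
      rw [hcv, hu] at h
      exact (mul_inv_eq_iff_eq_mul.1 h).symm
    have hmem : v * (r : Y)⁻¹ ∈ Y0 := MonoidHom.mem_ker.2 (by
      rw [map_mul, map_inv, hr', hrange, mul_inv_cancel])
    have hcomm' : (⟨_, hmem⟩ : Y0) * nY = nY * ⟨_, hmem⟩ := Subtype.ext (by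
      show v * (r : Y)⁻¹ * n = n * (v * (r : Y)⁻¹)
      exact (show Commute v n from hv).mul_left (show Commute (r : Y) n from hrn).inv_left)
    have hee := congrArg e hcomm'
    rw [map_mul, map_mul] at hee
    rcases alt_centralizer _ en3 en1 _ hee with h | h | h
    · refine ⟨0, r, r.2, hrn, ?_⟩
      rw [pow_zero, one_mul, ← mul_inv_eq_one]
      exact congrArg Subtype.val ((MulEquiv.map_eq_one_iff e).1 h)
    · refine ⟨1, r, r.2, hrn, ?_⟩
      rw [pow_one, ← mul_inv_eq_iff_eq_mul]
      exact congrArg Subtype.val (e.injective h)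
    · refine ⟨2, r, r.2, hrn, ?_⟩
      rw [sq, ← mul_inv_eq_iff_eq_mul]
      rw [← map_mul] at h
      exact congrArg Subtype.val (e.injective h)

/-- In `3 × A₅` the fixed points of `β` contain a subgroup of order 9. -/
theorem three_not_dvd_index {C : Type*} [Group C] [Finite C] {z a d : C} (hz : orderOf z = 2)
    (ha : orderOf a = 2) (haz : a ≠ z) (hza : Commute z a) (hd : orderOf d = 3)
    (hdc : ∀ x : C, Commute d x) (h8 : ¬ 8 ∣ Nat.card C)
    (hc : ∀ w ∈ ({z, a, a * z} : Set C), Nat.card (Subgroup.centralizer ({w} : Set C)) = 12)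
    (hout : ∃ x : C, orderOf x = 2 ∧ x ∉ ({z, a, a * z} : Set C)) (β : MulAut C)
    (hβ2 : ∀ x, β (β x) = x) (hβd : β d = d) (hβz : β z = z) (hβa : β a = a * z)
    (K : Subgroup C) (hK : ∀ x, x ∈ K ↔ β x = x) : ¬ 3 ∣ K.index := by
  classical
  obtain ⟨hz2, hz1⟩ := sq_one hz
  obtain ⟨ha2, ha1⟩ := sq_one ha
  have hzi : z⁻¹ = z := inv_eq_of_mul_eq_one_right hz2
  have haz1 : a * z ≠ 1 := fun h => haz (by rw [mul_eq_one_iff_eq_inv.1 h, hzi])
  have haz2 : a * z * (a * z) = 1 := by
    rw [mul_assoc, ← mul_assoc z, hza.eq, mul_assoc a z, hz2, mul_one, ha2]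
  set D := zpowers d with hD
  haveI : D.Normal := ⟨fun x hx g => by
    obtain ⟨k, rfl⟩ := mem_zpowers_iff.1 hx
    rw [((hdc g).zpow_left k).symm.eq, mul_inv_cancel_right]
    exact zpow_mem (mem_zpowers d) k⟩
  set π := QuotientGroup.mk' D
  have hπd : ∀ x, π x = 1 → ∃ k : ℤ, d ^ k = x := fun x hx =>
    mem_zpowers_iff.1 ((QuotientGroup.eq_one_iff x).1 hx)
  have hd2 : ∀ x, π x = 1 → x * x = 1 → x = 1 := fun x hx h2 => by
    have h3 : x ^ 3 = 1 := by
      obtain ⟨k, rfl⟩ := hπd x hx
      rw [← zpow_natCast (d ^ k) 3, ← zpow_mul, mul_comm, zpow_mul,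
        show d ^ ((3 : ℕ) : ℤ) = 1 by rw [zpow_natCast, ← hd, pow_orderOf_eq_one], one_zpow]
    rw [pow_succ, sq, h2, one_mul] at h3
    exact h3
  have hinvol : ∀ x y, x * x = 1 → y * y = 1 → π x = π y → x = y := fun x y hx hy h => by
    obtain ⟨k, hk⟩ := hπd (x⁻¹ * y) (by rw [map_mul, map_inv, h, inv_mul_cancel])
    have hy' : y = x * d ^ k := by rw [hk, mul_inv_cancel_left]
    have hcomm : Commute x (d ^ k) := ((hdc x).zpow_left k).symm
    have h1 : d ^ k * d ^ k = 1 := by
      rw [hy'] at hy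
      calc d ^ k * d ^ k = x * x * (d ^ k * d ^ k) := by rw [hx, one_mul]
        _ = x * (x * d ^ k) * d ^ k := by group
        _ = x * (d ^ k * x) * d ^ k := by rw [hcomm.eq]
        _ = x * d ^ k * (x * d ^ k) := by group
        _ = 1 := hy
    rw [hy', hd2 _ ((QuotientGroup.eq_one_iff _).2 (zpow_mem (mem_zpowers d) k)) h1, mul_one]
  -- the centralizers in the quotient
  have hcent : ∀ w ∈ ({z, a, a * z} : Set C), ∀ g, π g * π w = π w * π g →
      π g = 1 ∨ π g = π z ∨ π g = π a ∨ π g = π (a * z) := by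
    intro w hw g hg
    have hw2 : w * w = 1 := by
      rcases hw with rfl | rfl | rfl
      exacts [hz2, ha2, haz2]
    have hgw : g * w * g⁻¹ = w := hinvol _ _ (by
        calc g * w * g⁻¹ * (g * w * g⁻¹) = g * (w * w) * g⁻¹ := by group
          _ = 1 := by rw [hw2]; group) hw2
      (by rw [map_mul, map_mul, map_inv, hg]; group)
    set Cw := centralizer ({w} : Set C) with hCw
    have hgC : g ∈ Cw := mem_centralizer_singleton_iff.2 (mul_inv_eq_iff_eq_mul.1 hgw)
    let S : Finset C := {1, z, a, a * z}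
    have hS : ∀ s ∈ S, s * s = 1 ∧ s * w = w * s := by
      intro s hs
      simp only [S, Finset.mem_insert, Finset.mem_singleton] at hs
      have hcz : Commute (a * z) z := (hza.symm).mul_left (Commute.refl z)
      have hca : Commute (a * z) a := (Commute.refl a).mul_left hza
      rcases hs with rfl | rfl | rfl | rfl
      · simp
      · refine ⟨hz2, ?_⟩
        rcases hw with rfl | rfl | rfl
        exacts [rfl, hza.eq, hcz.symm.eq]
      · refine ⟨ha2, ?_⟩
        rcases hw with rfl | rfl | rfl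
        exacts [hza.symm.eq, rfl, hca.symm.eq]
      · refine ⟨haz2, ?_⟩
        rcases hw with rfl | rfl | rfl
        exacts [hcz.eq, hca.eq, rfl]
    let F : S × D → Cw := fun p => ⟨(p.1 : C) * p.2, mul_mem
      (mem_centralizer_singleton_iff.2 (hS p.1 p.1.2).2)
      (mem_centralizer_singleton_iff.2 (by
        obtain ⟨k, hk⟩ := mem_zpowers_iff.1 p.2.2
        rw [← hk]; exact ((hdc w).zpow_left k).eq))⟩
    have hFinj : Function.Injective F := by
      rintro ⟨s, u⟩ ⟨t, v⟩ h
      have h' : (s : C) * u = t * v := congrArg Subtype.val h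
      have hst : (s : C) = t := hinvol _ _ (hS s s.2).1 (hS t t.2).1 (by
        have := congrArg π h'
        rwa [map_mul, map_mul, show π (u : C) = 1 from (QuotientGroup.eq_one_iff _).2 u.2,
          show π (v : C) = 1 from (QuotientGroup.eq_one_iff _).2 v.2, mul_one, mul_one] at this)
      rw [hst] at h'
      exact Prod.ext (Subtype.ext hst) (Subtype.ext (mul_left_cancel h'))
    have hS4 : Nat.card S = 4 := by
      rw [Nat.card_eq_fintype_card, Fintype.card_coe]
      have n1 : z ≠ a * z := fun h => ha1 (by simpa using h.symm)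
      have n2 : a ≠ a * z := fun h => hz1 (by simpa using h.symm)
      simp [S, hz1.symm, ha1.symm, haz1.symm, haz.symm, n1, n2]
    have hsurj : Function.Surjective F := by
      refine (Function.Injective.bijective_of_nat_card_le hFinj ?_).2
      rw [Nat.card_prod, hS4, hD, Nat.card_zpowers, hd]
      exact (hc w hw).le
    obtain ⟨⟨s, u⟩, hsu⟩ := hsurj ⟨g, hgC⟩
    have hg' : g = (s : C) * u := (congrArg Subtype.val hsu).symm
    have hπg : π g = π (s : C) := by
      rw [hg', map_mul, show π (u : C) = 1 from (QuotientGroup.eq_one_iff _).2 u.2, mul_one]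
    have hs := s.2
    simp only [S, Finset.mem_insert, Finset.mem_singleton] at hs
    rcases hs with h | h | h | h
    exacts [Or.inl (by rw [hπg, h, map_one]), Or.inr (Or.inl (by rw [hπg, h])),
      Or.inr (Or.inr (Or.inl (by rw [hπg, h]))), Or.inr (Or.inr (Or.inr (by rw [hπg, h])))]
  have hcQ : ∀ w ∈ ({z, a, a * z} : Set C), ∀ y : C ⧸ D, y * π w = π w * y →
      y = 1 ∨ y = π z ∨ y = π a ∨ y = π a * π z := fun w hw y hy => by
    obtain ⟨g, rfl⟩ := QuotientGroup.mk'_surjective D y
    rw [← map_mul π a z]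
    exact hcent w hw g hy
  have hcardQ : Nat.card C = Nat.card (C ⧸ D) * 3 := by
    rw [card_eq_card_quotient_mul_card_subgroup D, hD, Nat.card_zpowers, hd]
  obtain ⟨x₀, hx₀, hx₀T⟩ := hout
  obtain ⟨hx₀2, hx₀1⟩ := sq_one hx₀
  obtain ⟨e⟩ := iso_alt_five (z := π z) (a := π a) (by rw [← map_mul, hz2, map_one])
    (fun h => hz1 (hd2 z h hz2)) (by rw [← map_mul, ha2, map_one])
    (fun h => ha1 (hd2 a h ha2)) (fun h => haz (hinvol a z ha2 hz2 h))
    (by rw [← map_mul, ← map_mul, hza.eq]) (hcQ z (by simp)) (hcQ a (by simp))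
    (fun y hy => hcQ (a * z) (by simp) y (by rw [map_mul]; exact hy))
    ⟨π x₀, orderOf_two (by rw [← map_mul, hx₀2, map_one]) (fun h => hx₀1 (hd2 x₀ h hx₀2)), by
      rw [← map_mul π a z]
      rintro (h | h | h) <;> apply hx₀T
      · simp [hinvol _ _ hx₀2 hz2 h]
      · simp [hinvol _ _ hx₀2 ha2 h]
      · simp [hinvol _ _ hx₀2 haz2 h]⟩
    (fun h => h8 (h.trans ⟨3, hcardQ⟩))
  have hQ60 : Nat.card (C ⧸ D) = 60 := by
    rw [Nat.card_congr e.toEquiv, nat_card_alternatingGroup, Nat.card_fin]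
    rfl
  -- the composite to `A₅`
  set p : C →* alternatingGroup (Fin 5) := e.toMonoidHom.comp π with hp
  have hpker : ∀ x y, p x = p y → p (β x) = p (β y) := by
    intro x y h
    obtain ⟨k, hk⟩ := hπd (x⁻¹ * y) (by
      rw [map_mul, map_inv, e.injective h, inv_mul_cancel])
    have hy : y = x * d ^ k := by rw [hk, mul_inv_cancel_left]
    have hk1 : p (d ^ k) = 1 := by
      show e (π (d ^ k)) = 1
      rw [show π (d ^ k) = 1 from (QuotientGroup.eq_one_iff _).2 (zpow_mem (mem_zpowers d) k),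
        map_one]
    rw [hy, map_mul β, map_zpow, hβd, map_mul p, hk1, mul_one]
  have hp1 : ∀ x, p x = 1 → π x = 1 := fun x h => (MulEquiv.map_eq_one_iff e).1 h
  have pz2 : p z * p z = 1 := by rw [← map_mul, hz2, map_one]
  have pz1 : p z ≠ 1 := fun h => hz1 (hd2 z (hp1 z h) hz2)
  have pa2 : p a * p a = 1 := by rw [← map_mul, ha2, map_one]
  have pa1 : p a ≠ 1 := fun h => ha1 (hd2 a (hp1 a h) ha2)
  have paz : p a ≠ p z := fun h => haz (hinvol a z ha2 hz2 (e.injective h))
  have pza : p z * p a = p a * p z := by rw [← map_mul, hza.eq, map_mul]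
  obtain ⟨f', hf3, hf1, hfz⟩ := alt_inverted (p z) pz2 pz1
  obtain ⟨f, rfl⟩ : ∃ f, p f = f' := by
    obtain ⟨f, hf⟩ := QuotientGroup.mk'_surjective D (e.symm f')
    refine ⟨f, ?_⟩
    show e (π f) = f'
    rw [show π f = e.symm f' from hf, e.apply_symm_apply]
  have hb : ∀ x y, p x = p y → p (β x) = p (β y) := hpker
  have hbf3 : p (β f) * p (β f) * p (β f) = 1 := by
    have h : p (f * f * f) = p 1 := by rw [map_mul, map_mul, map_one, hf3]
    have := hb _ _ h
    rwa [map_mul, map_mul, map_one, map_mul, map_mul, map_one] at this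
  have hbf1 : p (β f) ≠ 1 := fun h => hf1 (by
    have h' : p (β f) = p 1 := by rw [h, map_one]
    have := hb _ _ h'
    rwa [hβ2, map_one, map_one] at this)
  have hbfz : p z * p (β f) * p z = p (β f) * p (β f) := by
    have h : p (z * f * z) = p (f * f) := by rw [map_mul, map_mul, map_mul, hfz]
    have := hb _ _ h
    simp only [map_mul, hβz] at this
    exact this
  -- a fixed element of order 3 in the quotient
  obtain ⟨f₁, hf₁1, hf₁⟩ : ∃ f₁, p f₁ ≠ 1 ∧ p f₁ * p f₁ * p f₁ = 1 ∧ p (β f₁) = p f₁ := by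
    rcases alt_two_subgroups (p z) pz2 pz1 (p a) pa2 pa1 paz pza (p f) hf3 hf1 hfz (p (β f))
      hbf3 hbf1 hbfz with h | h | h | h
    · exact ⟨f, hf1, hf3, h⟩
    · refine ⟨a * f * a, fun h' => hf1 ?_, ?_, ?_⟩
      · rw [map_mul, map_mul] at h'
        calc p f = p a * p a * p f * (p a * p a) := by rw [pa2, one_mul, mul_one]
          _ = p a * (p a * p f * p a) * p a := by group
          _ = 1 := by rw [h', mul_one, pa2]
      · rw [map_mul, map_mul]
        calc p a * p f * p a * (p a * p f * p a) * (p a * p f * p a)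
            = p a * p f * (p a * p a) * p f * (p a * p a) * p f * p a := by group
          _ = p a * (p f * p f * p f) * p a := by rw [pa2]; group
          _ = 1 := by rw [hf3, mul_one, pa2]
      · simp only [map_mul, hβa, h]
        calc p a * p z * (p f * p f) * (p a * p z)
            = p a * p z * (p f * p f) * (p z * p a) := by rw [pza]
          _ = p a * (p z * (p f * p f) * p z) * p a := by group
          _ = p a * p f * p a := by
              rw [← hfz]
              congr 2
              calc p z * (p z * p f * p z) * p z = (p z * p z) * p f * (p z * p z) := by group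
                _ = p f := by rw [pz2, one_mul, mul_one]
    all_goals exfalso
    all_goals
      have e0 : p a * p z * p a = p z := by
        rw [mul_assoc, pza, ← mul_assoc, pa2, one_mul]
    · have h' : p (β f) = p (a * f * a) := by rw [h, map_mul, map_mul]
      have := hb _ _ h'
      simp only [map_mul, hβ2, hβa, h] at this
      have e1 : p f = p f * p f := by
        calc p f = p a * p z * (p a * p f * p a) * (p a * p z) := this
          _ = (p a * p z * p a) * p f * (p a * p a) * p z := by group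
          _ = p z * p f * p z := by rw [e0, pa2, mul_one]
          _ = p f * p f := hfz
      exact hf1 (by simpa using e1)
    · have h' : p (β f) = p (a * (f * f) * a) := by rw [h, map_mul, map_mul, map_mul]
      have := hb _ _ h'
      simp only [map_mul, hβ2, hβa, h] at this
      have e1 : p f = p f * p f := by
        calc p f = p a * p z * (p a * (p f * p f) * p a * (p a * (p f * p f) * p a)) * (p a * p z) :=
              this
          _ = (p a * p z * p a) * (p f * p f) * (p a * p a) * (p f * p f) * (p a * p a) * p z := by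
            group
          _ = p z * ((p f * p f * p f) * p f) * p z := by rw [e0, pa2]; group
          _ = p f * p f := by rw [hf3, one_mul, hfz]
      exact hf1 (by simpa using e1)
  obtain ⟨k, hk⟩ := hπd (f₁⁻¹ * β f₁) (by
    rw [map_mul, map_inv, e.injective hf₁.2, inv_mul_cancel])
  have hf₁K : f₁ ∈ K := by
    rw [hK]
    have h1 : β f₁ = f₁ * d ^ k := by rw [hk, mul_inv_cancel_left]
    have h2 : d ^ k * d ^ k = 1 := by
      have h := hβ2 f₁
      rw [h1, map_mul, map_zpow, hβd, h1, mul_assoc] at h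
      simpa using h
    rw [h1, hd2 _ ((QuotientGroup.eq_one_iff _).2 (zpow_mem (mem_zpowers d) k)) h2, mul_one]
  have hDK : π.ker ≤ K := by
    rw [QuotientGroup.ker_mk', hD, zpowers_le, hK, hβd]
  intro h3
  rw [← index_map_eq K (QuotientGroup.mk'_surjective D) hDK] at h3
  have hord : 3 ∣ Nat.card (K.map π) := by
    have ho : orderOf (π f₁) = 3 := orderOf_eq_prime (by
      rw [pow_succ, sq]
      exact e.injective (by rw [map_mul, map_mul, map_one]; exact hf₁.1))
      (fun h => hf₁1 (by simp [hp, h]))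
    exact ho ▸ Subgroup.orderOf_dvd_natCard _ (mem_map_of_mem π hf₁K)
  have h9 : 3 * 3 ∣ 60 := by
    rw [← hQ60, ← card_mul_index (K.map π)]
    exact mul_dvd_mul hord h3
  norm_num at h9

end CfsgLib.AutLThreeFour70
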