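import Cfsg.Agent.AutLThreeFour70.Masks

/-!
# Checked facts deciding fusion in all four candidates
-/

set_option autoImplicit false
set_option maxRecDepth 100000
set_option Elab.async false

namespace CfsgLib.AutLThreeFour70

theorem chk_central : (List.range 4).all (fun k => codes.all fun n => com k n 16) = true := by
  decide +kernel

theorem chk_S : (List.range 4).all (fun k => grpOK k sMask && Nat.beq (size sMask) 256 &&
    Nat.testBit sMask 16 && (elems sMask).all fun n =>
      !isCen k sMask n || Nat.beq n 0 || Nat.beq n 16) = true := by
  decide +kernel

theorem chk_T1 : (List.range 4).all (fun k => grpOK k t1Mask && Nat.beq (size t1Mask) 128 &&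
    Nat.beq (sel fun n => com k n 1).length 384 &&
    (elems t1Mask).all fun n => com k n 1 &&
      (!(isCen k t1Mask n && isInv k n) || isW n)) = true ∧
    (List.range 4).all (fun k => Nat.testBit t1Mask 1 && Nat.testBit t1Mask 16 &&
      isCen k t1Mask 1 && isCen k t1Mask 16 && isInv k 1 && isInv k 17 && isInv k 16 &&
      Nat.beq (mul k 1 16) 17 && Nat.beq (mul k 1 17) 16 && Nat.beq (cj k 2 1) 17) = true := by
  decide +kernel

theorem chk_classes : (List.range 4).all (fun k => codes.all fun n => !isInv k n || isW n ||
    (repsA k ++ repsB k).any fun u => isCj k u n) = true := by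
  decide +kernel

theorem chk_repsA : (List.range 4).all (fun k => (repsA k).all fun u =>
    let T := tMask k u
    grpOK k T && Nat.testBit T u && Nat.testBit T 16 && Nat.blt u 768 && Nat.blt (size T) 256 &&
    (Nat.beq (sel fun n => com k n u).length (size T) ||
      Nat.beq (sel fun n => com k n u).length (3 * size T)) &&
    isSq k T 16 && isCen k T 16 &&
    (elems T).all fun x => com k x u &&
      (!(isInv k x && isCen k T x && isSq k T x) || Nat.beq x 16)) = true := by
  decide +kernel

theorem chk_repsB : (List.range 4).all (fun k => (repsB k).all fun u =>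
    let T := tMask k u
    grpOK k T && Nat.testBit T u && Nat.testBit T 16 && Nat.blt u 768 && Nat.blt (size T) 256 &&
    Nat.beq (sel fun n => com k n u).length (size T) &&
    Nat.testBit T 1 && Nat.testBit T 17 && Nat.beq (cSize k T 1) 16 && Nat.beq (cSize k T 17) 16 &&
    (elems T).all fun x => com k x u &&
      (!(isInv k x && Nat.beq (cSize k T x) 16) || isW x || isCj k u x)) = true := by
  decide +kernel

theorem chk_squares : (List.range 4).all (fun k => Nat.beq k 0 ||
    !Nat.beq (sel fun n => com k n 1 && Nat.beq (mul k n n) 16).length
      (sel fun n => com k n 1 && Nat.beq (mul k n n) 1).length) = true := by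
  decide +kernel

end CfsgLib.AutLThreeFour70
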