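import Cfsg.Agent.AutLThreeFour70.Code

/-!
# Two-subgroups in the coded centraliser, as bit sets
-/

set_option autoImplicit false

namespace CfsgLib.AutLThreeFour70

/-- A Sylow two-subgroup. -/
def sMask : ℕ := 0xffffffffffffffff000000000000000000000000000000000000000000000000ffffffff0000000000000000ffffffff00000000ffffffff00000000ffffffff000000000000000000000000000000000000000000000000ffffffffffffffff

/-- A Sylow two-subgroup of the centraliser of the code 1. -/
def t1Mask : ℕ := 0x333333333333333300000000000000000000000000000000000000000000000033333333000000000000000033333333000000003333333300000000333333330000000000000000000000000000000000000000000000003333333333333333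

/-- Sylow two-subgroups of the centralisers of further involutions. -/
def tMask : ℕ → ℕ → ℕ
  | 0, 2 => 0x5555555555555555
  | 0, 32 => 0xf000f000f000f
  | 0, 34 => 0xa500a500a500a500000000000000000000000000000000000000000000000000000000000000000000000000000000000000000000000000000000000000000000000000000000000000000000000000000000000000000a005a005a005a005
  | 0, 328 => 0x3000300c000c000000000000000000000000000000000000000000000000000000000000c000c0300030000000000003000300000c000c0000000000000000000000000000000000000000c000c000000000000000000000030003
  | 1, 2 => 0x5555555555555555
  | 1, 32 => 0xf000f000f000f
  | 1, 34 => 0x5a005a005a005a00000000000000000000000000000000000000000000000000000000000000000000000000000000000000000000000000000000000000000000000000000000000000000000000000000000000000000a005a005a005a005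
  | 2, 2 => 0x5555555555555555
  | 2, 35 => 0x69006900690069000000000000000000000000000000000000000000000000000000000000000000000000000000000000000000000000000000000000000000000000000000000000000000000000000000000000000006009600960096009
  | 2, 328 => 0x3000300c000c000000000000000000000000000000000000000000000000000000000000c000c0300030000000000003000300000c000c0000000000000000000000000000000000000000c000c000000000000000000000030003
  | 3, 2 => 0x5555555555555555
  | 3, 35 => 0x96009600960096000000000000000000000000000000000000000000000000000000000000000000000000000000000000000000000000000000000000000000000000000000000000000000000000000000000000000006009600960096009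
  | _, _ => 0

/-- Involutions whose centralisers have `z` as distinguished centre. -/
def repsA : ℕ → List ℕ
  | 0 => [2, 32, 34]
  | 1 => [2, 32, 34]
  | _ => [2, 35]

/-- The remaining involution class. -/
def repsB : ℕ → List ℕ
  | 0 => [328]
  | 2 => [328]
  | _ => []

/-- The bit set is a subgroup. -/
def grpOK (k mask : ℕ) : Bool :=
  Nat.testBit mask 0 && codes.all fun n => !Nat.testBit mask n ||
    (Nat.testBit mask (inv k n) && codes.all fun m => !Nat.testBit mask m || Nat.testBit mask (mul k n m))

/-- The number of codes in the bit set. -/
def size (mask : ℕ) : ℕ := (sel fun n => Nat.testBit mask n).length

/-- A list of the codes in the bit set. -/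
def elems (mask : ℕ) : List ℕ := sel fun n => Nat.testBit mask n

/-- Is `x` a square in the bit set? -/
def isSq (k mask x : ℕ) : Bool := (elems mask).any fun y => Nat.beq (mul k y y) x

/-- Is `x` central in the bit set? -/
def isCen (k mask x : ℕ) : Bool := (elems mask).all fun y => com k x y

/-- The size of the centraliser of `x` in the bit set. -/
def cSize (k mask x : ℕ) : ℕ := (sel fun y => Nat.testBit mask y && com k x y).length

/-- The codes of `1, z, a, az`. -/
def isW (n : ℕ) : Bool := Nat.beq n 0 || Nat.beq n 16 || Nat.beq n 1 || Nat.beq n 17

/-- Is `n` conjugate to `u` in the coded group? -/
def isCj (k u n : ℕ) : Bool := codes.any fun g => Nat.beq (cj k g u) n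

end CfsgLib.AutLThreeFour70
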