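import Cfsg.Agent.AutLThreeFour70.Build
import Cfsg.Agent.AutLThreeFour70.Masks
import Cfsg.Agent.AutLThreeFour70.FusionChecks
import Mathlib.GroupTheory.Sylow

/-!
# Reading the coded centraliser in the group
-/

set_option autoImplicit false

namespace CfsgLib.AutLThreeFour70

theorem mul_lt {k n m : ℕ} (hk : k < 4) (hn : n < 768) (hm : m < 768) : mul k n m < 768 := by
  have hr : m / 32 < 24 := by omega
  have hq : n / 32 < 24 := by omega
  have ht := chk_range chk_tables hr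
  simp only [Bool.and_eq_true] at ht
  have ht1 := chk_range ht.1 (Nat.mod_lt n (show 32 > 0 by norm_num))
  have ht2 := chk_range (chk_range ht.2 hk) hq
  simp only [Bool.and_eq_true, Nat.blt_eq] at ht1 ht2
  have h : em (em (tau k (n / 32) (m / 32)) (ph (m / 32) (n % 32))) (m % 32) < 32 :=
    em_lt (em_lt ht2.2 ht1.2) (Nat.mod_lt _ (by norm_num))
  have := ht2.1.2
  unfold mul
  omega

theorem inv_lt {k n : ℕ} (hk : k < 4) (hn : n < 768) : inv k n < 768 := by
  have h := chk_all (chk_range chk_inv hk) hn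
  simp only [Bool.and_eq_true, Nat.blt_eq] at h
  exact h.1

theorem cj_lt {k g x : ℕ} (hk : k < 4) (hg : g < 768) (hx : x < 768) : cj k g x < 768 :=
  mul_lt hk (mul_lt hk hg hx) (inv_lt hk hg)

theorem mem_sel {p : ℕ → Bool} {n : ℕ} : n ∈ sel p ↔ n < 768 ∧ p n = true := by
  simp [sel, codes]

theorem mem_elems {mask n : ℕ} : n ∈ elems mask ↔ n < 768 ∧ Nat.testBit mask n = true := mem_sel

theorem isW_iff {n : ℕ} : isW n = true ↔ n = 0 ∨ n = 16 ∨ n = 1 ∨ n = 17 := by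
  simp [isW, or_assoc]

namespace Model

variable {G : Type*} [Group G] {z : G} {k : ℕ} (M : Model z k)

theorem one : M.Φ 0 = 1 := by
  have h := M.mul_eq 0 0 (by norm_num) (by norm_num)
  have key : (List.range 4).all (fun j => Nat.beq (mul j 0 0) 0) = true := by decide +kernel
  have h0 := chk_range key M.hk
  simp only [Nat.beq_eq] at h0
  rw [h0] at h
  exact left_eq_mul.1 h

theorem eq_one_iff {n : ℕ} (hn : n < 768) : M.Φ n = 1 ↔ n = 0 :=
  ⟨fun h => M.inj n 0 hn (by norm_num) (h.trans M.one.symm), fun h => h ▸ M.one⟩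

theorem map_inv {n : ℕ} (hn : n < 768) : M.Φ (inv k n) = (M.Φ n)⁻¹ := by
  have h := chk_all (chk_range chk_inv M.hk) hn
  simp only [Bool.and_eq_true, Nat.blt_eq, Nat.beq_eq] at h
  refine eq_inv_of_mul_eq_one_right ?_
  rw [← M.mul_eq n _ hn h.1, h.2, M.one]

theorem map_cj {g x : ℕ} (hg : g < 768) (hx : x < 768) :
    M.Φ (cj k g x) = M.Φ g * M.Φ x * (M.Φ g)⁻¹ := by
  rw [cj, M.mul_eq _ _ (mul_lt M.hk hg hx) (inv_lt M.hk hg), M.mul_eq _ _ hg hx, M.map_inv hg]

theorem eq_iff {n m : ℕ} (hn : n < 768) (hm : m < 768) : M.Φ n = M.Φ m ↔ n = m :=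
  ⟨M.inj n m hn hm, fun h => h ▸ rfl⟩

theorem comm_iff {n m : ℕ} (hn : n < 768) (hm : m < 768) :
    M.Φ n * M.Φ m = M.Φ m * M.Φ n ↔ com k n m = true := by
  rw [← M.mul_eq n m hn hm, ← M.mul_eq m n hm hn,
    M.eq_iff (mul_lt M.hk hn hm) (mul_lt M.hk hm hn), com, Nat.beq_eq]

theorem orderOf_eq_two_iff {n : ℕ} (hn : n < 768) : orderOf (M.Φ n) = 2 ↔ isInv k n = true := by
  rw [orderOf_eq_prime_iff, pow_two, ← M.mul_eq n n hn hn, M.eq_one_iff (mul_lt M.hk hn hn), ne_eq,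
    M.eq_one_iff hn, isInv, Bool.and_eq_true, Bool.not_eq_true', ← Bool.not_eq_true, Nat.beq_eq,
    Nat.beq_eq]

theorem z_comm {n : ℕ} (hn : n < 768) : M.Φ n * z = z * M.Φ n := by
  have h := (M.comm_iff hn (show 16 < 768 by norm_num)).2 (chk_all (chk_range chk_central M.hk) hn)
  rwa [M.z_eq] at h

theorem mem_cent {x : G} : x ∈ Subgroup.centralizer ({z} : Set G) ↔ x * z = z * x :=
  Subgroup.mem_centralizer_singleton_iff.trans ⟨fun h => h.symm ▸ rfl, fun h => h⟩

theorem exists_code {x : G} (hx : x ∈ Subgroup.centralizer ({z} : Set G)) :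
    ∃ n, n < 768 ∧ M.Φ n = x :=
  M.mem_range x (mem_cent.1 hx)

theorem Φ_mem {n : ℕ} (hn : n < 768) : M.Φ n ∈ Subgroup.centralizer ({z} : Set G) :=
  mem_cent.2 (M.z_comm hn)

include M in
theorem card_eq (p : ℕ → Bool) (S : Set G) (hS : ∀ x ∈ S, x * z = z * x)
    (hp : ∀ n, n < 768 → (M.Φ n ∈ S ↔ p n = true)) : Nat.card S = (sel p).length := by
  classical
  have hset : S = ↑((sel p).toFinset.image M.Φ) := by
    ext x
    simp only [Finset.coe_image, Set.mem_image, Finset.mem_coe, List.mem_toFinset, mem_sel]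
    constructor
    · intro hx
      obtain ⟨n, hn, rfl⟩ := M.mem_range x (hS x hx)
      exact ⟨n, ⟨hn, (hp n hn).1 hx⟩, rfl⟩
    · rintro ⟨n, ⟨hn, hpn⟩, rfl⟩
      exact (hp n hn).2 hpn
  rw [Nat.card_coe_set_eq, hset, Set.ncard_coe_finset, Finset.card_image_of_injOn,
    List.toFinset_card_of_nodup (show (sel p).Nodup from List.nodup_range.filter _)]
  intro a ha b hb hab
  simp only [Finset.mem_coe, List.mem_toFinset, mem_sel] at ha hb
  exact M.inj a b ha.1 hb.1 hab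

include M in
theorem card_centralizer : Nat.card (Subgroup.centralizer ({z} : Set G)) = 768 := by
  refine (M.card_eq (fun _ => true) (Subgroup.centralizer ({z} : Set G) : Set G)
    (fun x hx => mem_cent.1 hx) fun n hn => iff_of_true (M.Φ_mem hn) rfl).trans ?_
  simp [sel, codes]

/-- The subgroup coded by a bit set. -/
def sub (mask : ℕ) (h : grpOK k mask = true) : Subgroup G where
  carrier := {x | ∃ n, n < 768 ∧ Nat.testBit mask n = true ∧ M.Φ n = x}
  one_mem' := by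
    simp only [grpOK, Bool.and_eq_true] at h
    exact ⟨0, by norm_num, h.1, M.one⟩
  mul_mem' := by
    rintro _ _ ⟨n, hn, hs, rfl⟩ ⟨m, hm, hs', rfl⟩
    simp only [grpOK, Bool.and_eq_true] at h
    have h2 := chk_all h.2 hn
    simp only [hs, Bool.not_true, Bool.false_or, Bool.and_eq_true] at h2
    have h3 := chk_all h2.2 hm
    simp only [hs', Bool.not_true, Bool.false_or] at h3
    exact ⟨_, mul_lt M.hk hn hm, h3, M.mul_eq n m hn hm⟩
  inv_mem' := by
    rintro _ ⟨n, hn, hs, rfl⟩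
    simp only [grpOK, Bool.and_eq_true] at h
    have h2 := chk_all h.2 hn
    simp only [hs, Bool.not_true, Bool.false_or, Bool.and_eq_true] at h2
    exact ⟨_, inv_lt M.hk hn, h2.1, M.map_inv hn⟩

variable {mask : ℕ} {h : grpOK k mask = true}

theorem mem_sub {n : ℕ} (hn : n < 768) : M.Φ n ∈ M.sub mask h ↔ Nat.testBit mask n = true :=
  ⟨fun ⟨m, hm, hs, hx⟩ => M.inj m n hm hn hx ▸ hs, fun hs => ⟨n, hn, hs, rfl⟩⟩

theorem sub_le : M.sub mask h ≤ Subgroup.centralizer ({z} : Set G) := by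
  rintro _ ⟨n, hn, -, rfl⟩
  exact M.Φ_mem hn

theorem card_sub : Nat.card (M.sub mask h) = size mask :=
  M.card_eq _ _ (fun _ hx => mem_cent.1 (M.sub_le hx)) fun _ hn => M.mem_sub hn

theorem isPGroup_sub {e : ℕ} (he : size mask = 2 ^ e) : IsPGroup 2 (M.sub mask h) :=
  IsPGroup.of_card (n := e) (M.card_sub.trans he)

theorem isCen_of {x : ℕ} (hx : x < 768)
    (hc : ∀ y ∈ M.sub mask h, M.Φ x * y = y * M.Φ x) : isCen k mask x = true :=
  List.all_eq_true.2 fun m hm =>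
    (M.comm_iff hx (mem_elems.1 hm).1).1 (hc _ ⟨m, (mem_elems.1 hm).1, (mem_elems.1 hm).2, rfl⟩)

theorem comm_of_isCen {x : ℕ} (hx : x < 768) (hc : isCen k mask x = true) {y : G}
    (hy : y ∈ M.sub mask h) : M.Φ x * y = y * M.Φ x := by
  obtain ⟨m, hm, hs, rfl⟩ := hy
  exact (M.comm_iff hx hm).2 (List.all_eq_true.1 hc m (mem_elems.2 ⟨hm, hs⟩))

theorem isConj_of_isCj {u n : ℕ} (hu : u < 768) (hc : isCj k u n = true) :
    ∃ x, x * z = z * x ∧ x * M.Φ u * x⁻¹ = M.Φ n := by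
  obtain ⟨g, hg, hgn⟩ := List.any_eq_true.1 hc
  have hg' : g < 768 := List.mem_range.1 hg
  simp only [Nat.beq_eq] at hgn
  exact ⟨M.Φ g, M.z_comm hg', by rw [← M.map_cj hg' hu, hgn]⟩

end Model

end CfsgLib.AutLThreeFour70
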