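import Cfsg.Agent.AutLThreeFour70.Fixed

/-!
# Elements carrying the first elementary subgroup into the centraliser of `z`
-/

set_option autoImplicit false
set_option maxRecDepth 20000

namespace CfsgLib.AutLThreeFour70

open Subgroup
open scoped Pointwise
open CfsgLib.Small (orderOf_conj_eq)

theorem chk_blocks :
    (elems kMask).all (fun n => !isInv 0 n || isW n || !isCen 0 kMask n) = true ∧
    (elems rMask).all (fun r => Nat.testBit a1Mask (mul 0 r r) &&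
      (elems a1Mask).all fun x => isW (mul 0 (cj 0 r x) (inv 0 x))) = true ∧
    (sel fun n => Nat.testBit a1Mask n && Nat.testBit a2Mask n).length = 4 ∧
    (elems kMask).all (fun e => !isThree e || (elems rMask).all fun r =>
      Nat.testBit a1Mask r || !Nat.testBit a1Mask (mul 0 (inv 0 r) (cj 0 e r))) = true := by
  decide +kernel

namespace Ctx

variable {G : Type*} [Group G] {z : G} (C : Ctx z)

theorem A2_sq {x : G} (hx : x ∈ C.A2) : x * x = 1 := by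
  obtain ⟨n, hn, hs, rfl⟩ := hx
  have h := List.all_eq_true.1 chk_A.2.1 n (mem_elems.2 ⟨hn, hs⟩)
  simp only [Bool.and_eq_true, Nat.beq_eq] at h
  rw [← C.M.mul_eq n n hn hn, h.1.2, C.M.one]

theorem card_A2 : Nat.card C.A2 = 16 := C.M.card_sub.trans chk_sizes.2.2.2.2.2.1

theorem R_sq_mem {x : G} (hx : x ∈ C.R) : x * x ∈ C.A1 := by
  obtain ⟨n, hn, hs, rfl⟩ := hx
  have h := List.all_eq_true.1 chk_blocks.2.1 n (mem_elems.2 ⟨hn, hs⟩)
  simp only [Bool.and_eq_true] at h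
  exact ⟨_, mul_lt C.M.hk hn hn, h.1, C.M.mul_eq n n hn hn⟩

theorem R_comm_A1 {r x : G} (hr : r ∈ C.R) (hx : x ∈ C.A1) :
    r * x * r⁻¹ * x⁻¹ = 1 ∨ C.InW (r * x * r⁻¹ * x⁻¹) := by
  obtain ⟨n, hn, hs, rfl⟩ := hr
  obtain ⟨m, hm, hs', rfl⟩ := hx
  have h := List.all_eq_true.1 chk_blocks.2.1 n (mem_elems.2 ⟨hn, hs⟩)
  simp only [Bool.and_eq_true] at h
  have h2 := List.all_eq_true.1 h.2 m (mem_elems.2 ⟨hm, hs'⟩)
  have hc := cj_lt C.M.hk hn hm
  have hi := inv_lt C.M.hk hm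
  have hl := mul_lt C.M.hk hc hi
  rw [← C.M.map_cj hn hm, ← C.M.map_inv hm, ← C.M.mul_eq _ _ hc hi]
  by_cases h0 : mul 0 (cj 0 n m) (inv 0 m) = 0
  · exact Or.inl ((C.M.eq_one_iff hl).2 h0)
  · exact Or.inr ((C.inW_iff hl).2 ⟨h2, h0⟩)

theorem orderOf_inW {w : G} (hw : C.InW w) : orderOf w = 2 := by
  obtain ⟨g, hg⟩ := isConj_iff.1 (C.inW_isConj hw)
  rw [← hg, orderOf_conj_eq, C.M.orderOf_z]

theorem inW_of_central {x : G} (hx : x ∈ C.K) (h2 : orderOf x = 2)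
    (hc : ∀ k ∈ C.K, k * x = x * k) : C.InW x := by
  obtain ⟨n, hn, hs, rfl⟩ := hx
  have h := List.all_eq_true.1 chk_blocks.1 n (mem_elems.2 ⟨hn, hs⟩)
  have hi := (C.M.orderOf_eq_two_iff hn).1 h2
  have hcen : isCen 0 kMask n = true :=
    C.M.isCen_of hn (h := groups.1) fun y hy => (hc y hy).symm
  simp only [hi, hcen, Bool.not_true, Bool.false_or, Bool.or_false] at h
  exact (C.inW_iff hn).2 ⟨h, fun h0 => by subst h0; simp [isInv] at hi⟩

theorem three_fpf {e r : G} (he : e ∈ C.K) (he3 : orderOf e = 3) (hr : r ∈ C.R) (hrA : r ∉ C.A1) :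
    r⁻¹ * (e * r * e⁻¹) ∉ C.A1 := by
  obtain ⟨n, hn, hs, rfl⟩ := he
  obtain ⟨m, hm, hs', rfl⟩ := hr
  intro hmem
  have h := List.all_eq_true.1 chk_blocks.2.2.2 n (mem_elems.2 ⟨hn, hs⟩)
  simp only [C.isThree_of_orderOf hn he3, Bool.not_true, Bool.false_or] at h
  have h2 := List.all_eq_true.1 h m (mem_elems.2 ⟨hm, hs'⟩)
  simp only [Bool.or_eq_true, Bool.not_eq_true'] at h2
  rw [← C.M.map_inv hm, ← C.M.map_cj hn hm,
    ← C.M.mul_eq _ _ (inv_lt C.M.hk hm) (cj_lt C.M.hk hn hm), A1,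
    C.M.mem_sub (mul_lt C.M.hk (inv_lt C.M.hk hm) (cj_lt C.M.hk hn hm))] at hmem
  rw [A1, C.M.mem_sub hm] at hrA
  rcases h2 with h2 | h2
  · exact hrA h2
  · rw [hmem] at h2; exact Bool.noConfusion h2

theorem one_or_inW {x : G} (h1 : x ∈ C.A1) (h2 : x ∈ C.A2) : x = 1 ∨ C.InW x := by
  by_contra h
  exact (C.A1_spec h1 (fun e => h (Or.inl e)) (fun e => h (Or.inr e))).1 h2

theorem mem_A1_or_A2 {x : G} (hx : x ∈ C.R) (h : x * x = 1) : x ∈ C.A1 ∨ x ∈ C.A2 := by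
  by_cases h1 : x = 1
  · exact Or.inl (h1 ▸ one_mem _)
  obtain ⟨n, hn, hs, rfl⟩ := hx
  have h' := List.all_eq_true.1 chk_R.1 n (mem_elems.2 ⟨hn, hs⟩)
  have hi : isInv 0 n = true :=
    (C.M.orderOf_eq_two_iff hn).1 (orderOf_eq_prime (by rw [pow_two, h]) h1)
  simp only [hi, Bool.not_true, Bool.false_or, Bool.and_eq_true, Bool.or_eq_true] at h'
  rcases h'.1.1 with h2 | h2
  · exact Or.inl ((C.M.mem_sub hn).2 h2)
  · exact Or.inr ((C.M.mem_sub hn).2 h2)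

theorem R_normalises_A2 {r x : G} (hr : r ∈ C.R) (hx : x ∈ C.A2) : r * x * r⁻¹ ∈ C.A2 := by
  by_cases hxA : x ∈ C.A1
  · rcases C.one_or_inW hxA hx with rfl | hW
    · rw [show r * 1 * r⁻¹ = (1 : G) by group]; exact one_mem _
    · rw [C.K_comm_W (C.R_le_K hr) hW, mul_inv_cancel_right]; exact hx
  · refine (C.mem_A1_or_A2 (mul_mem (mul_mem hr (C.A2_le_R hx)) (inv_mem hr))
      (by rw [conj_sq (C.A2_sq hx)]; group)).resolve_left fun h => hxA ?_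
    have := C.K_normalises_A1 (C.R_le_K (inv_mem hr)) h
    rwa [show r⁻¹ * (r * x * r⁻¹) * r⁻¹⁻¹ = x by group] at this

theorem exists_A2_not_A1 : ∃ x ∈ C.A2, x ∉ C.A1 := by
  by_contra h
  simp only [not_exists, not_and, not_not] at h
  have hle : C.A2 ≤ C.A1 := h
  have key : Nat.testBit a2Mask (cj 0 2 328) = true ∧ Nat.testBit a1Mask (cj 0 2 328) = false := by
    decide +kernel
  have hc := cj_lt C.M.hk (show 2 < 768 by norm_num) (show 328 < 768 by norm_num)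
  have h1 : C.M.Φ (cj 0 2 328) ∈ C.A1 := hle ((C.M.mem_sub hc).2 key.1)
  rw [A1, C.M.mem_sub hc, key.2] at h1
  exact Bool.noConfusion h1

variable [Finite G]

/-- The two elementary subgroups are not conjugate inside `N4`. -/
theorem not_swap {h : G} (h4 : h ∈ C.N4) (hA : ∀ x ∈ C.A1, h * x * h⁻¹ ∈ C.A2) : False := by
  have : Fact (Nat.Prime 2) := ⟨Nat.prime_two⟩
  have himage : ∀ y : G, (∀ x ∈ C.A1, y * x * y⁻¹ ∈ C.A2) → ∀ v ∈ C.A2, y⁻¹ * v * y ∈ C.A1 := by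
    intro y hy v hv
    have e : C.A1.map (MulAut.conj y).toMonoidHom = C.A2 := Subgroup.eq_of_le_of_card_ge
      (by rintro _ ⟨x, hx, rfl⟩; exact hy x hx)
      (by rw [card_map_of_injective (MulAut.conj y).injective, C.card_A1, C.card_A2])
    rw [← e] at hv
    obtain ⟨x, hx, rfl⟩ := hv
    show y⁻¹ * (y * x * y⁻¹) * y ∈ C.A1
    rwa [show y⁻¹ * (y * x * y⁻¹) * y = x by group]
  set L : Subgroup G := C.N4 ⊓ normalizer (C.A2 : Set G) with hL
  set P' := C.R.map (MulAut.conj h).toMonoidHom with hP'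
  have hRL : C.R ≤ L := fun r hr => ⟨C.K_le (C.R_le_K hr), mem_normalizer_iff.2 fun x =>
    ⟨fun hx => C.R_normalises_A2 hr hx, fun hx => by
      have := C.R_normalises_A2 (inv_mem hr) hx
      rwa [show r⁻¹ * (r * x * r⁻¹) * r⁻¹⁻¹ = x by group] at this⟩⟩
  have hPL : P' ≤ L := by
    rintro _ ⟨r, hr, rfl⟩
    refine ⟨C.N4_spec.1.conj_mem r (C.K_le (C.R_le_K hr)) h, ?_⟩
    have hn : ∀ s ∈ C.R, ∀ x ∈ C.A2, (h * s * h⁻¹) * x * (h * s * h⁻¹)⁻¹ ∈ C.A2 := by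
      intro s hs x hx
      rw [show h * s * h⁻¹ * x * (h * s * h⁻¹)⁻¹ = h * (s * (h⁻¹ * x * h) * s⁻¹) * h⁻¹ by group]
      exact hA _ (C.K_normalises_A1 (C.R_le_K hs) (himage h hA x hx))
    refine mem_normalizer_iff.2 fun x => ⟨hn r hr x, fun hx => ?_⟩
    have := hn r⁻¹ (inv_mem hr) _ hx
    rwa [show h * r⁻¹ * h⁻¹ * ((MulAut.conj h).toMonoidHom r * x * ((MulAut.conj h).toMonoidHom r)⁻¹) *
      (h * r⁻¹ * h⁻¹)⁻¹ = x by simp [mul_assoc]] at this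
  have hP'2 : IsPGroup 2 P' := C.isPGroup_R.map _
  obtain ⟨Q, hQ⟩ := (C.isPGroup_R.comap_subtype (K := L)).exists_le_sylow
  obtain ⟨Q', hQ'⟩ := (hP'2.comap_subtype (K := L)).exists_le_sylow
  have hQR : (Q : Subgroup L).map L.subtype = C.R := C.eq_R_of_le (Q.isPGroup'.map _)
    (fun x hx => ⟨⟨x, hRL hx⟩,
      hQ (show (⟨x, hRL hx⟩ : L) ∈ C.R.comap L.subtype from hx), rfl⟩)
    ((map_subtype_le _).trans inf_le_left)
  obtain ⟨m, hm⟩ := MulAction.exists_smul_eq L Q' Q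
  set y := (m : G) * h with hy
  have hyR : ∀ r ∈ C.R, y * r * y⁻¹ ∈ C.R := by
    intro r hr
    have hx : h * r * h⁻¹ ∈ P' := ⟨r, hr, rfl⟩
    rw [← hQR]
    refine ⟨m * ⟨_, hPL hx⟩ * m⁻¹, ?_, by simp [hy, mul_assoc]⟩
    rw [← hm]
    exact Subgroup.smul_mem_pointwise_smul _ (MulAut.conj m) _
      (hQ' (show (⟨_, hPL hx⟩ : L) ∈ P'.comap L.subtype from hx))
  have hy4 : y ∈ C.N4 := mul_mem m.2.1 h4
  have h12 : ∀ x ∈ C.A1, y * x * y⁻¹ ∈ C.A2 := fun x hx => by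
    rw [show y * x * y⁻¹ = (m : G) * (h * x * h⁻¹) * (m : G)⁻¹ by rw [hy]; group]
    exact (mem_normalizer_iff.1 m.2.2 _).1 (hA x hx)
  have hout : ∀ x ∈ C.A2, x ∉ C.A1 → y * x * y⁻¹ ∈ C.A1 := fun x hx hxA =>
    (C.mem_A1_or_A2 (hyR x (C.A2_le_R hx)) (by rw [conj_sq (C.A2_sq hx)]; group)).resolve_right
      fun hc => hxA (by
        have := himage y h12 _ hc
        rwa [show y⁻¹ * (y * x * y⁻¹) * y = x by group] at this)
  obtain ⟨x0, hx0, hx0A⟩ := C.exists_A2_not_A1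
  have h21 : ∀ x ∈ C.A2, y * x * y⁻¹ ∈ C.A1 := by
    intro x hx
    by_cases hxA : x ∈ C.A1
    · have h1 := hout x0 hx0 hx0A
      have h2 := hout (x * x0) (mul_mem hx hx0) fun hc => hx0A ((mul_mem_cancel_left hxA).1 hc)
      rw [show y * x * y⁻¹ = y * (x * x0) * y⁻¹ * (y * x0 * y⁻¹)⁻¹ by group]
      exact mul_mem h2 (inv_mem h1)
    · exact hout x hx hxA
  obtain ⟨k, o, ho, hk⟩ := Nat.exists_eq_two_pow_mul_odd (orderOf_pos y).ne'
  obtain ⟨j, rfl⟩ := ho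
  set q := y ^ (2 * j + 1) with hq
  have hq12 : ∀ (i : ℕ) (x : G), x ∈ C.A1 → y ^ (2 * i) * x * (y ^ (2 * i))⁻¹ ∈ C.A1 := by
    intro i
    induction i with
    | zero => intro x hx; simpa using hx
    | succ i ih =>
      intro x hx
      rw [show y ^ (2 * (i + 1)) * x * (y ^ (2 * (i + 1)))⁻¹ =
        y * (y * (y ^ (2 * i) * x * (y ^ (2 * i))⁻¹) * y⁻¹) * y⁻¹ by
          rw [show 2 * (i + 1) = 2 * i + 1 + 1 by omega, pow_succ', pow_succ']; group]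
      exact h21 _ (h12 _ (ih x hx))
  have hqA : ∀ x ∈ C.A1, q * x * q⁻¹ ∈ C.A2 := fun x hx => by
    rw [show q * x * q⁻¹ = y * (y ^ (2 * j) * x * (y ^ (2 * j))⁻¹) * y⁻¹ by
      rw [hq, pow_succ']; group]
    exact h12 _ (hq12 j x hx)
  have hnR : ∀ (i : ℕ) (r : G), r ∈ C.R → y ^ i * r * (y ^ i)⁻¹ ∈ C.R := by
    intro i
    induction i with
    | zero => intro r hr; simpa using hr
    | succ i ih =>
      intro r hr
      rw [show y ^ (i + 1) * r * (y ^ (i + 1))⁻¹ = y * (y ^ i * r * (y ^ i)⁻¹) * y⁻¹ by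
        rw [pow_succ']; group]
      exact hyR _ (ih r hr)
  have hqp : IsPGroup 2 (zpowers q) := by
    obtain ⟨f, -, hf⟩ := (Nat.dvd_prime_pow Nat.prime_two).1
      (orderOf_dvd_of_pow_eq_one (x := q) (n := 2 ^ k)
        (by rw [hq, ← pow_mul, mul_comm, ← hk, pow_orderOf_eq_one]))
    exact IsPGroup.of_card (n := f) (by rw [Nat.card_zpowers, hf])
  have hqn : zpowers q ≤ normalizer (C.R : Set G) := zpowers_le.2 (mem_normalizer_iff.2 fun r =>
    ⟨hnR _ r, fun hr => by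
      have e : C.R.map (MulAut.conj q).toMonoidHom = C.R := Subgroup.eq_of_le_of_card_ge
        (by rintro _ ⟨x, hx, rfl⟩; exact hnR _ x hx)
        (by rw [card_map_of_injective (MulAut.conj q).injective])
      rw [← e] at hr
      obtain ⟨x, hx, hxe⟩ := hr
      have : x = r := (MulAut.conj q).injective hxe
      exact this ▸ hx⟩)
  have hqR : C.R ⊔ zpowers q = C.R := C.eq_R_of_le (C.isPGroup_R.to_sup_of_normal_left' hqp hqn)
    le_sup_left (sup_le (C.R_le_K.trans C.K_le) (zpowers_le.2 (pow_mem hy4 _)))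
  have hqmem : q ∈ C.R := hqR ▸ mem_sup_right (mem_zpowers q)
  have hu := hqA (q⁻¹ * C.u * q) (by
    have := C.K_normalises_A1 (C.R_le_K (inv_mem hqmem)) C.u_mem.1
    rwa [inv_inv] at this)
  rw [show q * (q⁻¹ * C.u * q) * q⁻¹ = C.u by group] at hu
  exact (C.A1_spec C.u_mem.1 C.u_mem.2.1 C.u_mem.2.2).1 hu

/-- An element of `N4` carrying the first elementary subgroup into `K` normalises it. -/
theorem norm_A1 {h : G} (h4 : h ∈ C.N4) (hK : ∀ x ∈ C.A1, h * x * h⁻¹ ∈ C.K) {x : G}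
    (hx : x ∈ C.A1) : h * x * h⁻¹ ∈ C.A1 := by
  have hsq : ∀ v ∈ C.A1, h * v * h⁻¹ * (h * v * h⁻¹) = 1 := fun v hv => by
    rw [conj_sq (C.A1_sq hv)]; group
  have hU : ∀ v ∈ C.A1, h * v * h⁻¹ ∈ C.A1 ∨ h * v * h⁻¹ ∈ C.A2 := fun v hv =>
    C.mem_A1_or_A2 ((C.mem_R_iff (hK v hv)).2 (by rw [hsq v hv, one_mul])) (hsq v hv)
  by_contra hx1
  refine C.not_swap h4 fun v hv => (hU v hv).elim (fun h1 => ?_) id
  rcases hU (x * v) (mul_mem hx hv) with h2 | h2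
  · refine absurd ?_ hx1
    rw [show h * x * h⁻¹ = h * (x * v) * h⁻¹ * (h * v * h⁻¹)⁻¹ by group]
    exact mul_mem h2 (inv_mem h1)
  · have h3 := (hU x hx).resolve_left hx1
    rw [show h * v * h⁻¹ = (h * x * h⁻¹)⁻¹ * (h * (x * v) * h⁻¹) by group]
    exact mul_mem (inv_mem h3) h2

/-- An element of `N4` carrying one of `z, a, az` to another normalises `K`. -/
theorem norm_K {h w : G} (h4 : h ∈ C.N4) (hw : C.InW w) (hhw : C.InW (h * w * h⁻¹)) {k : G}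
    (hk : k ∈ C.K) : h * k * h⁻¹ ∈ C.K := by
  refine C.mem_K_of_W (C.N4_spec.1.conj_mem k (C.K_le hk) h) hhw ?_
  calc h * k * h⁻¹ * (h * w * h⁻¹) = h * (k * w) * h⁻¹ := by group
    _ = h * (w * k) * h⁻¹ := by rw [C.K_comm_W hk hw]
    _ = h * w * h⁻¹ * (h * k * h⁻¹) := by group

/-- An element of `N4` carrying one of `z, a, az` to another permutes them. -/
theorem norm_W {h w v : G} (h4 : h ∈ C.N4) (hw : C.InW w) (hhw : C.InW (h * w * h⁻¹))
    (hv : C.InW v) : C.InW (h * v * h⁻¹) := by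
  refine C.inW_of_central (C.norm_K h4 hw hhw (C.R_le_K (C.W_mem_A1 hv).2.2))
    (by rw [orderOf_conj_eq, C.orderOf_inW hv]) fun k hk => ?_
  have hk' : h⁻¹ * k * h ∈ C.K := by
    have := C.norm_K (h := h⁻¹) (inv_mem h4) hhw
      (by rwa [show h⁻¹ * (h * w * h⁻¹) * h⁻¹⁻¹ = w by group]) hk
    rwa [inv_inv] at this
  calc k * (h * v * h⁻¹) = h * (h⁻¹ * k * h * v) * h⁻¹ := by group
    _ = h * (v * (h⁻¹ * k * h)) * h⁻¹ := by rw [C.K_comm_W hk' hv]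
    _ = h * v * h⁻¹ * k := by group

/-- Being a conjugate of `z, a, az` by a common element is transitive. -/
theorem inW_trans {g h x y : G} (hg : g ∈ C.N4) (hh : h ∈ C.N4) (hgx : C.InW (g⁻¹ * x * g))
    (hgy : C.InW (g⁻¹ * y * g)) (hhx : C.InW (h⁻¹ * x * h)) : C.InW (h⁻¹ * y * h) := by
  have := C.norm_W (h := h⁻¹ * g) (mul_mem (inv_mem hh) hg) hgx
    (by rwa [show h⁻¹ * g * (g⁻¹ * x * g) * (h⁻¹ * g)⁻¹ = h⁻¹ * x * h by group]) hgy
  rwa [show h⁻¹ * g * (g⁻¹ * y * g) * (h⁻¹ * g)⁻¹ = h⁻¹ * y * h by group] at this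

end Ctx

end CfsgLib.AutLThreeFour70
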