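import Cfsg.Agent.AutLThreeFour70.Checks

/-!
# From generators and relations to a coded centraliser
-/

set_option autoImplicit false

namespace CfsgLib.AutLThreeFour70

theorem chk_range {p : ℕ → Bool} {N : ℕ} (h : (List.range N).all p = true) {n : ℕ} (hn : n < N) :
    p n = true :=
  List.all_eq_true.1 h n (List.mem_range.2 hn)

theorem chk_all {p : ℕ → Bool} (h : codes.all p = true) {n : ℕ} (hn : n < 768) : p n = true :=
  chk_range h hn

theorem em_spec {x : ℕ} (hx : x < 32) :
    ei x < 32 ∧ em x (ei x) = 0 ∧ em (ei x) x = 0 ∧ em x 0 = x ∧ em 0 x = x := by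
  have h := chk_range chk_em hx
  simp only [Bool.and_eq_true, Nat.beq_eq, Nat.blt_eq] at h
  exact ⟨h.1.1.1.1.1, h.1.1.1.1.2, h.1.1.1.2, h.1.1.2, h.1.2⟩

theorem em_lt {x y : ℕ} (hx : x < 32) (hy : y < 32) : em x y < 32 := by
  have h := chk_range chk_em hx
  simp only [Bool.and_eq_true] at h
  have h2 := chk_range h.2 hy
  simp only [Bool.and_eq_true, Nat.blt_eq] at h2
  exact h2.1

theorem gact_lt (g e : ℕ) : gact g e < 32 := by
  unfold gact
  exact Nat.lt_of_le_of_lt (Nat.and_le_right) (by norm_num)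

theorem edge_lt (k q g : ℕ) : edge k q g < 32 := by
  unfold edge
  exact Nat.lt_of_le_of_lt (Nat.and_le_right) (by norm_num)

theorem wact_lt : ∀ (w : List ℕ) {e : ℕ}, e < 32 → wact w e < 32
  | [], _, h => h
  | g :: w, e, _ => wact_lt w (gact_lt g e)

theorem walk_snd_lt (k : ℕ) : ∀ (w : List ℕ) {q c : ℕ}, c < 32 → (walk k w (q, c)).2 < 32
  | [], _, _, h => h
  | g :: w, q, c, _ => walk_snd_lt k w (em_lt (edge_lt k q g) (gact_lt g c))

theorem perm_spec : ∀ q r : Fin 24,
    (∀ i : Fin 4, ((word q).map permGen).prod i = ((word r).map permGen).prod i) → q = r := by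
  decide +kernel

theorem words_spec : (List.range 24).all (fun q => (word q).all fun g => Nat.blt g 2) = true ∧
    word 0 = [] ∧ (rots.all fun w => w.all fun g => Nat.blt g 2) = true := by
  decide +kernel

theorem word_lt {q g : ℕ} (hg : g ∈ word q) : g < 2 := by
  rcases lt_or_ge q 24 with hq | hq
  · simpa using List.all_eq_true.1 (chk_range words_spec.1 hq) g hg
  · rw [word, List.getD_eq_default _ _ (by simpa [words] using hq)] at hg
    exact absurd hg (by simp)

variable {G : Type*} [Group G]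

/-- Generators and relations for the candidate `k` in the centraliser of `z`. -/
structure Frame (z : G) (k : ℕ) where
  hk : k < 4
  ev : ℕ → G
  gen : ℕ → G
  π : ↥(Subgroup.centralizer ({z} : Set G)) →* Equiv.Perm (Fin 4)
  ev_mul : ∀ x y, x < 32 → y < 32 → ev (em x y) = ev x * ev y
  ev_inj : ∀ x y, x < 32 → y < 32 → ev x = ev y → x = y
  ev_z : ev 16 = z
  ev_mem : ∀ x, x < 32 → ev x ∈ Subgroup.centralizer ({z} : Set G)
  gen_mem : ∀ g, g < 2 → gen g ∈ Subgroup.centralizer ({z} : Set G)
  conj : ∀ g e, g < 2 → e < 32 → (gen g)⁻¹ * ev e * gen g = ev (gact g e)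
  rel : ∀ t, t < 4 → ((rots.getD t []).map gen).prod = ev (relVal k t)
  π_gen : ∀ g (hg : g < 2), π ⟨gen g, gen_mem g hg⟩ = permGen g
  π_ker : ∀ h, π h = 1 ↔ ∃ e, e < 32 ∧ ev e = (h : G)

namespace Frame

variable {z : G} {k : ℕ} (F : Frame z k)

/-- The element of a word. -/
def wel (w : List ℕ) : G := (w.map F.gen).prod

theorem wel_cons (g : ℕ) (w : List ℕ) : F.wel (g :: w) = F.gen g * F.wel w := by
  simp [wel]

theorem wel_append (v w : List ℕ) : F.wel (v ++ w) = F.wel v * F.wel w := by
  simp [wel, List.prod_append]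

theorem ev_zero : F.ev 0 = 1 := by
  have h := F.ev_mul 0 0 (by norm_num) (by norm_num)
  rw [show em 0 0 = 0 by decide +kernel] at h
  exact left_eq_mul.1 h

theorem ev_inv {x : ℕ} (hx : x < 32) : F.ev (ei x) = (F.ev x)⁻¹ := by
  obtain ⟨h1, h2, _⟩ := em_spec hx
  refine eq_inv_of_mul_eq_one_right ?_
  rw [← F.ev_mul x _ hx h1, h2, F.ev_zero]

theorem ev_mul_gen {g e : ℕ} (hg : g < 2) (he : e < 32) :
    F.ev e * F.gen g = F.gen g * F.ev (gact g e) := by
  rw [← F.conj g e hg he]; group

theorem ev_mul_wel : ∀ {w : List ℕ} {e : ℕ}, (∀ g ∈ w, g < 2) → e < 32 →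
    F.ev e * F.wel w = F.wel w * F.ev (wact w e)
  | [], e, _, _ => by simp [wel, wact]
  | g :: w, e, hw, he => by
    rw [F.wel_cons, ← mul_assoc, F.ev_mul_gen (hw g (by simp)) he, mul_assoc,
      ev_mul_wel (fun a ha => hw a (List.mem_cons_of_mem _ ha)) (gact_lt g e), wact, mul_assoc]

/-- The elements `x_q`. -/
def x (q : ℕ) : G := F.wel (word q)

/-- The edges in the mask hold. -/
def Valid (mask : ℕ) : Prop :=
  ∀ q g, q < 24 → g < 2 → Nat.testBit mask (2 * q + g) = true →
    F.x q * F.gen g = F.x (suc q g) * F.ev (edge k q g)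

theorem suc_lt {q g : ℕ} (hq : q < 24) (hg : g < 2) : suc q g < 24 := by
  simpa using chk_range (chk_range chk_suc hq) hg

theorem walk_spec {mask : ℕ} (hv : F.Valid mask) : ∀ {w : List ℕ} {q c : ℕ}, (∀ g ∈ w, g < 2) →
    q < 24 → c < 32 → known mask w q = true →
    F.x q * F.ev c * F.wel w = F.x (walk k w (q, c)).1 * F.ev (walk k w (q, c)).2 ∧
      (walk k w (q, c)).1 < 24
  | [], q, c, _, hq, _, _ => by simp [wel, walk, hq]
  | g :: w, q, c, hw, hq, hc, hk => by
    simp only [known, Bool.and_eq_true] at hk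
    have hg : g < 2 := hw g (by simp)
    have hc' : em (edge k q g) (gact g c) < 32 := em_lt (edge_lt k q g) (gact_lt g c)
    have h := walk_spec hv (fun a ha => hw a (List.mem_cons_of_mem _ ha)) (suc_lt hq hg) hc' hk.2
    refine ⟨?_, h.2⟩
    rw [walk, ← h.1, F.ev_mul _ _ (edge_lt k q g) (gact_lt g c), F.wel_cons]
    simp only [← mul_assoc]
    rw [mul_assoc (F.x q) (F.ev c), F.ev_mul_gen hg hc, ← mul_assoc, hv q g hq hg hk.1]

theorem valid_tree : F.Valid treeMask := by
  intro q g hq hg hb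
  have hi : 2 * q + g ∈ treeEdges := by
    have key : (List.range 48).all (fun i => !Nat.testBit treeMask i || treeEdges.contains i) =
        true := by decide +kernel
    simpa [hb] using chk_range key (show 2 * q + g < 48 by omega)
  have h := List.all_eq_true.1 chk_tree _ hi
  rw [show (2 * q + g) / 2 = q by omega, show (2 * q + g) % 2 = g by omega] at h
  simp only [Bool.and_eq_true, Nat.blt_eq, beq_iff_eq] at h
  have he := chk_range h.1.2 F.hk
  simp only [Nat.beq_eq] at he
  rw [he, F.ev_zero, mul_one, Frame.x, Frame.x, h.2, F.wel_append]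
  simp [wel]

theorem valid_step {mask q t : ℕ} (hv : F.Valid mask) (hq : q < 24) (ht : t < 4)
    (h : stepOK k mask q t = true) : F.Valid (stepMask k mask q t) := by
  intro p g hp hg hb
  change Nat.testBit (mask ||| 1 <<< (2 * (walk k (rots.getD t []).dropLast (q, 0)).1 +
    (rots.getD t []).getLastD 0)) (2 * p + g) = true at hb
  simp only [Nat.shiftLeft_eq, one_mul, Nat.testBit_or, Bool.or_eq_true,
    Nat.testBit_two_pow, decide_eq_true_eq] at hb
  rcases hb with hb | hb
  · exact hv p g hp hg hb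
  simp only [stepOK, Bool.and_eq_true, Nat.beq_eq] at h
  set w := rots.getD t [] with hw
  have hwne : w ≠ [] := by
    rw [hw]; interval_cases t <;> decide
  have hwl : ∀ a ∈ w, a < 2 := by
    rw [hw]; interval_cases t <;> decide
  have hg0 : w.getLastD 0 < 2 := by
    rw [hw]; interval_cases t <;> decide
  obtain ⟨hspec, hlt⟩ := F.walk_spec hv (w := w.dropLast) (c := 0)
    (fun a ha => hwl a (List.dropLast_subset w ha)) hq (by norm_num) h.1.1
  rw [F.ev_zero, mul_one] at hspec
  set s := walk k w.dropLast (q, 0)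
  have hs2 : s.2 < 32 := walk_snd_lt k _ (by norm_num)
  have hgl : g = w.getLastD 0 := by omega
  have hps : p = s.1 := by omega
  subst hgl hps
  have hval : relVal k t < 32 := by
    unfold relVal
    have := F.hk
    cases Nat.beq t 0 <;> cases Nat.beq t 1 <;> simp only [cond_true, cond_false] <;> omega
  have hsplit : w = w.dropLast ++ [w.getLastD 0] := by
    rw [List.getLastD_eq_getLast?, List.getLast?_eq_some_getLast hwne]
    exact (List.dropLast_append_getLast hwne).symm
  have hrel : F.wel w = F.ev (relVal k t) := F.rel t ht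
  rw [hsplit, F.wel_append] at hrel
  have key : F.x s.1 * F.gen (w.getLastD 0) * F.ev (gact (w.getLastD 0) s.2) =
      F.x q * F.ev (relVal k t) := by
    rw [mul_assoc, ← F.ev_mul_gen hg0 hs2, ← mul_assoc, ← hspec, ← hrel]
    simp [wel, mul_assoc]
  rw [h.1.2, h.2, F.ev_mul _ _ hval (em_spec (gact_lt _ _)).1, F.ev_inv (gact_lt _ _),
    ← mul_assoc, ← key, mul_inv_cancel_right]

theorem valid_sched : ∀ (l : List (ℕ × ℕ)) {mask final : ℕ}, (∀ s ∈ l, s.1 < 24 ∧ s.2 < 4) →
    runSched k l mask = some final → F.Valid mask → F.Valid final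
  | [], mask, final, _, h, hv => by
    simp only [runSched, Option.some.injEq] at h
    exact h ▸ hv
  | (q, t) :: l, mask, final, hl, h, hv => by
    simp only [runSched] at h
    cases hs : stepOK k mask q t
    · simp [hs] at h
    · rw [hs, cond_true] at h
      have hb := hl (q, t) (by simp)
      exact valid_sched l (fun s hs' => hl s (List.mem_cons_of_mem _ hs')) h
        (F.valid_step hv hb.1 hb.2 hs)

theorem valid : F.Valid (2 ^ 48 - 1) :=
  F.valid_sched sched (by decide) (beq_iff_eq.1 (chk_range chk_sched F.hk)) F.valid_tree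

theorem x_mul_x {q r : ℕ} (hq : q < 24) (hr : r < 24) :
    F.x q * F.x r = F.x (qm q r) * F.ev (tau k q r) := by
  have hw : ∀ g ∈ word r, g < 2 := fun g hg => word_lt hg
  have hkn : ∀ (w : List ℕ) (p : ℕ), (∀ g ∈ w, g < 2) → p < 24 →
      known (2 ^ 48 - 1) w p = true := by
    intro w
    induction w with
    | nil => intros; rfl
    | cons g w ih =>
      intro p hg hp
      have hg2 : g < 2 := hg g (by simp)
      simp only [known, Bool.and_eq_true, Nat.testBit_two_pow_sub_one, decide_eq_true_eq]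
      exact ⟨by omega, ih _ (fun a ha => hg a (List.mem_cons_of_mem _ ha)) (suc_lt hp hg2)⟩
  have h := (F.walk_spec F.valid hw hq (show 0 < 32 by norm_num) (hkn _ q hw hq)).1
  rw [F.ev_zero, mul_one] at h
  have ht := chk_range chk_tables hr
  simp only [Bool.and_eq_true] at ht
  have ht2 := chk_range (chk_range ht.2 F.hk) hq
  simp only [Bool.and_eq_true, beq_iff_eq] at ht2
  rw [ht2.1.1] at h
  exact h

theorem x_mem {q : ℕ} : F.x q ∈ Subgroup.centralizer ({z} : Set G) := by
  refine Subgroup.list_prod_mem _ fun y hy => ?_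
  obtain ⟨g, hg, rfl⟩ := List.mem_map.1 hy
  exact F.gen_mem g (word_lt hg)

theorem π_x (q : ℕ) : F.π ⟨F.x q, F.x_mem⟩ = ((word q).map permGen).prod := by
  have : ∀ (w : List ℕ) (hw : ∀ g ∈ w, g < 2)
      (hm : F.wel w ∈ Subgroup.centralizer ({z} : Set G)),
      F.π ⟨F.wel w, hm⟩ = (w.map permGen).prod := by
    intro w
    induction w with
    | nil =>
      intro _ hm
      rw [show (⟨F.wel [], hm⟩ : ↥(Subgroup.centralizer ({z} : Set G))) = 1 from Subtype.ext (by simp [wel])]
      simp
    | cons g w ih =>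
      intro hw hm
      have hg := hw g (by simp)
      have hw' : ∀ a ∈ w, a < 2 := fun a ha => hw a (List.mem_cons_of_mem _ ha)
      have hmw : F.wel w ∈ Subgroup.centralizer ({z} : Set G) :=
        Subgroup.list_prod_mem _ fun y hy => by
          obtain ⟨a, ha, rfl⟩ := List.mem_map.1 hy
          exact F.gen_mem a (hw' a ha)
      rw [show (⟨F.wel (g :: w), hm⟩ : ↥(Subgroup.centralizer ({z} : Set G))) =
          ⟨F.gen g, F.gen_mem g hg⟩ * ⟨F.wel w, hmw⟩ from Subtype.ext (F.wel_cons g w), map_mul,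
        F.π_gen g hg, ih hw' hmw]
      simp
  exact this _ (fun g hg => word_lt hg) _

theorem x_inj {q r : ℕ} (hq : q < 24) (hr : r < 24) {e : ℕ} (he : e < 32)
    (h : F.x q = F.x r * F.ev e) : q = r := by
  have h1 : (⟨F.x q, F.x_mem⟩ : ↥(Subgroup.centralizer ({z} : Set G))) =
      ⟨F.x r, F.x_mem⟩ * ⟨F.ev e, F.ev_mem e he⟩ := Subtype.ext h
  have h2 := congrArg F.π h1
  rw [map_mul, (F.π_ker ⟨F.ev e, F.ev_mem e he⟩).2 ⟨e, he, rfl⟩, mul_one, F.π_x, F.π_x] at h2
  exact congrArg Fin.val (perm_spec ⟨q, hq⟩ ⟨r, hr⟩ fun i => Equiv.congr_fun h2 i)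

end Frame

/-- A coding of the centraliser of `z` by the candidate `k`. -/
structure Model (z : G) (k : ℕ) where
  hk : k < 4
  Φ : ℕ → G
  mul_eq : ∀ n m, n < 768 → m < 768 → Φ (mul k n m) = Φ n * Φ m
  inj : ∀ n m, n < 768 → m < 768 → Φ n = Φ m → n = m
  z_eq : Φ 16 = z
  mem_range : ∀ x, x * z = z * x → ∃ n, n < 768 ∧ Φ n = x

theorem Frame.nonempty_model {z : G} {k : ℕ} (F : Frame z k) : Nonempty (Model z k) := by
  refine ⟨⟨F.hk, fun n => F.x (n / 32) * F.ev (n % 32), ?_, ?_, ?_, ?_⟩⟩
  · intro n m hn hm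
    have hq : n / 32 < 24 := by omega
    have hr : m / 32 < 24 := by omega
    have he : n % 32 < 32 := Nat.mod_lt _ (by norm_num)
    have hf : m % 32 < 32 := Nat.mod_lt _ (by norm_num)
    have ht := chk_range chk_tables hr
    simp only [Bool.and_eq_true] at ht
    have ht1 := chk_range ht.1 he
    have ht2 := chk_range (chk_range ht.2 F.hk) hq
    simp only [Bool.and_eq_true, Nat.beq_eq, Nat.blt_eq] at ht1 ht2
    have hc1 : em (tau k (n / 32) (m / 32)) (ph (m / 32) (n % 32)) < 32 := em_lt ht2.2 ht1.2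
    have hc : em (em (tau k (n / 32) (m / 32)) (ph (m / 32) (n % 32))) (m % 32) < 32 := em_lt hc1 hf
    have hd : mul k n m / 32 = qm (n / 32) (m / 32) := by unfold mul; omega
    have hmod : mul k n m % 32 =
        em (em (tau k (n / 32) (m / 32)) (ph (m / 32) (n % 32))) (m % 32) := by unfold mul; omega
    rw [hd, hmod, F.ev_mul _ _ hc1 hf, F.ev_mul _ _ ht2.2 ht1.2, ← mul_assoc, ← mul_assoc,
      ← F.x_mul_x hq hr, ht1.1, mul_assoc (F.x (n / 32)) (F.x (m / 32))]
    rw [show F.x (m / 32) * F.ev (wact (word (m / 32)) (n % 32)) =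
      F.ev (n % 32) * F.x (m / 32) from (F.ev_mul_wel (fun g hg => word_lt hg) he).symm]
    simp [mul_assoc]
  · intro n m hn hm h
    have he : n % 32 < 32 := Nat.mod_lt _ (by norm_num)
    have hf : m % 32 < 32 := Nat.mod_lt _ (by norm_num)
    have hee := (em_spec he).1
    have hq : n / 32 = m / 32 := F.x_inj (by omega) (by omega) (em_lt hf hee) (by
      rw [F.ev_mul _ _ hf hee, ← mul_assoc, ← h, F.ev_inv he, mul_inv_cancel_right])
    simp only [hq] at h
    have := F.ev_inj _ _ he hf (mul_left_cancel h)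
    omega
  · show F.x 0 * F.ev 16 = z
    rw [Frame.x, words_spec.2.1, F.ev_z]
    simp [Frame.wel]
  · intro y hy
    have hym : y ∈ Subgroup.centralizer ({z} : Set G) :=
      Subgroup.mem_centralizer_singleton_iff.2 (by simpa using hy)
    obtain ⟨q, hq⟩ : ∃ q : Fin 24, ((word q).map permGen).prod = F.π ⟨y, hym⟩ := by
      have hb : Function.Bijective fun q : Fin 24 => ((word q).map permGen).prod := by
        rw [Fintype.bijective_iff_injective_and_card]
        exact ⟨fun q r h => perm_spec q r fun i => Equiv.congr_fun h i, by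
          simp [Fintype.card_perm, Nat.factorial]⟩
      exact hb.2 _
    have hk' : F.π (⟨F.x q, F.x_mem⟩⁻¹ * ⟨y, hym⟩) = 1 := by
      rw [map_mul, map_inv, F.π_x, hq, inv_mul_cancel]
    obtain ⟨e, he, hey⟩ := (F.π_ker _).1 hk'
    refine ⟨32 * q + e, by omega, ?_⟩
    show F.x ((32 * (q : ℕ) + e) / 32) * F.ev ((32 * (q : ℕ) + e) % 32) = y
    rw [show (32 * (q : ℕ) + e) / 32 = q by omega, show (32 * (q : ℕ) + e) % 32 = e by omega, hey]
    simp

end CfsgLib.AutLThreeFour70
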