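import Cfsg.Agent.AutLThreeFour70.Code

/-!
# The candidates are groups built from the generators
-/

set_option autoImplicit false
set_option maxRecDepth 100000
set_option Elab.async false

namespace CfsgLib.AutLThreeFour70

theorem chk_em : (List.range 32).all (fun x => Nat.blt (ei x) 32 && Nat.beq (em x (ei x)) 0 &&
    Nat.beq (em (ei x) x) 0 && Nat.beq (em x 0) x && Nat.beq (em 0 x) x &&
    (List.range 32).all fun y => Nat.blt (em x y) 32 &&
      (List.range 32).all fun w => Nat.beq (em (em x y) w) (em x (em y w))) = true := by
  decide +kernel

theorem chk_suc : (List.range 24).all (fun q => (List.range 2).all fun g =>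
    Nat.blt (suc q g) 24) = true := by
  decide +kernel

theorem chk_tree : treeEdges.all (fun i => Nat.blt i 48 &&
    (List.range 4).all (fun k => Nat.beq (edge k (i / 2) (i % 2)) 0) &&
    (word (suc (i / 2) (i % 2)) == word (i / 2) ++ [i % 2])) = true := by
  decide +kernel

theorem chk_sched : (List.range 4).all (fun k =>
    runSched k sched treeMask == some (2 ^ 48 - 1)) = true := by
  decide +kernel

theorem chk_tables : (List.range 24).all (fun r =>
    (List.range 32).all (fun e => Nat.beq (ph r e) (wact (word r) e) && Nat.blt (ph r e) 32) &&
    (List.range 4).all (fun k => (List.range 24).all fun q =>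
      walk k (word r) (q, 0) == (qm q r, tau k q r) && Nat.blt (qm q r) 24 &&
        Nat.blt (tau k q r) 32)) = true := by
  decide +kernel

theorem chk_inv : (List.range 4).all (fun k => codes.all fun n => Nat.blt (inv k n) 768 &&
    Nat.beq (mul k n (inv k n)) 0) = true := by
  decide +kernel

end CfsgLib.AutLThreeFour70
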