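import Cfsg.Agent.AutLThreeFour70.Build
import Cfsg.Agent.ExtraspecialIso.TwoRank

/-!
# Coordinates in an extraspecial group of order 32 of minus type
-/

set_option autoImplicit false

namespace CfsgLib.AutLThreeFour70

open Subgroup CfsgLib.ExtraspecialBasic CfsgLib.ExtraspecialIso

variable {E : Type*} [Group E]

/-- `a` if the bit is set. -/
def pick (a : E) (b : Bool) : E := bif b then a else 1

/-- The element with given coordinates. -/
def coordEl (u0 u1 u2 u3 w : E) (x : ℕ) : E :=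
  pick u0 (Nat.testBit x 0) * pick u1 (Nat.testBit x 1) * pick u2 (Nat.testBit x 2) *
    pick u3 (Nat.testBit x 3) * pick w (Nat.testBit x 4)

/-- The defining relations of `D₈ ∘ Q₈`. -/
structure Rels (u0 u1 u2 u3 w : E) : Prop where
  ww : w * w = 1
  cw : ∀ g, w * g = g * w
  s0 : u0 * u0 = 1
  s1 : u1 * u1 = 1
  s2 : u2 * u2 = w
  s3 : u3 * u3 = w
  c10 : u1 * u0 = u0 * u1 * w
  c32 : u3 * u2 = u2 * u3 * w
  c20 : u2 * u0 = u0 * u2
  c30 : u3 * u0 = u0 * u3
  c21 : u2 * u1 = u1 * u2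
  c31 : u3 * u1 = u1 * u3

theorem Rels.step {u0 u1 u2 u3 w : E} (h : Rels u0 u1 u2 u3 w) (i : Fin 5) (x : Fin 32) :
    coordEl u0 u1 u2 u3 w x * ([u0, u1, u2, u3, w].getD i 1) =
      coordEl u0 u1 u2 u3 w (em x (2 ^ (i : ℕ))) := by
  have e0 : ∀ g, u0 * (u0 * g) = g := fun g => by rw [← mul_assoc, h.s0, one_mul]
  have e1 : ∀ g, u1 * (u1 * g) = g := fun g => by rw [← mul_assoc, h.s1, one_mul]
  have e2 : ∀ g, u2 * (u2 * g) = w * g := fun g => by rw [← mul_assoc, h.s2]
  have e3 : ∀ g, u3 * (u3 * g) = w * g := fun g => by rw [← mul_assoc, h.s3]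
  have ew : ∀ g, w * (w * g) = g := fun g => by rw [← mul_assoc, h.ww, one_mul]
  have f10 : ∀ g, u1 * (u0 * g) = u0 * (u1 * (w * g)) := fun g => by
    rw [← mul_assoc, h.c10, mul_assoc, mul_assoc]
  have f32 : ∀ g, u3 * (u2 * g) = u2 * (u3 * (w * g)) := fun g => by
    rw [← mul_assoc, h.c32, mul_assoc, mul_assoc]
  have f20 : ∀ g, u2 * (u0 * g) = u0 * (u2 * g) := fun g => by rw [← mul_assoc, h.c20, mul_assoc]
  have f30 : ∀ g, u3 * (u0 * g) = u0 * (u3 * g) := fun g => by rw [← mul_assoc, h.c30, mul_assoc]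
  have f21 : ∀ g, u2 * (u1 * g) = u1 * (u2 * g) := fun g => by rw [← mul_assoc, h.c21, mul_assoc]
  have f31 : ∀ g, u3 * (u1 * g) = u1 * (u3 * g) := fun g => by rw [← mul_assoc, h.c31, mul_assoc]
  have w0 : ∀ g, w * (u0 * g) = u0 * (w * g) := fun g => by rw [← mul_assoc, h.cw, mul_assoc]
  have w1 : ∀ g, w * (u1 * g) = u1 * (w * g) := fun g => by rw [← mul_assoc, h.cw, mul_assoc]
  have w2 : ∀ g, w * (u2 * g) = u2 * (w * g) := fun g => by rw [← mul_assoc, h.cw, mul_assoc]
  have w3 : ∀ g, w * (u3 * g) = u3 * (w * g) := fun g => by rw [← mul_assoc, h.cw, mul_assoc]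
  have key : ∀ a b c d e : Bool,
      pick u0 a * pick u1 b * pick u2 c * pick u3 d * pick w e * u0 =
        pick u0 (!a) * pick u1 b * pick u2 c * pick u3 d * pick w (Bool.xor e b) ∧
      pick u0 a * pick u1 b * pick u2 c * pick u3 d * pick w e * u1 =
        pick u0 a * pick u1 (!b) * pick u2 c * pick u3 d * pick w e ∧
      pick u0 a * pick u1 b * pick u2 c * pick u3 d * pick w e * u2 =
        pick u0 a * pick u1 b * pick u2 (!c) * pick u3 d * pick w (Bool.xor e (Bool.xor c d)) ∧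
      pick u0 a * pick u1 b * pick u2 c * pick u3 d * pick w e * u3 =
        pick u0 a * pick u1 b * pick u2 c * pick u3 (!d) * pick w (Bool.xor e d) ∧
      pick u0 a * pick u1 b * pick u2 c * pick u3 d * pick w e * w =
        pick u0 a * pick u1 b * pick u2 c * pick u3 d * pick w (!e) := by
    intro a b c d e
    cases a <;> cases b <;> cases c <;> cases d <;> cases e <;>
      simp [pick, mul_assoc, h.ww, h.s0, h.s1, h.s2, h.s3, h.c10, h.c32, h.c20, h.c30, h.c21,
        h.c31, h.cw u0, h.cw u1, h.cw u2, h.cw u3, e0, e1, e2, e3, ew, f10, f32, f20, f30, f21,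
        f31, w0, w1, w2, w3]
  have bits : ∀ (i : Fin 5) (x : Fin 32) (j : Fin 5),
      Nat.testBit (em x (2 ^ (i : ℕ))) j = (
        let a := Nat.testBit (x : ℕ) 0
        let b := Nat.testBit (x : ℕ) 1
        let c := Nat.testBit (x : ℕ) 2
        let d := Nat.testBit (x : ℕ) 3
        let e := Nat.testBit (x : ℕ) 4
        [[!a, b, c, d, Bool.xor e b], [a, !b, c, d, e], [a, b, !c, d, Bool.xor e (Bool.xor c d)],
          [a, b, c, !d, Bool.xor e d], [a, b, c, d, !e]].getD i [] |>.getD j false) := by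
    decide +kernel
  obtain ⟨k0, k1, k2, k3, k4⟩ := key (Nat.testBit x 0) (Nat.testBit x 1) (Nat.testBit x 2)
    (Nat.testBit x 3) (Nat.testBit x 4)
  have b0 := bits i x 0
  have b1 := bits i x 1
  have b2 := bits i x 2
  have b3 := bits i x 3
  have b4 := bits i x 4
  simp only [Fin.val_zero, Fin.val_one, Fin.val_two, show ((3 : Fin 5) : ℕ) = 3 from rfl,
    show ((4 : Fin 5) : ℕ) = 4 from rfl] at b0 b1 b2 b3 b4
  unfold coordEl
  rw [b0, b1, b2, b3, b4]
  fin_cases i
  · exact k0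
  · exact k1
  · exact k2
  · exact k3
  · exact k4

theorem Rels.coordEl_mul {u0 u1 u2 u3 w : E} (h : Rels u0 u1 u2 u3 w) {x y : ℕ} (hx : x < 32)
    (hy : y < 32) : coordEl u0 u1 u2 u3 w (em x y) =
      coordEl u0 u1 u2 u3 w x * coordEl u0 u1 u2 u3 w y := by
  have st : ∀ (i : ℕ) (b : Bool) (g : E) (v : ℕ), i < 5 → v < 32 →
      ([u0, u1, u2, u3, w].getD i 1 = g) →
      coordEl u0 u1 u2 u3 w v * pick g b = coordEl u0 u1 u2 u3 w (em v (bif b then 2 ^ i else 0)) := by
    intro i b g v hi hv hg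
    cases b
    · simp [pick, (em_spec hv).2.2.2.1]
    · subst hg
      exact h.step ⟨i, hi⟩ ⟨v, hv⟩
  have hf : ∀ x y : Fin 32, em (em (em (em (em x (bif Nat.testBit y 0 then 1 else 0))
      (bif Nat.testBit y 1 then 2 else 0)) (bif Nat.testBit y 2 then 4 else 0))
      (bif Nat.testBit y 3 then 8 else 0)) (bif Nat.testBit y 4 then 16 else 0) = em x y := by
    decide +kernel
  have l : ∀ (b : Bool) (n v : ℕ), v < 32 → n < 32 → em v (bif b then n else 0) < 32 :=
    fun b n v hv hn => em_lt hv (by cases b <;> simp [hn])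
  set a0 := em x (bif Nat.testBit y 0 then 2 ^ 0 else 0) with ha0
  have l0 : a0 < 32 := l _ _ _ hx (by norm_num)
  set a1 := em a0 (bif Nat.testBit y 1 then 2 ^ 1 else 0) with ha1
  have l1 : a1 < 32 := l _ _ _ l0 (by norm_num)
  set a2 := em a1 (bif Nat.testBit y 2 then 2 ^ 2 else 0) with ha2
  have l2 : a2 < 32 := l _ _ _ l1 (by norm_num)
  set a3 := em a2 (bif Nat.testBit y 3 then 2 ^ 3 else 0) with ha3
  have l3 : a3 < 32 := l _ _ _ l2 (by norm_num)
  conv_rhs => enter [2]; unfold coordEl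
  simp only [← mul_assoc]
  rw [st 0 _ u0 x (by norm_num) hx rfl, st 1 _ u1 a0 (by norm_num) l0 rfl,
    st 2 _ u2 a1 (by norm_num) l1 rfl, st 3 _ u3 a2 (by norm_num) l2 rfl,
    st 4 _ w a3 (by norm_num) l3 rfl]
  exact congrArg _ (hf ⟨x, hx⟩ ⟨y, hy⟩).symm

/-- An extraspecial group of order 32 without elementary subgroups of order 8 is coded by `em`. -/
theorem exists_coord [Finite E] (hE : Cfsg.IsExtraspecial 2 E) (hc : Nat.card E = 32)
    (hminus : ∀ A : Subgroup E, Cfsg.IsElementaryAbelian 2 A → Nat.card A ≠ 8) :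
    ∃ ev : ℕ → E, (∀ x y, x < 32 → y < 32 → ev (em x y) = ev x * ev y) ∧
      (∀ x y, x < 32 → y < 32 → ev x = ev y → x = y) ∧
      (∀ g, ∃ x, x < 32 ∧ ev x = g) ∧
      ev 16 ∈ center E ∧ (∀ g ∈ center E, g = 1 ∨ g = ev 16) := by
  haveI : Fact (Nat.Prime 2) := ⟨Nat.prime_two⟩
  obtain ⟨w, hg⟩ := CfsgLib.ExtraspecialIso.exists_gen hE
  have hD : Nondeg (⊤ : Subgroup E) := nondeg_top
  have hcT : Nat.card (⊤ : Subgroup E) = 2 ^ (2 * (1 + 1) + 1) := by
    rw [Subgroup.card_top, hc]; norm_num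
  have hno : ¬ HasElem (⊤ : Subgroup E) 3 := by
    rintro ⟨A, -, hA, hA2, hA8⟩
    obtain ⟨n, hn⟩ := (IsPGroup.iff_card (p := 2) (G := A)).1 fun a => ⟨1, Subtype.ext (by
      rw [SubgroupClass.coe_pow, pow_one]; exact hA2 a a.2)⟩
    have h3 : 3 ≤ n := by
      by_contra hlt
      have : 2 ^ n ≤ 2 ^ 2 := Nat.pow_le_pow_right (by norm_num) (by omega)
      omega
    obtain ⟨B, hB⟩ := Sylow.exists_subgroup_card_pow_prime 2 (G := A) (n := 3)
      (hn ▸ pow_dvd_pow 2 h3)
    refine hminus (B.map A.subtype) ⟨⟨⟨fun a b => ?_⟩⟩, fun a ha => ?_⟩ ?_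
    · obtain ⟨a, a', -, rfl⟩ := a
      obtain ⟨b, b', -, rfl⟩ := b
      exact Subtype.ext (show (a' : E) * b' = b' * a' from congrArg Subtype.val (hA.is_comm.comm a' b'))
    · obtain ⟨a', -, rfl⟩ := ha
      exact hA2 _ a'.2
    · rw [Subgroup.card_map_of_injective A.subtype_injective, hB]
      norm_num
  obtain ⟨x, hx, hxc, hx2⟩ := hg.exists_involution hD hcT
  obtain ⟨y, hy, hP, hy2⟩ := hg.exists_involution_pair hD hx hxc hx2
  obtain ⟨K, hK, hKc, hcom, hinf, hsup⟩ := hg.split hD hcT hx hy hP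
  have hk : ¬ HasElem K 2 := fun hh =>
    hno (hg.hasElem_succ hx hxc hx2 hcom hinf (hsup ▸ le_sup_right) hh)
  obtain ⟨e, he, x', hx', y', hy', hP', hx2', hy2'⟩ :=
    hg.exists_pair_eight hK (by simpa using hKc)
  obtain ⟨L, hL, hLc, hcom', hinf', hsup'⟩ := hg.split hK (n := 0) (by simpa using hKc) hx' hy' hP'
  have he1 : e = 1 := he.resolve_left fun h0 => hk (by
    subst h0
    rw [zpow_zero] at hx2'
    exact hg.hasElem_succ hx' (notMem_center_of_pair hg hP') hx2' hcom' hinf'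
      (hsup' ▸ le_sup_right) (hg.hasElem_base hL))
  subst he1
  rw [zpow_one] at hx2' hy2'
  have hxcl : x ∈ closure ({x, y, w} : Set E) := subset_closure (by simp)
  have hycl : y ∈ closure ({x, y, w} : Set E) := subset_closure (by simp)
  have hR : Rels x y x' y' w :=
    { ww := hg.z_sq
      cw := fun g => ((hP.commute_z g).eq).symm
      s0 := by rw [← sq, hx2]
      s1 := by rw [← sq, hy2]
      s2 := by rw [← sq, hx2']
      s3 := by rw [← sq, hy2']
      c10 := hP.comm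
      c32 := hP'.comm
      c20 := ((hcom x hxcl x' hx').eq).symm
      c30 := ((hcom x hxcl y' hy').eq).symm
      c21 := ((hcom y hycl x' hx').eq).symm
      c31 := ((hcom y hycl y' hy').eq).symm }
  set ev := coordEl x y x' y' w with hev
  have hmul : ∀ a b, a < 32 → b < 32 → ev (em a b) = ev a * ev b := fun a b => hR.coordEl_mul
  have h0 : ev 0 = 1 := by simp [hev, coordEl, pick]
  let R : Subgroup E :=
    { carrier := {g | ∃ a, a < 32 ∧ ev a = g}
      mul_mem' := by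
        rintro _ _ ⟨a, ha, rfl⟩ ⟨b, hb, rfl⟩
        exact ⟨_, em_lt ha hb, hmul a b ha hb⟩
      one_mem' := ⟨0, by norm_num, h0⟩
      inv_mem' := by
        rintro _ ⟨a, ha, rfl⟩
        refine ⟨ei a, (em_spec ha).1, eq_inv_of_mul_eq_one_right ?_⟩
        rw [← hmul a _ ha (em_spec ha).1, (em_spec ha).2.1, h0] }
  have hmem : x ∈ R ∧ y ∈ R ∧ x' ∈ R ∧ y' ∈ R ∧ w ∈ R :=
    ⟨⟨1, by norm_num, by simp [hev, coordEl, pick, Nat.testBit]⟩,
      ⟨2, by norm_num, by simp [hev, coordEl, pick, Nat.testBit]⟩,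
      ⟨4, by norm_num, by simp [hev, coordEl, pick, Nat.testBit]⟩,
      ⟨8, by norm_num, by simp [hev, coordEl, pick, Nat.testBit]⟩,
      ⟨16, by norm_num, by simp [hev, coordEl, pick, Nat.testBit]⟩⟩
  have h16 : ev 16 = w := by simp [hev, coordEl, pick, Nat.testBit]
  have hLw : L = zpowers w := hg.eq_of_card hL (by simpa using hLc)
  have hKR : K ≤ R := by
    rw [← hsup', hLw]
    refine sup_le ((closure_le _).2 ?_) (zpowers_le.2 hmem.2.2.2.2)
    simp [Set.insert_subset_iff, hmem]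
  have htop : R = ⊤ := top_le_iff.1 (by
    rw [← hsup]
    refine sup_le ((closure_le _).2 ?_) hKR
    simp [Set.insert_subset_iff, hmem])
  have hsurj : ∀ g, ∃ a, a < 32 ∧ ev a = g := fun g => by
    have : g ∈ R := htop ▸ mem_top g
    exact this
  refine ⟨ev, hmul, ?_, hsurj, h16 ▸ hg.mem, fun g hgc => ?_⟩
  · have hb : Function.Bijective fun a : Fin 32 => ev a :=
      Function.Surjective.bijective_of_nat_card_le (fun g => by
        obtain ⟨a, ha, rfl⟩ := hsurj g
        exact ⟨⟨a, ha⟩, rfl⟩) (by simp [hc])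
    intro a b ha hb' hab
    exact congrArg Fin.val (hb.1 (a₁ := ⟨a, ha⟩) (a₂ := ⟨b, hb'⟩) hab)
  · have h2 : Nat.card (center E) = 2 := hg.extra.2
    have hw1 : w ≠ 1 := fun h => by
      have := hg.order; rw [h, orderOf_one] at this; norm_num at this
    obtain ⟨u, -, hu⟩ := (Nat.card_eq_two_iff' (1 : center E)).1 h2
    by_cases hg1 : g = 1
    · exact Or.inl hg1
    · refine Or.inr ?_
      have e1 := hu ⟨g, hgc⟩ fun h => hg1 (congrArg Subtype.val h)
      have e2 := hu ⟨w, hg.mem⟩ fun h => hw1 (congrArg Subtype.val h)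
      rw [h16]
      exact congrArg Subtype.val (e1.trans e2.symm)

end CfsgLib.AutLThreeFour70
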