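import Cfsg.Agent.AutLThreeFour70.Linear

/-!
# The action of a group on a coded normal subgroup, read in linear maps
-/

set_option autoImplicit false

namespace CfsgLib.AutLThreeFour70

variable {C : Type*} [Group C]

theorem land15_lt (c : ℕ) : Nat.land c 15 < 16 :=
  Nat.lt_of_le_of_lt Nat.and_le_right (by norm_num)

/-- A coded normal subgroup containing its centraliser, with central element `w`. -/
structure Crd (w : C) where
  ev : ℕ → C
  ev_mul : ∀ x y, x < 32 → y < 32 → ev (em x y) = ev x * ev y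
  ev_inj : ∀ x y, x < 32 → y < 32 → ev x = ev y → x = y
  ev_w : ev 16 = w
  central : ∀ h : C, h * w = w * h
  normal : ∀ (h : C) (x : ℕ), x < 32 → ∃ c, c < 32 ∧ ev c = h⁻¹ * ev x * h
  self : ∀ h : C, (∀ x, x < 32 → h * ev x = ev x * h) → ∃ c, c < 32 ∧ ev c = h

theorem bits_eq : ∀ x : Fin 32,
    em (em (em (em (bit (Nat.testBit x 0) 1) (bit (Nat.testBit x 1) 2))
      (bit (Nat.testBit x 2) 4)) (bit (Nat.testBit x 3) 8)) (bit (Nat.testBit x 4) 16) = x := by
  decide +kernel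

theorem low_em : ∀ x y : Fin 32,
    Nat.land (em x y) 15 = Nat.xor (Nat.land x 15) (Nat.land y 15) := by
  decide +kernel

theorem low_bits : ∀ x : Fin 32, ∀ j : Fin 4,
    Nat.testBit (Nat.land (x : ℕ) 15) j = Nat.testBit (x : ℕ) j := by
  decide +kernel

theorem qf_low : ∀ x : Fin 32, qf (Nat.land x 15) = qf x ∧ Nat.land (x : ℕ) 15 < 32 := by
  decide +kernel

/-- An endomorphism of the coded group. -/
structure IsHomE (f : ℕ → ℕ) : Prop where
  lt : ∀ x, x < 32 → f x < 32
  mul : ∀ x y, x < 32 → y < 32 → f (em x y) = em (f x) (f y)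

/-- The images of the basis, modulo the centre. -/
def vecOf (f : ℕ → ℕ) : Vec :=
  (Nat.land (f 1) 15, Nat.land (f 2) 15, Nat.land (f 4) 15, Nat.land (f 8) 15)

namespace IsHomE

variable {f : ℕ → ℕ} (hf : IsHomE f)
include hf

theorem zero : f 0 = 0 := by
  have h := hf.mul 0 0 (by norm_num) (by norm_num)
  rw [show em 0 0 = 0 by decide +kernel] at h
  have hl := hf.lt 0 (by norm_num)
  have hkey : ∀ x : Fin 32, em x x = x → (x : ℕ) = 0 := by decide +kernel
  exact hkey ⟨_, hl⟩ h.symm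

theorem bit_eq (b : Bool) (a : ℕ) : f (bit b a) = bit b (f a) := by
  cases b
  · exact hf.zero
  · rfl

theorem decomp {x : ℕ} (hx : x < 32) :
    f x = em (em (em (em (bit (Nat.testBit x 0) (f 1)) (bit (Nat.testBit x 1) (f 2)))
      (bit (Nat.testBit x 2) (f 4))) (bit (Nat.testBit x 3) (f 8)))
      (bit (Nat.testBit x 4) (f 16)) := by
  have hb : ∀ (b : Bool) (a : ℕ), a < 32 → bit b a < 32 := by
    intro b a ha; cases b
    · exact (by norm_num : 0 < 32)
    · exact ha
  conv_lhs => rw [← show em (em (em (em (bit (Nat.testBit x 0) 1) (bit (Nat.testBit x 1) 2))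
    (bit (Nat.testBit x 2) 4)) (bit (Nat.testBit x 3) 8)) (bit (Nat.testBit x 4) 16) = x from
      bits_eq ⟨x, hx⟩]
  have l0 := hb (Nat.testBit x 0) 1 (by norm_num)
  have l1 := hb (Nat.testBit x 1) 2 (by norm_num)
  have l2 := hb (Nat.testBit x 2) 4 (by norm_num)
  have l3 := hb (Nat.testBit x 3) 8 (by norm_num)
  have l4 := hb (Nat.testBit x 4) 16 (by norm_num)
  rw [hf.mul _ _ (em_lt (em_lt (em_lt l0 l1) l2) l3) l4, hf.mul _ _ (em_lt (em_lt l0 l1) l2) l3,
    hf.mul _ _ (em_lt l0 l1) l2, hf.mul _ _ l0 l1]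
  simp only [hf.bit_eq]

theorem ext {g : ℕ → ℕ} (hg : IsHomE g) (h16 : f 16 = g 16)
    (h : ∀ j, j < 4 → f (2 ^ j) = g (2 ^ j)) {x : ℕ} (hx : x < 32) : f x = g x := by
  rw [hf.decomp hx, hg.decomp hx, h16, show f 1 = g 1 from h 0 (by norm_num),
    show f 2 = g 2 from h 1 (by norm_num), show f 4 = g 4 from h 2 (by norm_num),
    show f 8 = g 8 from h 3 (by norm_num)]

theorem low (h16 : f 16 = 16) {x : ℕ} (hx : x < 32) :
    Nat.land (f x) 15 = app (vecOf f) (Nat.land x 15) := by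
  have hb : ∀ (b : Bool) (a : ℕ), a < 32 → bit b a < 32 := by
    intro b a ha; cases b
    · exact (by norm_num : 0 < 32)
    · exact ha
  have l0 := hb (Nat.testBit x 0) _ (hf.lt 1 (by norm_num))
  have l1 := hb (Nat.testBit x 1) _ (hf.lt 2 (by norm_num))
  have l2 := hb (Nat.testBit x 2) _ (hf.lt 4 (by norm_num))
  have l3 := hb (Nat.testBit x 3) _ (hf.lt 8 (by norm_num))
  have l4 := hb (Nat.testBit x 4) 16 (by norm_num)
  have hbl : ∀ (b : Bool) (a : ℕ), Nat.land (bit b a) 15 = bit b (Nat.land a 15) := by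
    intro b a; cases b
    · exact Nat.zero_and 15
    · rfl
  have hl : ∀ {a b : ℕ}, a < 32 → b < 32 →
      Nat.land (em a b) 15 = Nat.xor (Nat.land a 15) (Nat.land b 15) :=
    fun ha hb => low_em ⟨_, ha⟩ ⟨_, hb⟩
  rw [hf.decomp hx, h16, hl (em_lt (em_lt (em_lt l0 l1) l2) l3) l4,
    hl (em_lt (em_lt l0 l1) l2) l3, hl (em_lt l0 l1) l2, hl l0 l1, hbl, hbl, hbl, hbl, hbl,
    show Nat.land 16 15 = 0 by decide, show bit (Nat.testBit x 4) 0 = 0 by cases Nat.testBit x 4 <;> rfl]
  have t : ∀ j, j < 4 → Nat.testBit (Nat.land x 15) j = Nat.testBit x j :=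
    fun j hj => low_bits ⟨x, hx⟩ ⟨j, hj⟩
  unfold app vecOf
  rw [t 0 (by norm_num), t 1 (by norm_num), t 2 (by norm_num), t 3 (by norm_num)]
  show ((_ ^^^ _) ^^^ _) ^^^ _ ^^^ 0 = (_ ^^^ _) ^^^ (_ ^^^ _)
  rw [Nat.xor_zero, Nat.xor_assoc]

end IsHomE

/-- A vector of vectors below 16. -/
def VLt (v : Vec) : Prop := v.1 < 16 ∧ v.2.1 < 16 ∧ v.2.2.1 < 16 ∧ v.2.2.2 < 16

theorem vecOf_lt (f : ℕ → ℕ) : VLt (vecOf f) :=
  ⟨land15_lt _, land15_lt _, land15_lt _, land15_lt _⟩

theorem veq_iff {v w : Vec} : veq v w = true ↔ v = w := by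
  obtain ⟨a, b, c, d⟩ := v
  obtain ⟨a', b', c', d'⟩ := w
  simp [veq, and_assoc]

namespace Crd

variable {w : C} (K : Crd w)

theorem ev_zero : K.ev 0 = 1 := by
  have h := K.ev_mul 0 0 (by norm_num) (by norm_num)
  rw [show em 0 0 = 0 by decide +kernel] at h
  exact left_eq_mul.1 h

theorem ev_inv {x : ℕ} (hx : x < 32) : K.ev (ei x) = (K.ev x)⁻¹ := by
  obtain ⟨h1, h2, _⟩ := em_spec hx
  refine eq_inv_of_mul_eq_one_right ?_
  rw [← K.ev_mul x _ hx h1, h2, K.ev_zero]

theorem exists_act (h : C) (x : ℕ) : ∃ c, c < 32 ∧ (x < 32 → K.ev c = h⁻¹ * K.ev x * h) := by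
  rcases lt_or_ge x 32 with hx | hx
  · obtain ⟨c, hc, hc'⟩ := K.normal h x hx
    exact ⟨c, hc, fun _ => hc'⟩
  · exact ⟨0, by norm_num, fun h' => absurd h' (not_lt.2 hx)⟩

/-- The action of an element, in codes. -/
noncomputable def act (h : C) (x : ℕ) : ℕ := (K.exists_act h x).choose

theorem act_spec (h : C) {x : ℕ} (hx : x < 32) :
    K.act h x < 32 ∧ K.ev (K.act h x) = h⁻¹ * K.ev x * h :=
  ⟨(K.exists_act h x).choose_spec.1, (K.exists_act h x).choose_spec.2 hx⟩

theorem act_eq {h : C} {x c : ℕ} (hx : x < 32) (hc : c < 32) (he : K.ev c = h⁻¹ * K.ev x * h) :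
    K.act h x = c :=
  K.ev_inj _ _ (K.act_spec h hx).1 hc ((K.act_spec h hx).2.trans he.symm)

theorem act_hom (h : C) : IsHomE (K.act h) where
  lt x hx := (K.act_spec h hx).1
  mul x y hx hy := by
    refine K.act_eq (em_lt hx hy) (em_lt (K.act_spec h hx).1 (K.act_spec h hy).1) ?_
    rw [K.ev_mul _ _ (K.act_spec h hx).1 (K.act_spec h hy).1, (K.act_spec h hx).2,
      (K.act_spec h hy).2, K.ev_mul x y hx hy]
    group

theorem act_sixteen (h : C) : K.act h 16 = 16 :=
  K.act_eq (by norm_num) (by norm_num) (by rw [K.ev_w, mul_assoc, ← K.central, inv_mul_cancel_left])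

/-- The linear map of an element. -/
noncomputable def vec (h : C) : Vec := vecOf (K.act h)

theorem act_low (h : C) {x : ℕ} (hx : x < 32) :
    Nat.land (K.act h x) 15 = app (K.vec h) (Nat.land x 15) :=
  (K.act_hom h).low (K.act_sixteen h) hx

theorem act_mul (g h : C) {x : ℕ} (hx : x < 32) : K.act (g * h) x = K.act h (K.act g x) := by
  refine K.act_eq hx (K.act_spec h (K.act_spec g hx).1).1 ?_
  rw [(K.act_spec h (K.act_spec g hx).1).2, (K.act_spec g hx).2]
  group

theorem vec_mul (g h : C) : K.vec (g * h) = comp (K.vec h) (K.vec g) := by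
  have e : ∀ x, x < 32 → Nat.land (K.act (g * h) x) 15 = app (K.vec h) (Nat.land (K.act g x) 15) :=
    fun x hx => by rw [K.act_mul g h hx, K.act_low h (K.act_spec g hx).1]
  simp only [vec, vecOf, comp]
  refine Prod.ext (e 1 (by norm_num)) (Prod.ext (e 2 (by norm_num))
    (Prod.ext (e 4 (by norm_num)) (e 8 (by norm_num))))

theorem act_ev {c x : ℕ} (hc : c < 32) (hx : x < 32) : K.act (K.ev c) x = cjE c x := by
  obtain ⟨h1, -⟩ := em_spec hc
  refine K.act_eq hx (em_lt (em_lt h1 hx) hc) ?_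
  rw [cjE, K.ev_mul _ _ (em_lt h1 hx) hc, K.ev_mul _ _ h1 hx, K.ev_inv hc]

theorem vec_ev {c : ℕ} (hc : c < 32) : K.vec (K.ev c) = idV := by
  have e : ∀ x, x < 32 → Nat.land (K.act (K.ev c) x) 15 = Nat.land x 15 := fun x hx => by
    have h := chk_range (chk_range chk_cjE hc) hx
    simp only [Bool.and_eq_true, Nat.beq_eq] at h
    rw [K.act_ev hc hx, h.1]
  simp only [vec, vecOf, idV]
  refine Prod.ext (e 1 (by norm_num)) (Prod.ext (e 2 (by norm_num))
    (Prod.ext (e 4 (by norm_num)) (e 8 (by norm_num))))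

theorem vec_iso (h : C) : K.vec h ∈ isoms := by
  have hl : VLt (K.vec h) := vecOf_lt _
  have hi : isIso (K.vec h) = true := by
    refine List.all_eq_true.2 fun x hx => ?_
    have hx16 : x < 16 := List.mem_range.1 hx
    have hx32 : x < 32 := by omega
    have hlow : Nat.land x 15 = x := by interval_cases x <;> rfl
    have ha := K.act_spec h hx32
    have e := K.act_low h hx32
    rw [hlow] at e
    simp only [Bool.and_eq_true, Nat.beq_eq, Bool.or_eq_true, Bool.not_eq_true',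
      ← Bool.not_eq_true]
    constructor
    · rw [← e, (qf_low ⟨_, ha.1⟩).1]
      show em (K.act h x) (K.act h x) / 16 = em x x / 16
      rw [← (K.act_hom h).mul x x hx32 hx32]
      have hsq : ∀ y : Fin 32, em y y = 0 ∨ em y y = 16 := by decide +kernel
      rcases hsq ⟨x, hx32⟩ with hs | hs <;> rw [hs]
      · rw [(K.act_hom h).zero]
      · rw [K.act_sixteen]
    · by_cases hx0 : x = 0
      · exact Or.inl hx0
      · refine Or.inr fun h0 => ?_
        rw [← e] at h0
        have hc : ∀ y : Fin 32, Nat.land (y : ℕ) 15 = 0 → (y : ℕ) = 0 ∨ (y : ℕ) = 16 := by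
          decide +kernel
        rcases hc ⟨_, ha.1⟩ h0 with h1 | h1
        · refine hx0 (K.ev_inj x 0 hx32 (by norm_num) ?_)
          have h2 := ha.2
          simp only at h1
          rw [h1, K.ev_zero] at h2
          have h3 : K.ev x = h * (h⁻¹ * K.ev x * h) * h⁻¹ := by group
          rw [h3, ← h2, mul_one, mul_inv_cancel, K.ev_zero]
        · have h4 : x = 16 := by
            refine K.ev_inj x 16 hx32 (by norm_num) ?_
            have h2 := ha.2
            simp only at h1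
            rw [h1, K.ev_w] at h2
            have h3 : K.ev x = h * (h⁻¹ * K.ev x * h) * h⁻¹ := by group
            rw [h3, ← h2, K.central, mul_inv_cancel_right, K.ev_w]
          omega
  have h' := chk_range (chk_range (chk_range (chk_range chk_iso hl.1) hl.2.1) hl.2.2.1) hl.2.2.2
  simp only [Prod.eta, hi, Bool.not_true, Bool.false_or, List.any_eq_true] at h'
  obtain ⟨g, hg, he⟩ := h'
  exact (veq_iff.1 he) ▸ hg

/-- An element with trivial linear map is in the subgroup. -/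
theorem exists_of_vec {h : C} (hv : K.vec h = idV) : ∃ c, c < 32 ∧ K.ev c = h := by
  have hex : ∀ j, j < 4 → ∃ b : Bool, K.act h (2 ^ j) = Nat.lor (2 ^ j) (bit b 16) := by
    intro j hj
    have hl : Nat.land (K.act h (2 ^ j)) 15 = 2 ^ j := by
      simp only [vec, vecOf, idV, Prod.mk.injEq] at hv
      interval_cases j
      · exact hv.1
      · exact hv.2.1
      · exact hv.2.2.1
      · exact hv.2.2.2
    have hk : ∀ (y : Fin 32) (j : Fin 4), Nat.land (y : ℕ) 15 = 2 ^ (j : ℕ) →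
        ∃ b : Bool, (y : ℕ) = Nat.lor (2 ^ (j : ℕ)) (bit b 16) := by decide +kernel
    have h2 : 2 ^ j < 32 := by interval_cases j <;> norm_num
    exact hk ⟨_, (K.act_spec h h2).1⟩ ⟨j, hj⟩ hl
  choose b hb using hex
  have hpat : ∀ b0 b1 b2 b3 : Bool, ∃ eps : Fin 16, Nat.testBit eps 0 = b0 ∧
      Nat.testBit eps 1 = b1 ∧ Nat.testBit eps 2 = b2 ∧ Nat.testBit eps 3 = b3 := by decide +kernel
  obtain ⟨eps, p0, p1, p2, p3⟩ :=
    hpat (b 0 (by norm_num)) (b 1 (by norm_num)) (b 2 (by norm_num)) (b 3 (by norm_num))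
  have hE := chk_range chk_sign_id eps.2
  simp only [List.any_eq_true, List.mem_range] at hE
  obtain ⟨e, he, hej⟩ := hE
  have hfix : ∀ x, x < 32 → K.act (h * K.ev e) x = x := by
    intro x hx
    refine (K.act_hom _).ext (g := id) ⟨fun _ h => h, fun _ _ _ _ => rfl⟩ (K.act_sixteen _)
      (fun j hj => ?_) hx
    have h2 : 2 ^ j < 32 := by interval_cases j <;> norm_num
    have hj' := chk_range hej hj
    simp only [Nat.beq_eq] at hj'
    rw [K.act_mul _ _ h2, K.act_ev he (K.act_spec h h2).1, hb j hj]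
    interval_cases j
    · rw [← p0]; exact hj'
    · rw [← p1]; exact hj'
    · rw [← p2]; exact hj'
    · rw [← p3]; exact hj'
  obtain ⟨c, hc, hcv⟩ := K.self (h * K.ev e) fun x hx => by
    have h2 := (K.act_spec (h * K.ev e) hx).2
    rw [hfix x hx] at h2
    conv_lhs => rw [h2]
    group
  exact ⟨em c (ei e), em_lt hc (em_spec he).1, by
    rw [K.ev_mul _ _ hc (em_spec he).1, hcv, K.ev_inv he, mul_inv_cancel_right]⟩

theorem lift_bij {g : Vec} (hg : g ∈ isoms) :
    (∀ x, x < 32 → liftV g x < 32) ∧ (∀ c, c < 32 → ∃ x, x < 32 ∧ liftV g x = c) ∧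
      ∀ x y, x < 32 → y < 32 → liftV g x = liftV g y → x = y := by
  have hlt : ∀ v, v < 32 → liftV g v < 32 := fun v hv => by
    have h1 := chk_range (List.all_eq_true.1 chk_lift.1 g hg) hv
    simp only [Bool.and_eq_true, Nat.blt_eq] at h1
    exact h1.1.1.1
  have hs : ∀ c, c < 32 → ∃ x, x < 32 ∧ liftV g x = c := fun c hc => by
    have h1 := chk_range (List.all_eq_true.1 chk_lift_surj g hg) hc
    simpa [List.any_eq_true] using h1
  refine ⟨hlt, hs, fun x y hx hy h => ?_⟩
  have hsur : Function.Surjective fun v : Fin 32 => (⟨liftV g v, hlt v v.2⟩ : Fin 32) := by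
    intro c
    obtain ⟨v, hv, hvc⟩ := hs c c.2
    exact ⟨⟨v, hv⟩, Fin.ext hvc⟩
  exact congrArg Fin.val
    (Finite.injective_iff_surjective.2 hsur (a₁ := ⟨x, hx⟩) (a₂ := ⟨y, hy⟩) (Fin.ext h))

/-- Change of coordinates by an isometry. -/
def relabel {g : Vec} (hg : g ∈ isoms) : Crd w where
  ev x := K.ev (liftV g x)
  ev_mul x y hx hy := by
    have h := chk_range (List.all_eq_true.1 chk_lift.1 g hg) hx
    simp only [Bool.and_eq_true] at h
    have h2 := chk_range h.2 hy
    simp only [Nat.beq_eq] at h2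
    show K.ev (liftV g (em x y)) = K.ev (liftV g x) * K.ev (liftV g y)
    rw [h2, K.ev_mul _ _ ((lift_bij hg).1 x hx) ((lift_bij hg).1 y hy)]
  ev_inj x y hx hy h :=
    (lift_bij hg).2.2 x y hx hy (K.ev_inj _ _ ((lift_bij hg).1 x hx) ((lift_bij hg).1 y hy) h)
  ev_w := by
    have h := List.all_eq_true.1 chk_lift.2 g hg
    simp only [Nat.beq_eq] at h
    rw [h, K.ev_w]
  central := K.central
  normal h x hx := by
    obtain ⟨c, hc, hce⟩ := K.normal h _ ((lift_bij hg).1 x hx)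
    obtain ⟨v, hv, rfl⟩ := (lift_bij hg).2.1 c hc
    exact ⟨v, hv, hce⟩
  self h hh := by
    obtain ⟨c, hc, hce⟩ := K.self h fun x hx => by
      obtain ⟨v, hv, rfl⟩ := (lift_bij hg).2.1 x hx
      exact hh v hv
    obtain ⟨v, hv, rfl⟩ := (lift_bij hg).2.1 c hc
    exact ⟨v, hv, hce⟩

theorem vec_relabel {g : Vec} (hg : g ∈ isoms) (h : C) :
    comp g ((K.relabel hg).vec h) = comp (K.vec h) g := by
  have e : ∀ x, x < 32 → app g (Nat.land ((K.relabel hg).act h x) 15) =
      app (K.vec h) (Nat.land (liftV g x) 15) := by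
    intro x hx
    have ha := (K.relabel hg).act_spec h hx
    have h1 := chk_range (List.all_eq_true.1 chk_lift.1 g hg) ha.1
    simp only [Bool.and_eq_true, Nat.beq_eq] at h1
    have h2 : K.act h (liftV g x) = liftV g ((K.relabel hg).act h x) :=
      K.act_eq ((lift_bij hg).1 x hx) ((lift_bij hg).1 _ ha.1) ha.2
    rw [← h1.1.1.2, ← h2, K.act_low h ((lift_bij hg).1 x hx)]
  have hlow : ∀ x, x < 32 → Nat.land (liftV g x) 15 = app g (Nat.land x 15) := fun x hx => by
    have h1 := chk_range (List.all_eq_true.1 chk_lift.1 g hg) hx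
    simp only [Bool.and_eq_true, Nat.beq_eq] at h1
    exact h1.1.1.2
  have hb : ∀ p : Fin 4, app g (2 ^ (p : ℕ)) = [g.1, g.2.1, g.2.2.1, g.2.2.2].getD p 0 := by
    intro p
    fin_cases p <;> simp [app, bit, Nat.testBit, Nat.shiftRight_eq_div_pow]
  have e' : ∀ p : Fin 4, app g (Nat.land ((K.relabel hg).act h (2 ^ (p : ℕ))) 15) =
      app (K.vec h) ([g.1, g.2.1, g.2.2.1, g.2.2.2].getD p 0) := by
    intro p
    have hp : 2 ^ (p : ℕ) < 32 := by fin_cases p <;> norm_num
    rw [e _ hp, hlow _ hp, ← hb, show Nat.land (2 ^ (p : ℕ)) 15 = 2 ^ (p : ℕ) by fin_cases p <;> rfl]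
  exact Prod.ext (e' 0) (Prod.ext (e' 1) (Prod.ext (e' 2) (e' 3)))

end Crd

end CfsgLib.AutLThreeFour70
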