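import Cfsg.Agent.CITGroups.Main
import Cfsg.Agent.CITGroups.Numerics
import Cfsg.Agent.GW.PSLTorus
import Cfsg.Agent.CAGroups.Simple
import Cfsg.Agent.AutPSL.AutOrder
import Cfsg.Agent.AutPSL.FieldAut
import Cfsg.Agent.Linear.Perfect
import Cfsg.Agent.Linear.Basic
import Cfsg.Agent.Small.DihedralConj

/-!
# Identification of `L₃(4)` and of `Aut L₃(4)` (for S3237)

A simple CIT group with an involution whose centraliser has order 64 and contains two
non-commuting involutions is `PSL₃(4)`; a group with normal subgroup `PSL₃(4)`, trivial centraliser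
and order at least `|Aut L₃(4)|` is the automorphism group of `PGL₃(4)`.
-/

set_option autoImplicit false
set_option linter.unusedSectionVars false
set_option linter.style.haveILetI false

namespace CfsgLib.AutLThreeFour70

open Subgroup
open scoped MatrixGroups

universe u v

/-- Two involutions are conjugate or commute with a common involution. -/
theorem conj_or_common {G : Type*} [Group G] [Finite G] {a b : G} (ha : orderOf a = 2)
    (hb : orderOf b = 2) :
    IsConj a b ∨ ∃ z : G, orderOf z = 2 ∧ z * a = a * z ∧ z * b = b * z := by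
  rcases Nat.even_or_odd (orderOf (a * b)) with hev | ⟨r, hr⟩
  · obtain ⟨hz, hza, hzb⟩ := CfsgLib.Small.half_pow_spec ha hb hev
    exact Or.inr ⟨_, hz, hza, hzb⟩
  · obtain ⟨d, -, hd⟩ := CfsgLib.Small.conj_closure_pair_exists ha hb ((r : ℤ) + 1)
    refine Or.inl (isConj_iff.2 ⟨d, hd.trans ?_⟩)
    rw [show 2 * ((r : ℤ) + 1) = ((orderOf (a * b) : ℕ) : ℤ) + 1 by rw [hr]; push_cast; ring,
      zpow_add, zpow_natCast, pow_orderOf_eq_one, one_mul, zpow_one, ← mul_assoc,
      CfsgLib.Small.mul_self_of_orderOf_two ha, one_mul]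

theorem exists_psl_of_cit {M : Type u} [Group M] [Finite M] [IsSimpleGroup M]
    (h : CfsgLib.CITGroups.IsCIT M) (t : M) (ht : orderOf t = 2)
    (h64 : Nat.card (Subgroup.centralizer ({t} : Set M)) = 64)
    (hnc : ∃ x y : M, x * x = 1 ∧ y * y = 1 ∧ x * t = t * x ∧ y * t = t * y ∧ x * y ≠ y * x)
    {F : Type v} [Field F] [Fintype F] (hF : Fintype.card F = 4) :
    Nonempty (M ≃* Matrix.ProjectiveSpecialLinearGroup (Fin 3) F) := by
  obtain ⟨x, y, hxx, hyy, hxt, hyt, hxy⟩ := hnc
  rcases CfsgLib.CITGroups.simple_classification ⟨x, y, hxy⟩ h with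
    ⟨K, iK, iK', hcase, ⟨e⟩⟩ | ⟨K, iK, iK', hK, ⟨e⟩⟩ | ⟨H, hH, -⟩
  · exfalso
    letI := iK
    letI := iK'
    have ht' : orderOf (e t) = 2 := by rw [MulEquiv.orderOf_eq, ht]
    by_cases hodd : Odd (Fintype.card K)
    · have hmap : Nat.card (centralizer ({e t} : Set _)) = 64 := by
        rw [← h64]
        refine Nat.card_congr (e.toEquiv.subtypeEquiv fun a => ?_).symm
        simp only [mem_centralizer_singleton_iff, MulEquiv.toEquiv_eq_coe, EquivLike.coe_coe,
          ← map_mul, e.injective.eq_iff]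
      rcases CfsgLib.GW.card_centralizer_involution_psl hodd ht' with ⟨-, hc⟩ | ⟨-, hc⟩
      all_goals
        rw [hmap] at hc
        rcases hcase with h9 | ⟨n, hn⟩ | ⟨hp, -⟩
        · omega
        · rcases Nat.eq_zero_or_pos n with rfl | hn0
          · rw [pow_zero] at hn
            have := Fintype.one_lt_card (α := K)
            omega
          · rw [hn] at hodd
            exact Nat.not_odd_iff_even.2 ((Nat.even_pow' hn0.ne').2 even_two) hodd
        · have : Fintype.card K = 65 ∨ Fintype.card K = 63 := by omega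
          rcases this with e' | e' <;> rw [e'] at hp <;> norm_num at hp
    · obtain ⟨p, hp⟩ := CharP.exists K
      obtain ⟨f, hpp, hf⟩ := FiniteField.card K p
      rcases hpp.eq_two_or_odd' with rfl | ho
      · have hct := CfsgLib.CAGroups.commTransitive_congr
          (CfsgLib.CAGroups.sl2EquivPSL2.trans e.symm) (CfsgLib.CAGroups.sl2_commTransitive (F := K))
        have hcc := hct.centralizer_commutative (a := t) (fun h => by simp [h] at ht)
        exact hxy (congrArg Subtype.val (hcc.is_comm.comm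
          (⟨x, mem_centralizer_singleton_iff.2 hxt⟩ : centralizer ({t} : Set M))
          ⟨y, mem_centralizer_singleton_iff.2 hyt⟩))
      · exact hodd (hf ▸ ho.pow)
  · letI := iK
    letI := iK'
    exact ⟨e.trans (CfsgLib.Linear.pslFieldCongr (hK.trans hF.symm))⟩
  · exfalso
    obtain ⟨z, hzH, hz⟩ := hH.exists_invol
    have ti' : ∀ s : M, orderOf s = 2 → s ∈ H → ∀ c : M, c * s = s * c →
        c ∈ normalizer (H : Set M) := fun s hs hsH c hc =>
      hH.ti c s hsH (fun h => by simp [h] at hs) (by rwa [hc, mul_inv_cancel_right])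
    obtain ⟨g, hg⟩ : ∃ g : M, g * t * g⁻¹ ∈ H := by
      rcases conj_or_common ht hz with hc | ⟨w, hw, hwt, hwz⟩
      · obtain ⟨g, hg⟩ := isConj_iff.1 hc
        exact ⟨g, hg ▸ hzH⟩
      · have hwH : w ∈ H := hH.invol_mem w (ti' z hz hzH w hwz) hw
        exact ⟨1, by
          simpa using hH.invol_mem t (ti' w hw hwH t hwt.symm) ht⟩
    have hgt : orderOf (g * t * g⁻¹) = 2 := by
      rw [show g * t * g⁻¹ = MulAut.conj g t from rfl, MulEquiv.orderOf_eq, ht]
    have key : ∀ a : M, a * a = 1 → a * t = t * a → g * a * g⁻¹ ∈ H := by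
      intro a haa hat
      by_cases ha1 : a = 1
      · simp [ha1]
      refine hH.invol_mem _ (ti' _ hgt hg _ ?_) ?_
      · calc g * a * g⁻¹ * (g * t * g⁻¹) = g * (a * t) * g⁻¹ := by group
          _ = g * (t * a) * g⁻¹ := by rw [hat]
          _ = _ := by group
      · rw [show g * a * g⁻¹ = MulAut.conj g a from rfl, MulEquiv.orderOf_eq]
        exact CfsgLib.CITGroups.orderOf_two_of_mul_self haa ha1
    by_cases hx1 : x = 1
    · simp [hx1] at hxy
    have ho : orderOf (g * x * g⁻¹) = 2 := by
      rw [show g * x * g⁻¹ = MulAut.conj g x from rfl, MulEquiv.orderOf_eq]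
      exact CfsgLib.CITGroups.orderOf_two_of_mul_self hxx hx1
    refine hxy ?_
    have := (hH.invol_central _ (key x hxx hxt) ho _ (key y hyy hyt)).eq
    calc x * y = g⁻¹ * ((g * x * g⁻¹) * (g * y * g⁻¹)) * g := by group
      _ = g⁻¹ * ((g * y * g⁻¹) * (g * x * g⁻¹)) * g := by rw [this]
      _ = y * x := by group

open CfsgLib.AutPSL in
/-- `MulAut PSL₃(4) ≅ MulAut PGL₃(4)`. -/
theorem nonempty_mulAut_psl_pgl {F : Type v} [Field F] [Fintype F] (hF : Fintype.card F = 4) :
    Nonempty (MulAut (Matrix.ProjectiveSpecialLinearGroup (Fin 3) F) ≃*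
      MulAut (GL (Fin 3) F ⧸ Subgroup.center (GL (Fin 3) F))) := by
  classical
  haveI : Fact (Nat.Prime 2) := ⟨Nat.prime_two⟩
  haveI : CharP F 2 := charP_of_card_eq_prime_pow (f := 2) (by rw [hF]; norm_num)
  have : Nontrivial (Fin 3) := Fin.nontrivial_iff_two_le.2 (by norm_num)
  set Z := Subgroup.center (GL (Fin 3) F) with hZ
  let ψ : GL (Fin 3) F ⧸ Z →* MulAut (Matrix.ProjectiveSpecialLinearGroup (Fin 3) F) :=
    QuotientGroup.lift Z (toPSLAut.comp conjSL) (fun g hg => by
      rw [hZ, Matrix.GeneralLinearGroup.center_eq_range_scalar] at hg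
      obtain ⟨u, rfl⟩ := hg
      rw [MonoidHom.mem_ker, MonoidHom.comp_apply, conjSL_scalar, map_one])
  have hψ : ∀ g, ψ (QuotientGroup.mk g) = toPSLAut (conjSL g) := fun g => rfl
  have hψinj : Function.Injective ψ := by
    refine (injective_iff_map_eq_one ψ).2 fun q hq => ?_
    induction q using QuotientGroup.induction_on with | _ g =>
    rw [hψ, ← map_one toPSLAut] at hq
    obtain ⟨-, u, rfl⟩ := semilinear_unique (g := g) (g' := 1) (σ := 1) (σ' := 1)
      (by rw [toPSLAut_injective 2 hq, map_one conjSL])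
    rw [QuotientGroup.eq_one_iff, hZ, mul_one, Matrix.GeneralLinearGroup.center_eq_range_scalar]
    exact ⟨u, rfl⟩
  let ι : Matrix.ProjectiveSpecialLinearGroup (Fin 3) F →* GL (Fin 3) F ⧸ Z :=
    QuotientGroup.lift (Subgroup.center (Matrix.SpecialLinearGroup (Fin 3) F))
      ((QuotientGroup.mk' Z).comp Matrix.SpecialLinearGroup.toGL) (fun s hs => by
        obtain ⟨r, hr, hrs⟩ := Matrix.SpecialLinearGroup.mem_center_iff.1 hs
        rw [MonoidHom.mem_ker, MonoidHom.comp_apply, QuotientGroup.mk'_apply,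
          QuotientGroup.eq_one_iff, hZ, Matrix.GeneralLinearGroup.center_eq_range_scalar]
        have hr0 : r ≠ 0 := by
          rintro rfl
          simp at hr
        refine ⟨Units.mk0 r hr0, Units.ext ?_⟩
        rw [Matrix.SpecialLinearGroup.coe_GL_coe_matrix, ← hrs]
        rfl)
  have hι : ∀ s, ι (QuotientGroup.mk s) = QuotientGroup.mk (Matrix.SpecialLinearGroup.toGL s) :=
    fun _ => rfl
  have hψι : ∀ a, ψ (ι a) = MulAut.conj a := by
    intro a
    induction a using QuotientGroup.induction_on with | _ s =>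
    rw [hι, hψ, conjSL_toGL, toPSLAut_conj]
  have hιinj : Function.Injective ι := by
    refine (injective_iff_map_eq_one ι).2 fun a ha => ?_
    induction a using QuotientGroup.induction_on with | _ s =>
    rw [hι, QuotientGroup.eq_one_iff, hZ] at ha
    rw [QuotientGroup.eq_one_iff, Subgroup.mem_center_iff]
    intro t
    have := Subgroup.mem_center_iff.1 ha (Matrix.SpecialLinearGroup.toGL t)
    rw [← map_mul, ← map_mul] at this
    exact Matrix.SpecialLinearGroup.toGL_injective this
  have hconjι : ∀ z a, z * ι a * z⁻¹ = ι (ψ z a) := by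
    intro z a
    induction z using QuotientGroup.induction_on with | _ g =>
    induction a using QuotientGroup.induction_on with | _ s =>
    rw [hψ, toPSLAut_mk, hι, hι, ← QuotientGroup.mk_inv, ← QuotientGroup.mk_mul,
      ← QuotientGroup.mk_mul]
    congr 1
    exact Units.ext rfl
  -- the lower map
  haveI hD : ψ.range.Normal := by
    refine ⟨fun d hd β => ?_⟩
    obtain ⟨q, rfl⟩ := hd
    induction q using QuotientGroup.induction_on with | _ g =>
    obtain ⟨g0, σ, γ, hγ, rfl⟩ := exists_form (by norm_num : 2 ≤ 3) β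
    obtain ⟨g', hg'⟩ : ∃ g', γ * conjSL g * γ⁻¹ = conjSL g' := by
      rcases hγ with rfl | rfl
      · exact ⟨g, by rw [one_mul, inv_one, mul_one]⟩
      · exact ⟨invTransGL g, by rw [invTransSL_mul_conjSL, mul_inv_cancel_right]⟩
    refine ⟨QuotientGroup.mk (g0 * mapGL σ g' * g0⁻¹), ?_⟩
    rw [hψ, hψ, ← map_inv toPSLAut, ← map_mul toPSLAut, ← map_mul toPSLAut]
    congr 1
    rw [map_mul conjSL, map_mul conjSL, map_inv conjSL, eq_mul_inv_iff_mul_eq, ← fieldSL_mul_conjSL
      σ g' |> fun h => mul_inv_eq_iff_eq_mul.2 h, ← hg']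
    group
  let Φ : MulAut (Matrix.ProjectiveSpecialLinearGroup (Fin 3) F) →* MulAut (GL (Fin 3) F ⧸ Z) :=
    (MulAut.congr (MonoidHom.ofInjective hψinj).symm).toMonoidHom.comp MulAut.conjNormal
  have hΦ : Function.Injective Φ := by
    refine (injective_iff_map_eq_one Φ).2 fun β hβ => ?_
    have h1 : MulAut.conjNormal (H := ψ.range) β = 1 :=
      (MulAut.congr (MonoidHom.ofInjective hψinj).symm).injective (by rw [map_one]; exact hβ)
    ext1 a
    refine hιinj (hψinj ?_)
    rw [hψι, hψι, MulAut.one_apply]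
    have h2 : β * MulAut.conj a * β⁻¹ = MulAut.conj a := by
      have := congrArg (fun e : MulAut ψ.range => ((e ⟨ψ (ι a), ι a, rfl⟩ : ψ.range) :
        MulAut (Matrix.ProjectiveSpecialLinearGroup (Fin 3) F))) h1
      simpa [hψι] using this
    ext1 b
    have h3 := congrArg (fun e : MulAut (Matrix.ProjectiveSpecialLinearGroup (Fin 3) F) => e b) h2
    simp only [MulAut.mul_apply, MulAut.conj_apply, map_mul, map_inv, MulAut.apply_inv_self] at h3
    simpa using h3
  -- the upper bound
  have hcomm : commutator (GL (Fin 3) F ⧸ Z) = ι.range := by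
    have h1 : commutator (GL (Fin 3) F ⧸ Z) = (commutator (GL (Fin 3) F)).map (QuotientGroup.mk' Z) := by
      rw [_root_.commutator_def, _root_.commutator_def, Subgroup.map_commutator,
        Subgroup.map_top_of_surjective _ (QuotientGroup.mk'_surjective Z)]
    rw [h1, CfsgLib.Linear.commutator_GL (by simp)]
    ext q
    constructor
    · rintro ⟨g, hg, rfl⟩
      obtain ⟨s, rfl⟩ : ∃ s, Matrix.SpecialLinearGroup.toGL s = g :=
        ⟨⟨g, congrArg Units.val (show Matrix.GeneralLinearGroup.det g = 1 from hg)⟩, Units.ext rfl⟩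
      exact ⟨QuotientGroup.mk s, rfl⟩
    · rintro ⟨a, rfl⟩
      induction a using QuotientGroup.induction_on with | _ s =>
      exact ⟨Matrix.SpecialLinearGroup.toGL s,
        MonoidHom.mem_ker.2 (Units.ext (by simp)), rfl⟩
  have hchar : ∀ α : MulAut (GL (Fin 3) F ⧸ Z), ι.range.map α.toMonoidHom = ι.range := fun α => by
    rw [← hcomm, _root_.commutator_def, Subgroup.map_commutator,
      Subgroup.map_top_of_surjective _ α.surjective]
  let e := MonoidHom.ofInjective hιinj
  let res : MulAut (GL (Fin 3) F ⧸ Z) → MulAut (Matrix.ProjectiveSpecialLinearGroup (Fin 3) F) :=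
    fun α => e.trans (((α.subgroupMap ι.range).trans (MulEquiv.subgroupCongr (hchar α))).trans e.symm)
  have hres : ∀ α a, ι (res α a) = α (ι a) := fun α a =>
    MonoidHom.apply_ofInjective_symm hιinj _
  have hresinj : Function.Injective res := by
    intro α α' h
    have h1 : ∀ a, α (ι a) = α' (ι a) := fun a => by rw [← hres, ← hres, h]
    ext1 x
    have h2 : ∀ a, (x⁻¹ * α'.symm (α x)) * ι a * (x⁻¹ * α'.symm (α x))⁻¹ = ι a := by
      intro a
      have h3 := h1 (ψ x⁻¹⁻¹ a)
      rw [← hconjι, inv_inv, map_mul, map_mul, map_inv, h1, map_mul, map_mul, map_inv] at h3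
      have h4 := congrArg α'.symm h3
      simp only [map_mul, map_inv, MulEquiv.symm_apply_apply] at h4
      calc _ = x⁻¹ * (α'.symm (α x) * ι a * (α'.symm (α x))⁻¹) * x := by group
        _ = x⁻¹ * (x * ι a * x⁻¹) * x := by rw [h4]
        _ = ι a := by group
    have h5 : ψ (x⁻¹ * α'.symm (α x)) = 1 := by
      ext1 a
      rw [MulAut.one_apply]
      exact hιinj (by rw [← hconjι]; exact h2 a)
    rw [← map_one ψ] at h5
    have h6 := hψinj h5
    rw [inv_mul_eq_one] at h6
    have := congrArg α' h6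
    rwa [MulEquiv.apply_symm_apply, eq_comm] at this
  exact ⟨MulEquiv.ofBijective Φ
    (hΦ.bijective_of_nat_card_le (Nat.card_le_card_of_injective res hresinj))⟩

theorem card_mulAut_psl {F : Type v} [Field F] [Fintype F] (hF : Fintype.card F = 4) :
    Nat.card (MulAut (Matrix.ProjectiveSpecialLinearGroup (Fin 3) F)) = 241920 := by
  haveI : Fact (Nat.Prime 2) := ⟨Nat.prime_two⟩
  have hF' : Fintype.card F = 2 ^ 2 := by rw [hF]; norm_num
  have h3 : Nat.card (Matrix.SpecialLinearGroup (Fin 3) F) = 60480 := by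
    have h := CfsgLib.Linear.card_SL_mul (n := Fin 3) (F := F)
    rw [Matrix.card_GL_field, hF] at h
    simp [Fin.prod_univ_three] at h
    omega
  rw [CfsgLib.AutPSL.card_aut_psl hF' (by norm_num) (by norm_num),
    CfsgLib.AutPSL.card_ringEquiv hF' (by norm_num), CfsgLib.Linear.card_PGL, h3]
  norm_num

theorem nonempty_mulAut_pgl {G : Type u} [Group G] [Finite G] (M : Subgroup G) [M.Normal]
    {F : Type v} [Field F] [Fintype F] (hF : Fintype.card F = 4)
    (e : M ≃* Matrix.ProjectiveSpecialLinearGroup (Fin 3) F)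
    (hC : Subgroup.centralizer (M : Set G) = ⊥) (hcard : 241920 ≤ Nat.card G) :
    Nonempty (G ≃* MulAut (GL (Fin 3) F ⧸ Subgroup.center (GL (Fin 3) F))) := by
  let φ : G →* MulAut (Matrix.ProjectiveSpecialLinearGroup (Fin 3) F) :=
    (MulAut.congr e).toMonoidHom.comp MulAut.conjNormal
  have hφ : Function.Injective φ := by
    refine (injective_iff_map_eq_one φ).2 fun g hg => ?_
    have h1 : MulAut.conjNormal (H := M) g = 1 :=
      (MulAut.congr e).injective (by rw [map_one]; exact hg)
    have h2 : g ∈ Subgroup.centralizer (M : Set G) := mem_centralizer_iff.2 fun m hm => by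
      have := congrArg (fun f : MulAut M => ((f ⟨m, hm⟩ : M) : G)) h1
      simp only [MulAut.conjNormal_apply, MulAut.one_apply] at this
      exact (mul_inv_eq_iff_eq_mul.1 this).symm
    rwa [hC, Subgroup.mem_bot] at h2
  obtain ⟨f⟩ := nonempty_mulAut_psl_pgl hF
  exact ⟨(MulEquiv.ofBijective φ
    (hφ.bijective_of_nat_card_le (by rw [card_mulAut_psl hF]; exact hcard))).trans f⟩

end CfsgLib.AutLThreeFour70
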