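import Cfsg.Agent.AutLThreeFour70.Hom
import Cfsg.Agent.AutLThreeFour70.Ident
import Cfsg.Agent.CharSimple.Basic

/-!
# The normal simple subgroup and the identification
-/

set_option autoImplicit false
set_option maxRecDepth 20000

namespace CfsgLib.AutLThreeFour70

open Subgroup
open CfsgLib.Small (orderOf_conj_eq)

theorem c3_facts : (∀ a : Multiplicative (ZMod 3), a ^ 4 = 1 → a = 1) ∧
    ∀ a : Multiplicative (ZMod 3), a⁻¹ = a → a = 1 := by
  decide

theorem chk_cent_R : codes.all (fun n => !isCen 0 rMask n || isW n) = true := by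
  decide +kernel

theorem chk_u_comm : com 0 (cj 0 2 328) 328 = false ∧
    Nat.testBit rMask (cj 0 2 328) = true := by
  decide +kernel

namespace Ctx

variable {G : Type*} [Group G] [Finite G] {z : G} (C : Ctx z)

/-- The homomorphism of order three. -/
noncomputable def V : C.N4 →* Multiplicative (ZMod 3) := C.exists_hom.choose

theorem V_d : C.V ⟨C.d, C.K_le C.d_mem_K⟩ ≠ 1 := C.exists_hom.choose_spec

/-- The largest normal subgroup of `G` in the kernel. -/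
noncomputable def G3 : Subgroup G := (C.V.ker.map C.N4.subtype).normalCore

instance : C.G3.Normal := Subgroup.normalCore_normal _

theorem G3_le : C.G3 ≤ C.N4 := (Subgroup.normalCore_le _).trans (map_subtype_le _)

theorem V_G3 {x : G} (hx : x ∈ C.G3) (h : x ∈ C.N4) : C.V ⟨x, h⟩ = 1 := by
  obtain ⟨y, hy, hyx⟩ := Subgroup.normalCore_le _ hx
  rwa [show (⟨x, h⟩ : C.N4) = y from Subtype.ext hyx.symm]

theorem mem_G3 {x : G}
    (h : ∀ g : G, ∃ hg : g * x * g⁻¹ ∈ C.N4, C.V ⟨_, hg⟩ = 1) : x ∈ C.G3 := fun g => by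
  obtain ⟨hg, hV⟩ := h g
  exact ⟨⟨_, hg⟩, hV, rfl⟩

theorem R_pow_four {r : G} (hr : r ∈ C.R) : r ^ 4 = 1 := by
  rw [show r ^ 4 = r * r * (r * r) by rw [show (4 : ℕ) = 2 * 2 from rfl, pow_mul, pow_two, pow_two],
    (C.mem_R_iff (C.R_le_K hr)).1 hr]

theorem R_le_G3 : C.R ≤ C.G3 := fun r hr => C.mem_G3 fun g => by
  have h4 := C.N4_spec.1.conj_mem r (C.K_le (C.R_le_K hr)) g
  refine ⟨h4, c3_facts.1 _ ?_⟩
  rw [← map_pow]
  convert map_one C.V
  exact Subtype.ext (by rw [SubmonoidClass.coe_pow, conj_pow, C.R_pow_four hr]; group; rfl)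

theorem mem_R_of_G3 {x : G} (hx : x ∈ C.G3) (hxz : x * z = z * x) : x ∈ C.R := by
  have hK : x ∈ C.K := C.mem_K_iff.2 ⟨C.G3_le hx, hxz⟩
  have hV := C.V_G3 hx (C.G3_le hx)
  obtain ⟨n, hn, hs, rfl⟩ := hK
  have h := List.all_eq_true.1 chk_K.1 n (mem_elems.2 ⟨hn, hs⟩)
  simp only [Bool.and_eq_true, Bool.or_eq_true] at h
  rcases h.1.2 with (h1 | h1) | h1
  · exact (C.M.mem_sub hn).2 h1
  · exfalso
    have hi := inv_lt C.M.hk (show 64 < 768 by norm_num)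
    have hm : C.M.Φ (mul 0 n (inv 0 64)) ∈ C.G3 :=
      C.R_le_G3 ((C.M.mem_sub (mul_lt C.M.hk hn hi)).2 h1)
    have hm' := C.V_G3 hm (C.G3_le hm)
    rw [show (⟨_, C.G3_le hm⟩ : C.N4) = ⟨C.M.Φ n, C.G3_le hx⟩ * ⟨C.d, C.K_le C.d_mem_K⟩⁻¹ from
      Subtype.ext (by
        show C.M.Φ (mul 0 n (inv 0 64)) = C.M.Φ n * (C.d)⁻¹
        rw [C.M.mul_eq _ _ hn hi, C.M.map_inv (show 64 < 768 by norm_num)]; rfl),
      map_mul, map_inv, hV, one_mul, inv_eq_one] at hm'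
    exact C.V_d hm'
  · exfalso
    have hi : (64 : ℕ) < 768 := by norm_num
    have hm : C.M.Φ (mul 0 n 64) ∈ C.G3 :=
      C.R_le_G3 ((C.M.mem_sub (mul_lt C.M.hk hn hi)).2 h1)
    have hm' := C.V_G3 hm (C.G3_le hm)
    rw [show (⟨_, C.G3_le hm⟩ : C.N4) = ⟨C.M.Φ n, C.G3_le hx⟩ * ⟨C.d, C.K_le C.d_mem_K⟩ from
      Subtype.ext (by
        show C.M.Φ (mul 0 n 64) = C.M.Φ n * C.d
        rw [C.M.mul_eq _ _ hn hi]; rfl), map_mul, hV, one_mul] at hm'
    exact C.V_d hm'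

theorem W_unique {x y w : G} (hx : C.InW x) (hy : C.InW y) (hw : C.InW w) (hxz : x ≠ z)
    (hyz : y ≠ z) (hwz : w ≠ z) (hxy : x ≠ y) : w = x ∨ w = y := by
  rcases hx with rfl | rfl | rfl <;> rcases hy with rfl | rfl | rfl <;>
    rcases hw with rfl | rfl | rfl <;> simp_all

/-- The class of `u` is the class of `z`. -/
theorem isConj_u : IsConj z C.u := by
  by_contra hu
  obtain ⟨n, x, hnY, hxY, hn3, hnA, hnz, hzx, hinv, -⟩ := C.exists_n hu
  have hn4 := (C.mem_Y.1 hnY).1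
  have hx4 := (C.mem_Y.1 hxY).1
  have hnG : n ∈ C.G3 := C.mem_G3 fun g => by
    refine ⟨C.N4_spec.1.conj_mem n hn4 g, c3_facts.2 _ ?_⟩
    have e : (⟨g * n * g⁻¹, C.N4_spec.1.conj_mem n hn4 g⟩ : C.N4)⁻¹ =
        ⟨g * x * g⁻¹, C.N4_spec.1.conj_mem x hx4 g⟩ *
          ⟨g * n * g⁻¹, C.N4_spec.1.conj_mem n hn4 g⟩ *
          ⟨g * x * g⁻¹, C.N4_spec.1.conj_mem x hx4 g⟩⁻¹ := Subtype.ext (by
      show (g * n * g⁻¹)⁻¹ = g * x * g⁻¹ * (g * n * g⁻¹) * (g * x * g⁻¹)⁻¹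
      rw [show g * x * g⁻¹ * (g * n * g⁻¹) * (g * x * g⁻¹)⁻¹ = g * (x * n * x⁻¹) * g⁻¹ by group,
        hinv]
      group)
    rw [← map_inv, e, map_mul, map_mul, map_inv, mul_comm (C.V _) (C.V _), mul_inv_cancel_right]
  set σ := C.M.Φ 2 with hσ
  have hσz : σ * z = z * σ := C.M.z_comm (show 2 < 768 by norm_num)
  have hσA : ∀ v ∈ C.A1, σ * v * σ⁻¹ ∈ C.A2 := by
    rintro _ ⟨m, hm, hs, rfl⟩
    have h := List.all_eq_true.1 chk_A.1 m (mem_elems.2 ⟨hm, hs⟩)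
    simp only [Bool.and_eq_true] at h
    rw [hσ, ← C.M.map_cj (show 2 < 768 by norm_num) hm]
    exact (C.M.mem_sub (cj_lt C.M.hk (show 2 < 768 by norm_num) hm)).2 h.1.1.1.1.1.2
  have hσA' : ∀ v ∈ C.A2, σ * v * σ⁻¹ ∈ C.A1 := by
    rintro _ ⟨m, hm, hs, rfl⟩
    have h := List.all_eq_true.1 chk_A.2.1 m (mem_elems.2 ⟨hm, hs⟩)
    simp only [Bool.and_eq_true] at h
    rw [hσ, ← C.M.map_cj (show 2 < 768 by norm_num) hm]
    exact (C.M.mem_sub (cj_lt C.M.hk (show 2 < 768 by norm_num) hm)).2 h.1.1.2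
  have hσW : ∀ w, C.InW w → C.InW (σ * w * σ⁻¹) := fun w hw => by
    rcases C.one_or_inW (hσA' w (C.W_mem_A1 hw).2.1) (hσA w (C.W_mem_A1 hw).1) with h | h
    · have := C.orderOf_inW hw
      rw [conj_eq_one_iff.1 h, orderOf_one] at this
      norm_num at this
    · exact h
  have hnW : C.InW (n * z * n⁻¹) :=
    C.inW_of_A1 hu (hnA z (C.W_mem_A1 C.inW_z).1) (isConj_iff.2 ⟨n, rfl⟩)
  have hng : C.Good n := ⟨hn4, hnW⟩
  have hnzne : n * z * n⁻¹ ≠ z := fun h => hnz (mul_inv_eq_iff_eq_mul.1 h)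
  have hn1 : n ^ 3 = 1 := hn3 ▸ pow_orderOf_eq_one n
  have hinvne : n⁻¹ * z * n ≠ z := fun h => hnz (by
    calc n * z = n * (n⁻¹ * z * n) := by rw [h]
      _ = z * n := by group)
  have hpair : n * z * n⁻¹ ≠ n⁻¹ * z * n := fun h => hnzne (by
    calc n * z * n⁻¹ = n ^ 3 * (n⁻¹ * (n⁻¹ * z * n) * n) * (n ^ 3)⁻¹ := by
          simp only [pow_succ, pow_zero, one_mul]; group
      _ = n⁻¹ * (n * z * n⁻¹) * n := by rw [hn1, ← h]; group
      _ = z := by group)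
  set n' := σ * n * σ⁻¹ with hn'
  have hn'G : n' ∈ C.G3 := (inferInstance : C.G3.Normal).conj_mem n hnG σ
  have hn'eq : n' * z * n'⁻¹ = σ * (n * z * n⁻¹) * σ⁻¹ := by
    have h1 : σ⁻¹ * z * σ = z := by rw [mul_assoc, ← hσz, inv_mul_cancel_left]
    calc n' * z * n'⁻¹ = σ * (n * (σ⁻¹ * z * σ) * n⁻¹) * σ⁻¹ := by rw [hn']; group
      _ = _ := by rw [h1]
  have hn'W : C.InW (n' * z * n'⁻¹) := hn'eq ▸ hσW _ hnW
  have hn'ne : n' * z * n'⁻¹ ≠ z := fun h => hnzne (by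
    rw [hn'eq] at h
    calc n * z * n⁻¹ = σ⁻¹ * (σ * (n * z * n⁻¹) * σ⁻¹) * σ := by group
      _ = z := by rw [h, mul_assoc, ← hσz, inv_mul_cancel_left])
  have hu' := C.u_mem
  set u' := σ * C.u * σ⁻¹ with hdu'
  obtain ⟨n0, hn0g, hn0G, hn0u, hn0z⟩ : ∃ n0, C.Good n0 ∧ n0 ∈ C.G3 ∧
      n0 * C.u = C.u * n0 ∧ n' * z * n'⁻¹ = n0 * z * n0⁻¹ := by
    have hnu := (C.mem_Y.1 hnY).2
    have hi := C.good_inv hng
    rcases C.W_unique hnW (by simpa using hi.2) hn'W hnzne hinvne hn'ne hpair with h | h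
    · exact ⟨n, hng, hnG, hnu, h⟩
    · exact ⟨n⁻¹, hi, inv_mem hnG, (Commute.inv_left (show Commute n C.u from hnu)).eq,
        by rw [inv_inv]; exact h⟩
  have hn0ne : n0 * z * n0⁻¹ ≠ z := hn0z ▸ hn'ne
  set m := n0⁻¹ * n' with hm
  have hmR : m ∈ C.R := C.mem_R_of_G3 (mul_mem (inv_mem hn0G) hn'G) (mul_inv_eq_iff_eq_mul.1 (by
    calc m * z * m⁻¹ = n0⁻¹ * (n' * z * n'⁻¹) * n0 := by rw [hm]; group
      _ = z := by rw [hn0z]; group))
  have hmove : n0⁻¹ * u' * n0 = m * u' * m⁻¹ := by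
    have h1 : n' * u' = u' * n' := by
      rw [hn', hdu']
      calc σ * n * σ⁻¹ * (σ * C.u * σ⁻¹) = σ * (n * C.u) * σ⁻¹ := by group
        _ = σ * (C.u * n) * σ⁻¹ := by rw [(C.mem_Y.1 hnY).2]
        _ = σ * C.u * σ⁻¹ * (σ * n * σ⁻¹) := by group
    symm
    calc m * u' * m⁻¹ = n0⁻¹ * (n' * u') * n'⁻¹ * n0 := by rw [hm]; group
      _ = n0⁻¹ * (u' * n') * n'⁻¹ * n0 := by rw [h1]
      _ = n0⁻¹ * u' * n0 := by group
  -- `m` moves `u'` by an element of the triple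
  have hσ4 : ∀ v, v ∈ C.R → σ⁻¹ * v * σ ∈ C.R := by
    intro v hv
    obtain ⟨hv4, hvz⟩ := C.mem_K_iff.1 (C.R_le_K hv)
    have hK : σ⁻¹ * v * σ ∈ C.K := C.mem_K_iff.2
      ⟨by simpa using C.N4_spec.1.conj_mem v hv4 σ⁻¹, by
        have h1 : Commute σ z := hσz
        exact ((h1.inv_left.mul_left hvz).mul_left h1).eq⟩
    refine (C.mem_R_iff hK).2 ?_
    rw [show σ⁻¹ * v * σ * (σ⁻¹ * v * σ) * (σ⁻¹ * v * σ * (σ⁻¹ * v * σ)) =
      σ⁻¹ * (v * v * (v * v)) * σ by group, (C.mem_R_iff (C.R_le_K hv)).1 hv]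
    group
  have hu'R : u' ∈ C.R := C.A2_le_R (hσA _ hu'.1)
  have hwu : ∀ y, (y = 1 ∨ C.InW y) → y * C.u = C.u * y := fun y hy => hy.elim
    (fun h => by rw [h, one_mul, mul_one]) fun h => C.A1_comm (C.W_mem_A1 h).1 hu'.1
  obtain ⟨w, hw, hwe⟩ : ∃ w, (w = 1 ∨ C.InW w) ∧ n0⁻¹ * u' * n0 = w * u' := by
    refine ⟨σ * (σ⁻¹ * m * σ * C.u * (σ⁻¹ * m * σ)⁻¹ * C.u⁻¹) * σ⁻¹, ?_, ?_⟩
    · rcases C.R_comm_A1 (hσ4 m hmR) hu'.1 with h | h
      · left; rw [h]; group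
      · exact Or.inr (hσW _ h)
    · rw [hmove, hdu']
      group
  set c0 := u' * C.u * u'⁻¹ * C.u⁻¹ with hc0
  have hc0W : C.InW c0 := by
    refine (C.R_comm_A1 hu'R hu'.1).resolve_left fun h => ?_
    have h1 : u' * C.u = C.u * u' := mul_inv_eq_iff_eq_mul.1 (mul_inv_eq_one.1 h)
    have hc := cj_lt C.M.hk (show 2 < 768 by norm_num) (show 328 < 768 by norm_num)
    rw [hdu', hσ, show C.u = C.M.Φ 328 from rfl,
      ← C.M.map_cj (show 2 < 768 by norm_num) (show 328 < 768 by norm_num),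
      C.M.comm_iff hc (show 328 < 768 by norm_num), chk_u_comm.1] at h1
    exact Bool.noConfusion h1
  have hfix : n0⁻¹ * c0 * n0 = c0 := by
    have h1 : n0⁻¹ * C.u * n0 = C.u := by rw [mul_assoc, ← hn0u, inv_mul_cancel_left]
    have h2 : u' * C.u * u'⁻¹ ∈ C.A1 := C.K_normalises_A1 (C.R_le_K hu'R) hu'.1
    have h3 : w * (u' * C.u * u'⁻¹) * w⁻¹ = u' * C.u * u'⁻¹ := by
      rcases hw with rfl | hW
      · group
      · rw [C.A1_comm (C.W_mem_A1 hW).1 h2, mul_inv_cancel_right]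
    calc n0⁻¹ * c0 * n0 = (n0⁻¹ * u' * n0) * (n0⁻¹ * C.u * n0) * (n0⁻¹ * u' * n0)⁻¹ *
          (n0⁻¹ * C.u * n0)⁻¹ := by rw [hc0]; group
      _ = w * (u' * C.u * u'⁻¹) * w⁻¹ * C.u⁻¹ := by rw [h1, hwe]; group
      _ = c0 := by rw [h3]
  have hcomm : n0 * c0 = c0 * n0 := by
    calc n0 * c0 = n0 * (n0⁻¹ * c0 * n0) := by rw [hfix]
      _ = c0 * n0 := by group
  refine hn0ne ?_
  rw [(C.mem_K_iff.1 (C.mem_K_of_W hn0g.1 hc0W hcomm)).2, mul_inv_cancel_right]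

theorem exists_conj_R {x : G} (h4 : x ∈ C.N4) (h2 : orderOf x = 2) : ∃ g, g * x * g⁻¹ ∈ C.R := by
  haveI : Fact (Nat.Prime 2) := ⟨Nat.prime_two⟩
  have key : (elems sMask).all (fun n => !Nat.testBit kMask n || Nat.testBit rMask n) = true := by
    decide +kernel
  obtain ⟨P, hP⟩ := (IsPGroup.of_card (p := 2) (n := 1)
    (show Nat.card (zpowers x) = 2 ^ 1 by rw [Nat.card_zpowers, h2, pow_one])).exists_le_sylow
  obtain ⟨g, hg⟩ := MulAction.exists_smul_eq G P C.M.sylow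
  have h1 : g * x * g⁻¹ ∈ C.M.S := by
    have hg' : ((g • P : Sylow 2 G) : Subgroup G) = C.M.S :=
      congrArg (fun R : Sylow 2 G => (R : Subgroup G)) hg
    rw [← hg', Sylow.coe_subgroup_smul]
    exact Subgroup.smul_mem_pointwise_smul x (MulAut.conj g) _ (hP (mem_zpowers x))
  obtain ⟨n, hn, hs, hnx⟩ := h1
  refine ⟨g, hnx ▸ (C.M.mem_sub hn).2 ?_⟩
  have h4' : C.M.Φ n ∈ C.N4 := hnx ▸ C.N4_spec.1.conj_mem x h4 g
  simpa [(C.mem_N4_iff hn).1 h4'] using List.all_eq_true.1 key n (mem_elems.2 ⟨hn, hs⟩)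

theorem isConj_z_of_invol {x : G} (h4 : x ∈ C.N4) (h2 : orderOf x = 2) : IsConj z x := by
  obtain ⟨g, hg⟩ := C.exists_conj_R h4 h2
  exact (C.isConj_z_of_K C.isConj_u (C.R_le_K hg) (by rw [orderOf_conj_eq, h2])).trans
    (isConj_iff.2 ⟨g⁻¹, by group⟩)

/-- An odd normal subgroup inside `G3` is trivial. -/
theorem eq_bot_of_odd {X : Subgroup G} (hX : X.Normal) (hle : X ≤ C.G3)
    (hodd : Odd (Nat.card X)) : X = ⊥ := by
  have hf : ∀ w, C.InW w → ∀ x ∈ X, w * x = x * w → x = 1 := fun w hw x hx hc => by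
    have hK := C.mem_K_of_W (C.G3_le (hle hx)) hw hc.symm
    have hR := C.mem_R_of_G3 (hle hx) (C.mem_K_iff.1 hK).2
    have h1 : orderOf x ∣ Nat.card X := by
      rw [← orderOf_mk x hx]; exact orderOf_dvd_natCard _
    have h2 := orderOf_dvd_of_pow_eq_one (C.R_pow_four hR)
    exact orderOf_eq_one_iff.1
      (Nat.eq_one_of_dvd_coprimes ((Nat.coprime_two_left.2 hodd).pow_left 2) h2 h1)
  exact eq_bot_of_four hodd C.z_sq (C.A1_sq (C.W_mem_A1 (Or.inr (Or.inl rfl))).1)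
    C.M.a_facts.2.2.2.2.symm (fun x hx => ⟨hX.conj_mem x hx _, hX.conj_mem x hx _⟩)
    (hf z C.inW_z) (hf _ (Or.inr (Or.inl rfl)))
    (hf _ (by rw [C.M.a_facts.2.2.2.2.symm]; exact Or.inr (Or.inr rfl)))

theorem exists_M : ∃ M : Subgroup G, M.Normal ∧ M ≤ C.G3 ∧ C.R ≤ M ∧
    ∀ L : Subgroup G, L.Normal → L ≤ M → L = ⊥ ∨ L = M := by
  obtain ⟨M, ⟨hMn, hM0, hM3⟩, hmin⟩ := Set.Finite.exists_minimal
    (s := {L : Subgroup G | L.Normal ∧ L ≠ ⊥ ∧ L ≤ C.G3}) (Set.toFinite _)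
    ⟨C.G3, inferInstance, fun h => by
      have hz : z ∈ C.G3 := C.R_le_G3 (C.W_mem_A1 C.inW_z).2.2
      rw [h, mem_bot] at hz
      have := C.M.orderOf_z
      rw [hz, orderOf_one] at this
      norm_num at this, le_rfl⟩
  haveI : Fact (Nat.Prime 2) := ⟨Nat.prime_two⟩
  have heven : 2 ∣ Nat.card M := by
    by_contra h
    exact hM0 (C.eq_bot_of_odd hMn hM3 (Nat.odd_iff.2 (Nat.two_dvd_ne_zero.1 h)))
  obtain ⟨t, ht⟩ := exists_prime_orderOf_dvd_card' 2 heven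
  rw [← orderOf_coe] at ht
  have hinv : ∀ x ∈ C.R, x * x = 1 → x ∈ M := by
    intro x hx hxx
    by_cases h1 : x = 1
    · exact h1 ▸ one_mem _
    obtain ⟨g, hg⟩ := isConj_iff.1 ((C.isConj_z_of_invol (C.G3_le (hM3 t.2)) ht).symm.trans
      (C.isConj_z_of_K C.isConj_u (C.R_le_K hx) (orderOf_eq_prime (by rw [pow_two, hxx]) h1)))
    exact hg ▸ hMn.conj_mem _ t.2 g
  refine ⟨M, hMn, hM3, ?_, fun L hL hLM => ?_⟩
  · rintro _ ⟨n, hn, hs, rfl⟩
    have h := List.all_eq_true.1 chk_R.1 n (mem_elems.2 ⟨hn, hs⟩)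
    simp only [Bool.and_eq_true, List.any_eq_true, Bool.or_eq_true, Nat.beq_eq] at h
    obtain ⟨-, x, hx, hx1, hx2⟩ := h
    obtain ⟨hxl, hxs⟩ := mem_elems.1 hx
    have hsq : ∀ y, y < 768 → (isInv 0 y = true ∨ y = 0) → C.M.Φ y * C.M.Φ y = 1 := by
      rintro y hy (h | h)
      · rw [isInv, Bool.and_eq_true, Nat.beq_eq] at h
        rw [← C.M.mul_eq y y hy hy, C.M.eq_one_iff (mul_lt C.M.hk hy hy)]
        first | exact h.1 | exact h.2
      · rw [h, C.M.one, mul_one]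
    have hl := mul_lt C.M.hk (inv_lt C.M.hk hxl) hn
    have hxR : C.M.Φ x ∈ C.R := (C.M.mem_sub hxl).2 hxs
    have e : C.M.Φ (mul 0 (inv 0 x) n) = (C.M.Φ x)⁻¹ * C.M.Φ n := by
      rw [C.M.mul_eq _ _ (inv_lt C.M.hk hxl) hn, C.M.map_inv hxl]
    rw [show C.M.Φ n = C.M.Φ x * C.M.Φ (mul 0 (inv 0 x) n) by rw [e, mul_inv_cancel_left]]
    refine mul_mem (hinv _ hxR (hsq x hxl hx1)) (hinv _ ?_ (hsq _ hl hx2))
    rw [e]
    exact mul_mem (inv_mem hxR) ((C.M.mem_sub hn).2 hs)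
  · by_cases h0 : L = ⊥
    · exact Or.inl h0
    · exact Or.inr (le_antisymm hLM (hmin ⟨hL, h0, hLM.trans hM3⟩ hLM))

include C in
/-- The group is the automorphism group of the projective linear group. -/
theorem identify {F : Type*} [Field F] [Fintype F] (hF : Fintype.card F = 4) :
    Nonempty (G ≃* MulAut (GL (Fin 3) F ⧸ Subgroup.center (GL (Fin 3) F))) := by
  classical
  haveI : Fact (Nat.Prime 2) := ⟨Nat.prime_two⟩
  obtain ⟨M, hMn, hM3, hRM, hmin⟩ := C.exists_M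
  have hzR : z ∈ C.R := (C.W_mem_A1 C.inW_z).2.2
  have huR : C.u ∈ C.R := C.A1_le_R C.u_mem.1
  set u' := C.M.Φ (cj 0 2 328) with hdu'
  have hc := cj_lt C.M.hk (show 2 < 768 by norm_num) (show 328 < 768 by norm_num)
  have hu'R : u' ∈ C.R := (C.M.mem_sub hc).2 chk_u_comm.2
  have hu'sq : u' * u' = 1 := by
    rw [hdu', C.M.map_cj (show 2 < 768 by norm_num) (show 328 < 768 by norm_num),
      show C.M.Φ 328 = C.u from rfl, conj_sq (C.A1_sq C.u_mem.1)]
    group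
  have hnc0 : C.u * u' ≠ u' * C.u := fun h => by
    rw [hdu', show C.u = C.M.Φ 328 from rfl, eq_comm,
      C.M.comm_iff hc (show 328 < 768 by norm_num), chk_u_comm.1] at h
    exact Bool.noConfusion h
  have hcit : ∀ t : M, orderOf t = 2 → IsPGroup 2 (centralizer ({t} : Set M)) := by
    intro t ht
    rw [← orderOf_coe] at ht
    obtain ⟨g, hg⟩ := isConj_iff.1 (C.isConj_z_of_invol (C.G3_le (hM3 t.2)) ht)
    rintro ⟨x, hx⟩
    refine ⟨2, Subtype.ext (Subtype.ext ?_)⟩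
    have hxt : (x : G) * t = t * x := congrArg Subtype.val (mem_centralizer_singleton_iff.1 hx)
    have hR : g⁻¹ * (x : G) * g ∈ C.R := C.mem_R_of_G3
      (by simpa using (inferInstance : C.G3.Normal).conj_mem _ (hM3 x.2) g⁻¹) (by
        calc g⁻¹ * (x : G) * g * z = g⁻¹ * ((x : G) * (g * z * g⁻¹)) * g := by group
          _ = g⁻¹ * ((g * z * g⁻¹) * x) * g := by rw [hg, hxt]
          _ = z * (g⁻¹ * x * g) := by group)
    have h4 := C.R_pow_four hR
    show (x : G) ^ (2 ^ 2) = 1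
    calc (x : G) ^ (2 ^ 2) = g * (g⁻¹ * (x : G) * g) ^ 4 * g⁻¹ := by
          simp only [show (2 : ℕ) ^ 2 = 4 from rfl, pow_succ, pow_zero, one_mul]; group
      _ = 1 := by rw [h4]; group
  have hnc : ¬ IsMulCommutative M := fun h => hnc0
    (congrArg Subtype.val (h.is_comm.comm (⟨C.u, hRM huR⟩ : M) ⟨u', hRM hu'R⟩))
  have hM0 : M ≠ ⊥ := fun h => by
    have hz := hRM hzR
    rw [h, mem_bot] at hz
    have := C.M.orderOf_z
    rw [hz, orderOf_one] at this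
    norm_num at this
  obtain ⟨T, _, _, m, hm, hT, hTnc, ⟨e⟩⟩ := CfsgLib.CharSimple.exists_equiv_pi hMn hM0 hmin hnc
  -- there is only one factor
  have hm1 : m = 1 := by
    by_contra hm1
    have h2 : 2 ∣ Nat.card T := by
      refine Nat.prime_two.dvd_of_dvd_pow (n := m) ?_
      have hc : Nat.card M = Nat.card T ^ m := by
        rw [Nat.card_congr e.toEquiv, Nat.card_pi, Finset.prod_const, Finset.card_fin]
      rw [← hc, ← C.M.orderOf_z, ← orderOf_mk z (hRM hzR)]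
      exact orderOf_dvd_natCard _
    obtain ⟨a, ha⟩ := exists_prime_orderOf_dvd_card' 2 h2
    obtain ⟨s, hs⟩ : ∃ s : T, ∀ k : ℕ, s ^ 2 ^ k ≠ 1 := by
      by_contra hno
      simp only [not_exists, not_forall, not_not] at hno
      haveI := hT
      haveI : Nontrivial T := hT.toNontrivial
      have hctr := IsPGroup.center_nontrivial (p := 2) (fun g => hno g : IsPGroup 2 T)
      refine hTnc ⟨⟨fun x y => ?_⟩⟩
      rcases (inferInstance : (center T).Normal).eq_bot_or_eq_top with h | h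
      · exact absurd h ((nontrivial_iff_ne_bot _).1 hctr)
      · exact (mem_center_iff.1 (h ▸ mem_top x : x ∈ center T) y).symm
    let i0 : Fin m := ⟨0, by omega⟩
    let i1 : Fin m := ⟨1, by omega⟩
    set A : Fin m → T := Pi.mulSingle i0 a with hA
    set B : Fin m → T := Pi.mulSingle i1 s with hB
    have hne : i1 ≠ i0 := fun h => absurd (congrArg Fin.val h) Nat.one_ne_zero
    have hAB : Commute A B := funext fun j => by
      show A j * B j = B j * A j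
      by_cases hj : j = i0
      · subst hj
        rw [hB, Pi.mulSingle_eq_of_ne hne.symm, one_mul, mul_one]
      · rw [hA, Pi.mulSingle_eq_of_ne hj, one_mul, mul_one]
    have hA2 : orderOf (e.symm A) = 2 := by
      rw [MulEquiv.orderOf_eq, hA]
      exact (orderOf_injective (MonoidHom.mulSingle (fun _ : Fin m => T) i0)
        (fun v w h => by simpa using congrFun h i0) a).trans ha
    obtain ⟨k, hk⟩ := hcit _ hA2 ⟨e.symm B, mem_centralizer_singleton_iff.2 (by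
      rw [← map_mul, ← map_mul, hAB.eq])⟩
    refine hs k ?_
    have h1 : e.symm B ^ 2 ^ k = 1 := congrArg Subtype.val hk
    rw [← map_pow, EmbeddingLike.map_eq_one_iff] at h1
    simpa [hB] using congrFun h1 i1
  subst hm1
  haveI := hT
  have eT : M ≃* T := e.trans (MulEquiv.piUnique (fun _ : Fin 1 => T))
  haveI : IsSimpleGroup M := MulEquiv.isSimpleGroup eT
  -- the centraliser of `z` in `M`
  have h64 : Nat.card (centralizer ({⟨z, hRM hzR⟩} : Set M)) = 64 := by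
    have himg : (centralizer ({⟨z, hRM hzR⟩} : Set M)).map M.subtype = C.R := by
      ext x
      constructor
      · rintro ⟨y, hy, rfl⟩
        exact C.mem_R_of_G3 (hM3 y.2) (congrArg Subtype.val (mem_centralizer_singleton_iff.1 hy))
      · intro hx
        exact ⟨⟨x, hRM hx⟩, mem_centralizer_singleton_iff.2 (Subtype.ext
          (C.mem_K_iff.1 (C.R_le_K hx)).2), rfl⟩
    rw [← card_map_of_injective M.subtype_injective, himg, C.card_R]
  obtain ⟨f⟩ := exists_psl_of_cit hcit ⟨z, hRM hzR⟩ (by rw [orderOf_mk]; exact C.M.orderOf_z) h64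
    ⟨⟨C.u, hRM huR⟩, ⟨u', hRM hu'R⟩, Subtype.ext (C.A1_sq C.u_mem.1), Subtype.ext hu'sq,
      Subtype.ext (C.mem_K_iff.1 (C.R_le_K huR)).2, Subtype.ext (C.mem_K_iff.1 (C.R_le_K hu'R)).2,
      fun h => hnc0 (congrArg Subtype.val h)⟩ hF
  haveI := hMn
  refine nonempty_mulAut_pgl M hF f ((eq_bot_iff_forall _).2 fun x hx => ?_) ?_
  · have hx' : ∀ y ∈ M, y * x = x * y := mem_centralizer_iff.1 hx
    obtain ⟨n, hn, rfl⟩ := C.M.mem_range x (hx' z (hRM hzR)).symm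
    have hcen : isCen 0 rMask n = true := C.M.isCen_of hn (h := groups.2.1) fun y hy =>
      (hx' y (hRM hy)).symm
    have h := chk_all chk_cent_R hn
    simp only [hcen, Bool.not_true, Bool.false_or] at h
    by_contra h0
    have hW := (C.inW_iff hn).2 ⟨h, fun h1 => h0 (h1 ▸ C.M.one)⟩
    have hxM : C.M.Φ n ∈ M := hRM (C.W_mem_A1 hW).2.2
    have hz : (⟨_, hxM⟩ : M) ∈ center M :=
      mem_center_iff.2 fun y => Subtype.ext (hx' y y.2)
    rcases (inferInstance : (center M).Normal).eq_bot_or_eq_top with h1 | h1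
    · rw [h1, mem_bot] at hz
      exact h0 (congrArg Subtype.val hz)
    · exact hnc ⟨⟨fun v w => (mem_center_iff.1 (h1 ▸ mem_top v : v ∈ center M) w).symm⟩⟩
  · have h3 : Nat.card (Matrix.SpecialLinearGroup (Fin 3) F) = 60480 := by
      have h := CfsgLib.Linear.card_SL_mul (n := Fin 3) (F := F)
      rw [Matrix.card_GL_field, hF] at h
      simp [Fin.prod_univ_three] at h
      rw [Nat.card_eq_fintype_card]
      omega
    have hp := CfsgLib.Linear.card_PSL_mul (n := Fin 3) (F := F)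
    rw [h3, Fintype.card_fin, hF, show Nat.gcd 3 (4 - 1) = 3 by decide,
      ← Nat.card_congr f.toEquiv] at hp
    set H := centralizer ({z} : Set G) with hH
    have hrel : Nat.card (H.subgroupOf M) = 64 := by
      have e1 : H.subgroupOf M = centralizer ({⟨z, hRM hzR⟩} : Set M) := by
        ext y
        simp only [hH, mem_subgroupOf, mem_centralizer_singleton_iff, Subtype.ext_iff]
        rfl
      rw [e1, h64]
    have hM := (H.subgroupOf M).card_mul_index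
    have hG := H.card_mul_index
    rw [hrel] at hM
    rw [C.M.card_centralizer] at hG
    have hle : H.relIndex M ≤ H.index := by
      rw [← relIndex_top_right]
      exact relIndex_le_of_le_right le_top (by rw [relIndex_top_right]; exact index_ne_zero_of_finite)
    rw [relIndex] at hle
    omega

end Ctx

end CfsgLib.AutLThreeFour70
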