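import Cfsg.Agent.AutLThreeFour70.Local
import Cfsg.Agent.Small.Dihedral

/-!
# Fixed points and involution pairs
-/

set_option autoImplicit false
set_option maxRecDepth 20000

namespace CfsgLib.AutLThreeFour70

open Subgroup

variable {G : Type*} [Group G] [Finite G]

/-- A three-element fixes a member of a finite invariant set of size prime to three. -/
theorem exists_fixed {n : G} {e : ℕ} (hn : n ^ 3 ^ e = 1) (s : Set G)
    (hs : ∀ x ∈ s, n * x * n⁻¹ ∈ s) (h3 : ¬ 3 ∣ Nat.card s) : ∃ x ∈ s, n * x * n⁻¹ = x := by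
  have : Fact (Nat.Prime 3) := ⟨Nat.prime_three⟩
  let c : Equiv.Perm s := Equiv.ofBijective (fun x => ⟨n * x * n⁻¹, hs x x.2⟩)
    (Finite.injective_iff_bijective.1 fun x y h => Subtype.ext
      (mul_left_cancel (mul_right_cancel (congrArg Subtype.val h))))
  have hc : ∀ (m : ℕ) (x : s), (((c ^ m) x : s) : G) = n ^ m * x * (n ^ m)⁻¹ := by
    intro m
    induction m with
    | zero => intro x; simp
    | succ m ih =>
      intro x
      rw [pow_succ', Equiv.Perm.mul_apply]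
      show n * (((c ^ m) x : s) : G) * n⁻¹ = _
      rw [ih, pow_succ']
      group
  have hcp : c ^ 3 ^ e = 1 := Equiv.ext fun x => Subtype.ext (by rw [hc, hn]; simp)
  have hP : IsPGroup 3 (zpowers c) := fun g => ⟨e, Subtype.ext (by
    obtain ⟨i, hi⟩ := g.2
    show ((g : Equiv.Perm s)) ^ 3 ^ e = 1
    rw [← show c ^ i = (g : Equiv.Perm s) from hi, ← zpow_natCast, ← zpow_mul, mul_comm, zpow_mul,
      zpow_natCast, hcp, one_zpow])⟩
  obtain ⟨x, hx⟩ := hP.nonempty_fixed_point_of_prime_not_dvd_card s h3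
  exact ⟨x, x.2, congrArg Subtype.val (hx ⟨c, mem_zpowers c⟩)⟩

/-- Two involutions are conjugate or their product has a power centralising both. -/
theorem isConj_or_pow {x y : G} (hx : orderOf x = 2) (hy : orderOf y = 2) :
    IsConj x y ∨ ∃ m : ℕ, orderOf ((x * y) ^ m) = 2 ∧ Commute ((x * y) ^ m) x ∧
      Commute ((x * y) ^ m) y := by
  rcases Nat.even_or_odd (orderOf (x * y)) with hev | ⟨r, hr⟩
  · exact Or.inr ⟨_, CfsgLib.Small.half_pow_spec hx hy hev⟩
  · obtain ⟨d, -, hd⟩ := CfsgLib.Small.conj_closure_pair_exists hx hy ((r : ℤ) + 1)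
    refine Or.inl (isConj_iff.2 ⟨d, hd.trans ?_⟩)
    rw [show 2 * ((r : ℤ) + 1) = ((orderOf (x * y) : ℕ) : ℤ) + 1 by rw [hr]; push_cast; ring,
      zpow_add, zpow_natCast, pow_orderOf_eq_one, one_mul, zpow_one, ← mul_assoc,
      CfsgLib.Small.mul_self_of_orderOf_two hx, one_mul]

namespace Ctx

variable {z : G} (C : Ctx z)

omit [Finite G] in
theorem card_three : ¬ 3 ∣ Nat.card {x : G | x ∈ C.K ∧ orderOf x = 3} := by
  have key : (sel fun n => Nat.testBit kMask n && isThree n).length = 32 := by decide +kernel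
  have : Fact (Nat.Prime 3) := ⟨Nat.prime_three⟩
  have h : Nat.card {x : G | x ∈ C.K ∧ orderOf x = 3} = 32 := by
    refine (C.M.card_eq _ _ (fun x hx => Model.mem_cent.1 (C.M.sub_le hx.1))
      fun n hn => ?_).trans key
    show C.M.Φ n ∈ C.K ∧ orderOf (C.M.Φ n) = 3 ↔ _
    rw [Bool.and_eq_true, K, C.M.mem_sub hn]
    refine and_congr_right fun _ => ⟨C.isThree_of_orderOf hn, fun h3 => ?_⟩
    simp only [isThree, Bool.and_eq_true, Bool.not_eq_true', ← Bool.not_eq_true, Nat.beq_eq] at h3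
    refine orderOf_eq_prime ?_ fun h1 => h3.1 ((C.M.eq_one_iff hn).1 h1)
    rw [pow_succ', pow_two, ← C.M.mul_eq _ _ hn hn, ← C.M.mul_eq _ _ hn (mul_lt C.M.hk hn hn),
      h3.2, C.M.one]
  rw [h]
  norm_num

/-- A three-element permuting `z, a, az` centralises an element of order three of `K`. -/
theorem exists_e {n : G} {m : ℕ} (hn3 : n ^ 3 ^ m = 1) (hn : n ∈ C.N4)
    (hW : C.InW (n * z * n⁻¹)) : ∃ e ∈ C.K, orderOf e = 3 ∧ n * e = e * n := by
  suffices hst : ∀ x ∈ {x | x ∈ C.K ∧ orderOf x = 3}, n * x * n⁻¹ ∈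
      {x | x ∈ C.K ∧ orderOf x = 3} by
    obtain ⟨e, ⟨heK, he3⟩, hne⟩ := exists_fixed hn3 _ hst C.card_three
    exact ⟨e, heK, he3, mul_inv_eq_iff_eq_mul.1 hne⟩
  · intro x hx
    obtain ⟨h4, hxz⟩ := C.mem_K_iff.1 hx.1
    refine ⟨C.mem_K_of_W (C.N4_spec.1.conj_mem x h4 n) hW ?_, ?_⟩
    · calc n * x * n⁻¹ * (n * z * n⁻¹) = n * (x * z) * n⁻¹ := by group
        _ = n * (z * x) * n⁻¹ := by rw [hxz]
        _ = n * z * n⁻¹ * (n * x * n⁻¹) := by group
    · rw [CfsgLib.Small.orderOf_conj_eq]; exact hx.2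

/-- Some involution of the class of `z` outside `{z, a, az}` centralises `d`. -/
def Big : Prop := ∃ x ∈ C.N4, x * C.d = C.d * x ∧ IsConj z x ∧ ¬ C.InW x

/-- Transporting a configuration into the centraliser of `d`. -/
theorem big_of {g y : G} {e : G} (he : g * C.d * g⁻¹ = e ∨ g * C.d⁻¹ * g⁻¹ = e) (hg : g ∈ C.N4)
    (hy : y ∈ C.N4) (hye : y * e = e * y) (hyz : IsConj z y)
    (hW : ¬ C.InW (g⁻¹ * y * g)) : C.Big := by
  have hc : g⁻¹ * y * g * (g⁻¹ * e * g) = g⁻¹ * e * g * (g⁻¹ * y * g) := by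
    calc g⁻¹ * y * g * (g⁻¹ * e * g) = g⁻¹ * (y * e) * g := by group
      _ = g⁻¹ * (e * y) * g := by rw [hye]
      _ = g⁻¹ * e * g * (g⁻¹ * y * g) := by group
  refine ⟨g⁻¹ * y * g, mul_mem (mul_mem (inv_mem hg) hy) hg, ?_,
    hyz.trans (isConj_iff.2 ⟨g⁻¹, by group⟩), hW⟩
  rcases he with he | he
  · rwa [← he, show g⁻¹ * (g * C.d * g⁻¹) * g = C.d by group] at hc
  · rw [← he, show g⁻¹ * (g * C.d⁻¹ * g⁻¹) * g = C.d⁻¹ by group] at hc
    exact (Commute.inv_right_iff.1 hc).eq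

end Ctx

end CfsgLib.AutLThreeFour70
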