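import Cfsg.Agent.AutLThreeFour70.Fixed
import Cfsg.Agent.AutLThreeFour70.Alt
import Cfsg.Agent.Characters.Burnside

/-!
# When `u` is not conjugate to `z`
-/

set_option autoImplicit false
set_option maxRecDepth 20000

namespace CfsgLib.AutLThreeFour70

open Subgroup
open CfsgLib.Small (orderOf_conj_eq)

namespace Ctx

variable {G : Type*} [Group G] [Finite G] {z : G} (C : Ctx z)

omit [Finite G] in
theorem inW_injective : Function.Injective ![z, C.M.a, C.M.a * z] := by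
  have e : ∀ i : Fin 3, ![z, C.M.a, C.M.a * z] i = C.M.Φ (![16, 1, 17] i) := fun i => by
    fin_cases i
    · exact C.M.z_eq.symm
    · rfl
    · exact C.M.a_facts.1.symm
  intro i j h
  rw [e, e] at h
  have hl : ∀ i : Fin 3, ![16, 1, 17] i < 768 := by decide
  exact (by decide : ∀ i j : Fin 3, ![16, 1, 17] i = ![16, 1, 17] j → i = j) i j
    (C.M.inj _ _ (hl i) (hl j) h)

theorem inW_cases {x : G} : C.InW x ↔ ∃ i, ![z, C.M.a, C.M.a * z] i = x := by
  simp [InW, Fin.exists_fin_succ, eq_comm]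

theorem inW_mul {v w : G} (hv : C.InW v) (hw : C.InW w) (hne : v ≠ w) : C.InW (v * w) := by
  have hzz := C.z_sq
  have haa : C.M.a * C.M.a = 1 := by
    have := pow_orderOf_eq_one C.M.a
    rwa [C.M.a_facts.2.1, pow_two] at this
  have hza : z * C.M.a = C.M.a * z := C.M.a_facts.2.2.2.2.symm
  rcases hv with rfl | rfl | rfl <;> rcases hw with rfl | rfl | rfl
  · exact absurd rfl hne
  · exact Or.inr (Or.inr hza)
  · right; left; rw [← mul_assoc, hza, mul_assoc, hzz, mul_one]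
  · exact Or.inr (Or.inr rfl)
  · exact absurd rfl hne
  · left; rw [← mul_assoc, haa, one_mul]
  · right; left; rw [mul_assoc, hzz, mul_one]
  · left; rw [mul_assoc, hza, ← mul_assoc, haa, one_mul]
  · exact absurd rfl hne

/-- The centraliser of `u` in `N4`. -/
noncomputable def Y : Subgroup G := C.N4 ⊓ centralizer ({C.u} : Set G)

theorem mem_Y {x : G} : x ∈ C.Y ↔ x ∈ C.N4 ∧ x * C.u = C.u * x := by
  rw [Y, mem_inf, mem_centralizer_singleton_iff]

theorem A1_le_Y : C.A1 ≤ C.Y := fun _ hx =>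
  C.mem_Y.2 ⟨C.K_le (C.A1_le_K hx), C.A1_comm hx C.u_mem.1⟩

variable (hu : ¬ IsConj z C.u)
include hu

theorem inW_of_A1 {x : G} (hx : x ∈ C.A1) (hz : IsConj z x) : C.InW x := by
  by_contra hW
  have h1 : x ≠ 1 := by
    rintro rfl
    obtain ⟨g, hg⟩ := isConj_iff.1 hz
    have := C.M.orderOf_z
    rw [← orderOf_conj_eq g z, hg, orderOf_one] at this
    norm_num at this
  exact hu (hz.trans (C.A1_spec hx h1 hW).2.1.symm)

theorem inW_of_K {x : G} (hx : x ∈ C.K) (hz : IsConj z x) : C.InW x := by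
  obtain ⟨g, hg⟩ := isConj_iff.1 hz
  rcases C.inW_or_conj_u hx (by rw [← hg, orderOf_conj_eq, C.M.orderOf_z]) with h | h
  · exact h
  · exact absurd (hz.trans h.symm) hu

omit hu in
theorem mem_A1_of_comm {x w : G} (hx : x ∈ C.Y) (hw : C.InW w) (hc : x * w = w * x) :
    x ∈ C.A1 := by
  obtain ⟨h4, hxu⟩ := C.mem_Y.1 hx
  exact (C.A1_spec C.u_mem.1 C.u_mem.2.1 C.u_mem.2.2).2.2.2.1 x (C.mem_K_of_W h4 hw hc) hxu

theorem eq_A1_of_le {P : Subgroup G} (hP : IsPGroup 2 P) (hA : C.A1 ≤ P) (hY : P ≤ C.Y) :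
    P = C.A1 := by
  refine eq_of_three hP hA ![z, C.M.a, C.M.a * z] C.inW_injective (fun x _ hx i => ?_)
    fun i x hxP _ hc => C.mem_A1_of_comm (hY hxP) (C.inW_cases.2 ⟨i, rfl⟩) hc
  have hWi : C.InW (![z, C.M.a, C.M.a * z] i) := C.inW_cases.2 ⟨i, rfl⟩
  obtain ⟨j, hj⟩ := C.inW_cases.1 (C.inW_of_A1 hu ((mem_normalizer_iff.1 hx _).1 (C.W_mem_A1 hWi).1)
    ((C.inW_isConj hWi).trans (isConj_iff.2 ⟨x, rfl⟩)))
  exact ⟨j, hj.symm⟩

/-- A two-subgroup of `Y` is conjugate into `A₁` inside `Y`. -/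
theorem exists_conj_A1 {P : Subgroup G} (hP : IsPGroup 2 P) (hY : P ≤ C.Y) :
    ∃ c ∈ C.Y, ∀ x ∈ P, c * x * c⁻¹ ∈ C.A1 := by
  have : Fact (Nat.Prime 2) := ⟨Nat.prime_two⟩
  obtain ⟨P', hP'⟩ := (hP.comap_subtype (K := C.Y)).exists_le_sylow
  obtain ⟨Q, hQ⟩ := (C.isPGroup_A1.comap_subtype (K := C.Y)).exists_le_sylow
  have hQA : (Q : Subgroup C.Y).map C.Y.subtype = C.A1 := C.eq_A1_of_le hu (Q.isPGroup'.map _)
    (fun x hx => ⟨⟨x, C.A1_le_Y hx⟩,
      hQ (show (⟨x, C.A1_le_Y hx⟩ : C.Y) ∈ C.A1.comap C.Y.subtype from hx), rfl⟩)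
    (map_subtype_le _)
  obtain ⟨c, hc⟩ := MulAction.exists_smul_eq C.Y P' Q
  refine ⟨c, c.2, fun x hx => ?_⟩
  rw [← hQA]
  refine ⟨c * ⟨x, hY hx⟩ * c⁻¹, ?_, by simp⟩
  rw [← hc]
  exact Subgroup.smul_mem_pointwise_smul _ (MulAut.conj c) _ (hP' hx)

/-- An involution of `Y` is conjugate into `A₁` inside `Y`. -/
theorem exists_conj_A1_of_invol {x : G} (hx : x ∈ C.Y) {e : ℕ} (h2 : x ^ 2 ^ e = 1) :
    ∃ c ∈ C.Y, c * x * c⁻¹ ∈ C.A1 := by
  have hd : orderOf x ∣ 2 ^ e := orderOf_dvd_of_pow_eq_one h2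
  obtain ⟨f, -, hf⟩ := (Nat.dvd_prime_pow Nat.prime_two).1 hd
  obtain ⟨c, hc, hcx⟩ := C.exists_conj_A1 hu (P := zpowers x)
    (IsPGroup.of_card (n := f) (by rw [Nat.card_zpowers, hf])) (zpowers_le.2 hx)
  exact ⟨c, hc, hcx x (mem_zpowers x)⟩

theorem exists_out : ∃ g ∈ C.Y, ∃ w, C.InW w ∧ g * w * g⁻¹ ∉ C.A1 := by
  by_contra hno
  simp only [not_exists, not_and, not_not] at hno
  have hcl : ∀ x ∈ C.Y, IsConj z x → C.InW x := by
    intro x hx hzx
    obtain ⟨g, hg⟩ := isConj_iff.1 hzx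
    have h2 : x ^ 2 ^ 1 = 1 := by
      have := pow_orderOf_eq_one x
      rwa [← hg, orderOf_conj_eq, C.M.orderOf_z, hg] at this
    obtain ⟨c, hc, hcx⟩ := C.exists_conj_A1_of_invol hu hx h2
    have hw := C.inW_of_A1 hu hcx (hzx.trans (isConj_iff.2 ⟨c, rfl⟩))
    have h1 := hno c⁻¹ (inv_mem hc) _ hw
    rw [show c⁻¹ * (c * x * c⁻¹) * c⁻¹⁻¹ = x by group] at h1
    exact C.inW_of_A1 hu h1 hzx
  have huN : C.u ∈ C.N4 := C.K_le (C.A1_le_K C.u_mem.1)
  have hzN : z ∈ C.N4 := C.K_le (C.A1_le_K (C.W_mem_A1 C.inW_z).1)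
  have hcomm : ∀ y ∈ C.N4, IsConj C.u y → y * z = z * y := by
    intro y hy hyu
    obtain ⟨g0, hg0⟩ := isConj_iff.1 hyu
    have hy2 : orderOf y = 2 := by
      rw [← hg0, orderOf_conj_eq, C.orderOf_of_A1 C.u_mem.1 C.u_mem.2.1]
    rcases isConj_or_pow C.M.orderOf_z hy2 with h | ⟨m, hm2, hmz, hmy⟩
    · exact absurd (h.trans hyu.symm) hu
    set w := (z * y) ^ m with hw
    have hw4 : w ∈ C.N4 := pow_mem (mul_mem hzN hy) m
    rcases C.inW_or_conj_u (C.mem_K_iff.2 ⟨hw4, hmz.eq⟩) hm2 with hW | hU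
    · exact (C.mem_K_iff.1 (C.mem_K_of_W hy hW hmy.eq.symm)).2
    obtain ⟨g, hg⟩ := isConj_iff.1 hU.symm
    have hmem : ∀ v ∈ C.N4, v * w = w * v → g * v * g⁻¹ ∈ C.Y := fun v hv hvw => by
      refine C.mem_Y.2 ⟨C.N4_spec.1.conj_mem v hv g, ?_⟩
      rw [← hg]
      calc g * v * g⁻¹ * (g * w * g⁻¹) = g * (v * w) * g⁻¹ := by group
        _ = g * (w * v) * g⁻¹ := by rw [hvw]
        _ = g * w * g⁻¹ * (g * v * g⁻¹) := by group
    have hz' : C.InW (g * z * g⁻¹) := hcl _ (hmem z hzN hmz.eq.symm) (isConj_iff.2 ⟨g, rfl⟩)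
    set y' := g * y * g⁻¹ with hy'
    have hy'Y : y' ∈ C.Y := hmem y hy hmy.eq.symm
    have hyy : y' * y' = 1 := by
      rw [hy', conj_sq (CfsgLib.Small.mul_self_of_orderOf_two hy2)]; group
    have hperm : ∀ v, C.InW v → C.InW (y' * v * y'⁻¹) := fun v hv =>
      hcl _ (mul_mem (mul_mem hy'Y (C.A1_le_Y (C.W_mem_A1 hv).1)) (inv_mem hy'Y))
        ((C.inW_isConj hv).trans (isConj_iff.2 ⟨y', rfl⟩))
    have hy'A : y' ∈ C.A1 := by
      by_cases hfix : y' * z * y'⁻¹ = z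
      · exact C.mem_A1_of_comm hy'Y C.inW_z (mul_inv_eq_iff_eq_mul.1 hfix)
      · have hW1 := hperm z C.inW_z
        refine C.mem_A1_of_comm hy'Y (C.inW_mul C.inW_z hW1 (Ne.symm hfix)) ?_
        have hinv : y'⁻¹ = y' := inv_eq_of_mul_eq_one_right hyy
        have hcz := C.A1_comm (C.W_mem_A1 C.inW_z).1 (C.W_mem_A1 hW1).1
        rw [hcz, hinv]
        calc y' * (y' * z * y' * z) = y' * y' * z * (y' * z) := by group
          _ = z * (y' * z) := by rw [hyy, one_mul]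
          _ = (z * (y' * z * y')) * y' := by
            rw [show z * (y' * z * y') * y' = z * (y' * z) * (y' * y') by group, hyy, mul_one]
          _ = y' * z * y' * z * y' := by rw [hinv] at hcz; rw [hcz]
    have h := C.A1_comm hy'A (C.W_mem_A1 hz').1
    calc y * z = g⁻¹ * (y' * (g * z * g⁻¹)) * g := by rw [hy']; group
      _ = g⁻¹ * ((g * z * g⁻¹) * y') * g := by rw [h]
      _ = z * y := by rw [hy']; group
  have hall : ∀ x, IsConj z x → C.InW x := by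
    intro x hx
    obtain ⟨h, hh, rfl⟩ := C.exists_N4_conj hx
    refine hcl _ (C.mem_Y.2 ⟨C.N4_spec.1.conj_mem z hzN h, ?_⟩) hx
    have h1 := hcomm (h⁻¹ * C.u * h) (mul_mem (mul_mem (inv_mem hh) huN) hh)
      (isConj_iff.2 ⟨h⁻¹, by group⟩)
    calc h * z * h⁻¹ * C.u = h * (z * (h⁻¹ * C.u * h)) * h⁻¹ := by group
      _ = h * (h⁻¹ * C.u * h * z) * h⁻¹ := by rw [h1]
      _ = C.u * (h * z * h⁻¹) := by group
  -- so `z` has at most three conjugates
  refine C.nonsolvable ?_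
  have key : ∀ g : G, ∃ i : Fin 3, ![z, C.M.a, C.M.a * z] i = g * z * g⁻¹ := fun g =>
    C.inW_cases.1 (hall _ (isConj_iff.2 ⟨g, rfl⟩))
  choose f hf using key
  have hinj : Function.Injective fun q : G ⧸ centralizer ({z} : Set G) => f q.out := by
    intro p q hpq
    have h : p.out * z * p.out⁻¹ = q.out * z * q.out⁻¹ := by
      rw [← hf, ← hf]; exact congrArg _ hpq
    rw [← QuotientGroup.out_eq' p, ← QuotientGroup.out_eq' q, QuotientGroup.eq,
      mem_centralizer_singleton_iff]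
    calc p.out⁻¹ * q.out * z = p.out⁻¹ * (q.out * z * q.out⁻¹) * q.out := by group
      _ = p.out⁻¹ * (p.out * z * p.out⁻¹) * q.out := by rw [h]
      _ = z * (p.out⁻¹ * q.out) := by group
  have hle : (centralizer ({z} : Set G)).index ≤ 3 := by
    have := Nat.card_le_card_of_injective _ hinj
    rwa [Nat.card_fin] at this
  have h := (centralizer ({z} : Set G)).card_mul_index
  rw [C.M.card_centralizer] at h
  refine CfsgLib.Characters.isSolvable_of_card_eq_primePow_mul 2 3 9 2 Nat.prime_two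
    Nat.prime_three ?_
  have hne : (centralizer ({z} : Set G)).index ≠ 0 := Subgroup.index_ne_zero_of_finite
  rw [← h]
  interval_cases (centralizer ({z} : Set G)).index <;> first | exact absurd rfl hne | norm_num

/-- An element of order three inverted by an involution in the centraliser of `u`. -/
theorem exists_n : ∃ n x : G, n ∈ C.Y ∧ x ∈ C.Y ∧ orderOf n = 3 ∧
    (∀ v ∈ C.A1, n * v * n⁻¹ ∈ C.A1) ∧ n * z ≠ z * n ∧ IsConj z x ∧ x * n * x⁻¹ = n⁻¹ ∧
    ∀ v ∈ C.Y, v * n = n * v → ∃ i : ℕ, ∃ w ∈ C.A1, w * n = n * w ∧ v = n ^ i * w := by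
  have : Fact (Nat.Prime 2) := ⟨Nat.prime_two⟩
  have hzY : z ∈ C.Y := C.A1_le_Y (C.W_mem_A1 C.inW_z).1
  have haY : C.M.a ∈ C.Y := C.A1_le_Y (C.W_mem_A1 (Or.inr (Or.inl rfl))).1
  have hset : ∀ w : C.Y, w ∈ ({⟨z, hzY⟩, ⟨C.M.a, haY⟩, ⟨C.M.a, haY⟩ * ⟨z, hzY⟩} : Set C.Y) ↔
      C.InW w := fun w => by
    simp [InW, Subtype.ext_iff]
  obtain ⟨g0, hg0, w0, hw0, hout⟩ := C.exists_out hu
  obtain ⟨n, g, hnN, hn3, hnz, hinv, hcent⟩ := exists_inverted (z := (⟨z, hzY⟩ : C.Y))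
    (a := ⟨C.M.a, haY⟩) (C.A1.subgroupOf C.Y) (by rw [orderOf_mk]; exact C.M.orderOf_z)
    (by rw [orderOf_mk]; exact C.M.a_facts.2.1)
    (fun h => absurd (C.inW_injective (show ![z, C.M.a, C.M.a * z] 1 = ![z, C.M.a, C.M.a * z] 0 from
      congrArg Subtype.val h)) (by decide))
    (mem_subgroupOf.2 (C.W_mem_A1 C.inW_z).1) (mem_subgroupOf.2 (C.W_mem_A1 (Or.inr (Or.inl rfl))).1)
    (by rw [Nat.card_congr (subgroupOfEquivOfLe C.A1_le_Y).toEquiv, C.card_A1])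
    (fun v hv => Subtype.ext (C.A1_sq (mem_subgroupOf.1 hv)))
    (by
      obtain ⟨Q, hQ⟩ := (C.isPGroup_A1.comap_subtype (K := C.Y)).exists_le_sylow
      have hQA : (Q : Subgroup C.Y).map C.Y.subtype = C.A1 := C.eq_A1_of_le hu (Q.isPGroup'.map _)
        (fun x hx => ⟨⟨x, C.A1_le_Y hx⟩,
          hQ (show (⟨x, C.A1_le_Y hx⟩ : C.Y) ∈ C.A1.comap C.Y.subtype from hx), rfl⟩)
        (map_subtype_le _)
      have e : C.A1.subgroupOf C.Y = Q :=
        le_antisymm hQ fun x hx => hQA ▸ mem_map_of_mem _ hx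
      rw [e]
      exact Nat.odd_iff.2 (Nat.two_dvd_ne_zero.1 Q.not_dvd_index))
    (fun w hw => by
      ext y
      rw [mem_centralizer_singleton_iff, mem_subgroupOf]
      exact ⟨fun h => C.mem_A1_of_comm y.2 ((hset w).1 hw) (congrArg Subtype.val h),
        fun h => Subtype.ext (C.A1_comm h (C.W_mem_A1 ((hset w).1 hw)).1)⟩)
    (fun g w hw hgw => (hset _).2 (C.inW_of_A1 hu (mem_subgroupOf.1 hgw)
      ((C.inW_isConj ((hset w).1 hw)).trans (isConj_iff.2 ⟨g, rfl⟩))))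
    ⟨⟨g0, hg0⟩, ⟨w0, C.A1_le_Y (C.W_mem_A1 hw0).1⟩, (hset _).2 hw0,
      fun h => hout (mem_subgroupOf.1 h)⟩
  refine ⟨n, g * z * (g : G)⁻¹, n.2, mul_mem (mul_mem g.2 hzY) (inv_mem g.2),
    by rw [orderOf_coe]; exact hn3, fun v hv => ?_, fun h => hnz (Subtype.ext h),
    isConj_iff.2 ⟨g, rfl⟩, congrArg Subtype.val hinv, fun v hv hvn => ?_⟩
  · exact mem_subgroupOf.1 ((mem_normalizer_iff.1 hnN ⟨v, C.A1_le_Y hv⟩).1 (mem_subgroupOf.2 hv))
  · obtain ⟨i, w, hw, hwn, hvw⟩ := hcent ⟨v, hv⟩ (Subtype.ext hvn)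
    exact ⟨i, w, mem_subgroupOf.1 hw, congrArg Subtype.val hwn, congrArg Subtype.val hvw⟩

theorem big_of_unfused : C.Big := by
  obtain ⟨n, x, hnY, hxY, hn3, hnA, hnz, hzx, hinv, hcent⟩ := C.exists_n hu
  have hn4 := (C.mem_Y.1 hnY).1
  have hx4 := (C.mem_Y.1 hxY).1
  have hn1 : n ^ 3 = 1 := hn3 ▸ pow_orderOf_eq_one n
  have hWz : C.InW (n * z * n⁻¹) :=
    C.inW_of_A1 hu (hnA z (C.W_mem_A1 C.inW_z).1) (isConj_iff.2 ⟨n, rfl⟩)
  obtain ⟨e, heK, he3, hne⟩ := C.exists_e (m := 1) (by rw [pow_one]; exact hn1) hn4 hWz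
  have hxx : x * x = 1 := by
    obtain ⟨g, hg⟩ := isConj_iff.1 hzx
    rw [← hg, conj_sq C.z_sq]; group
  have hxi : x⁻¹ = x := inv_eq_of_mul_eq_one_right hxx
  -- `x` centralises `C_{A₁}(n)`
  have hnx : ∀ v, v * n = n * v → x * v * x⁻¹ * n = n * (x * v * x⁻¹) := by
    intro v hvn
    have h1 : Commute v n⁻¹ := (show Commute v n from hvn).inv_right
    have h2 : x⁻¹ * n * x = n⁻¹ := by
      rw [hxi]; nth_rewrite 2 [← hxi]; exact hinv
    calc x * v * x⁻¹ * n = x * (v * (x⁻¹ * n * x)) * x⁻¹ := by group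
      _ = x * (x⁻¹ * n * x * v) * x⁻¹ := by rw [h2, h1.eq]
      _ = n * (x * v * x⁻¹) := by group
  have hxv : ∀ v ∈ C.A1, v * n = n * v → x * v = v * x := by
    intro v hv hvn
    obtain ⟨i, w, hw, hwn, hvw⟩ :=
      hcent _ (mul_mem (mul_mem hxY (C.A1_le_Y hv)) (inv_mem hxY)) (hnx v hvn)
    have hsq : x * v * x⁻¹ * (x * v * x⁻¹) = 1 := by rw [conj_sq (C.A1_sq hv)]; group
    have hi : n ^ i = 1 := by
      rw [hvw] at hsq
      have hc : Commute (n ^ i) w := (show Commute n w from hwn.symm).pow_left i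
      have : n ^ (2 * i) = 1 := by
        calc n ^ (2 * i) = n ^ i * n ^ i * (w * w) := by rw [C.A1_sq hw, two_mul, pow_add, mul_one]
          _ = n ^ i * w * (n ^ i * w) := by
            rw [show n ^ i * w * (n ^ i * w) = n ^ i * (w * n ^ i) * w by group, ← hc.eq]; group
          _ = 1 := hsq
      have hd := orderOf_dvd_of_pow_eq_one this
      rw [hn3] at hd
      exact orderOf_dvd_iff_pow_eq_one.1 (hn3 ▸ (Nat.Coprime.dvd_of_dvd_mul_left (by norm_num) hd))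
    rw [hi, one_mul] at hvw
    have hA : x * v * x⁻¹ ∈ C.A1 := hvw ▸ hw
    have h4 : (x * v) ^ 2 ^ 2 = 1 := by
      rw [show (2 : ℕ) ^ 2 = 2 * 2 by norm_num, pow_mul, pow_two, pow_two,
        show x * v * (x * v) = x * v * x⁻¹ * v by rw [hxi]; group]
      exact C.A1_sq (mul_mem hA hv)
    obtain ⟨c, -, hc⟩ := C.exists_conj_A1_of_invol hu (mul_mem hxY (C.A1_le_Y hv)) h4
    have h2 := C.A1_sq hc
    rw [conj_sq rfl, conj_eq_one_iff] at h2
    calc x * v = (x * v * (x * v)) * (v * x) := by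
          rw [show x * v * (x * v) * (v * x) = x * v * x * (v * v) * x by group, C.A1_sq hv,
            mul_one]
          calc x * v = x * v * (x * x) := by rw [hxx, mul_one]
            _ = x * v * x * x := by group
      _ = v * x := by rw [h2, one_mul]
  -- adjust `e` to an element centralised by `x`
  have he4 := (C.mem_K_iff.1 heK).1
  set u1 := e * C.u * e⁻¹ with hu1
  have hu1A : u1 ∈ C.A1 := C.K_normalises_A1 heK C.u_mem.1
  have hun : C.u * n = n * C.u := (C.mem_Y.1 hnY).2.symm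
  have hu1n : u1 * n = n * u1 := by
    rw [hu1]
    calc e * C.u * e⁻¹ * n = e * (C.u * (e⁻¹ * n)) := by group
      _ = e * (C.u * (n * e⁻¹)) := by
        rw [show e⁻¹ * n = n * e⁻¹ from ((show Commute n e from hne).inv_right).eq.symm]
      _ = e * (n * C.u) * e⁻¹ := by rw [← hun]; group
      _ = n * (e * C.u * e⁻¹) := by
        rw [← mul_assoc e n, show e * n = n * e from hne.symm]; group
  set q := e⁻¹ * (x * e * x⁻¹) with hq
  have hxen : x * e * x⁻¹ * n = n * (x * e * x⁻¹) := hnx e hne.symm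
  have hqY : q ∈ C.Y := by
    refine C.mem_Y.2 ⟨mul_mem (inv_mem he4) (mul_mem (mul_mem hx4 he4) (inv_mem hx4)), ?_⟩
    have hxu := (C.mem_Y.1 hxY).2
    have h1 := hxv u1 hu1A hu1n
    calc q * C.u = e⁻¹ * (x * (e * (x⁻¹ * C.u * x) * e⁻¹) * (e * x⁻¹)) := by rw [hq]; group
      _ = e⁻¹ * (x * u1 * (e * x⁻¹)) := by
        rw [show x⁻¹ * C.u * x = C.u by rw [mul_assoc, ← hxu]; group]
      _ = e⁻¹ * (u1 * x * (e * x⁻¹)) := by rw [h1]
      _ = C.u * q := by rw [hq, hu1]; group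
  have hqn : q * n = n * q := by
    have h1 : e⁻¹ * n = n * e⁻¹ := ((show Commute n e from hne).inv_right).eq.symm
    calc q * n = e⁻¹ * (x * e * x⁻¹ * n) := by rw [hq]; group
      _ = e⁻¹ * (n * (x * e * x⁻¹)) := by rw [hxen]
      _ = n * q := by rw [hq, ← mul_assoc, h1]; group
  obtain ⟨i, t, htA, htn, hqt⟩ := hcent q hqY hqn
  set e' := e * n ^ (2 * i) with he'
  have hye : x * e * x⁻¹ = e * (n ^ i * t) := by rw [← hqt, hq]; group
  have hxn : x * n ^ (2 * i) * x⁻¹ = (n⁻¹) ^ (2 * i) := by rw [← hinv, conj_pow]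
  have hxe : x * e' * x⁻¹ = e' * t := by
    have hc : Commute t (n⁻¹ ^ (2 * i)) := ((show Commute t n from htn).inv_right).pow_right _
    calc x * e' * x⁻¹ = (x * e * x⁻¹) * (x * n ^ (2 * i) * x⁻¹) := by rw [he']; group
      _ = e * n ^ i * (t * n⁻¹ ^ (2 * i)) := by rw [hye, hxn]; group
      _ = e * (n ^ i * n⁻¹ ^ (2 * i)) * t := by rw [hc.eq]; group
      _ = e' * t := by
        rw [he', show n ^ i * n⁻¹ ^ (2 * i) = n ^ (2 * i) from ?_]
        rw [inv_pow, mul_inv_eq_iff_eq_mul, ← pow_add,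
          show 2 * i + 2 * i = i + 3 * i by ring, pow_add, pow_mul, hn1, one_pow, mul_one]
  obtain ⟨h, hh, hhx⟩ := C.exists_N4_conj hzx
  have hxt : x * t = t * x := hxv t htA htn
  have htx : e'⁻¹ * x * e' = t * x := by
    calc e'⁻¹ * x * e' = e'⁻¹ * (x * e' * x⁻¹) * x := by group
      _ = t * x := by rw [hxe]; group
  have ht1 : t = 1 := by
    by_contra ht
    have hcW : C.InW (h⁻¹ * (t * x) * h) := by
      refine C.inW_of_K hu (C.mem_K_iff.2 ⟨mul_mem (mul_mem (inv_mem hh)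
        (mul_mem (C.K_le (C.A1_le_K htA)) hx4)) hh, ?_⟩)
        (hzx.trans ((isConj_iff.2 ⟨e'⁻¹, by rw [inv_inv, htx]⟩).trans
          (isConj_iff.2 ⟨h⁻¹, by group⟩)))
      calc h⁻¹ * (t * x) * h * z = h⁻¹ * (t * x * (h * z * h⁻¹)) * h := by group
        _ = h⁻¹ * (t * x * x) * h := by rw [hhx]
        _ = h⁻¹ * (x * (t * x)) * h := by rw [← mul_assoc x t x, hxt]
        _ = h⁻¹ * ((h * z * h⁻¹) * (t * x)) * h := by rw [hhx]
        _ = z * (h⁻¹ * (t * x) * h) := by group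
    have ht' : h⁻¹ * (t * x) * h * z = h⁻¹ * t * h := by
      calc h⁻¹ * (t * x) * h * z = h⁻¹ * (t * (x * (h * z * h⁻¹))) * h := by group
        _ = h⁻¹ * t * h := by rw [hhx, hxx, mul_one]
    have hne' : h⁻¹ * (t * x) * h ≠ z := fun heq => ht (by
      have e1 : t * x = x := by
        calc t * x = h * (h⁻¹ * (t * x) * h) * h⁻¹ := by group
          _ = x := by rw [heq, hhx]
      exact mul_eq_right.1 e1)
    have htW : C.InW (h⁻¹ * t * h) := ht' ▸ C.inW_mul hcW C.inW_z hne'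
    have htW' : C.InW t := C.inW_of_A1 hu htA
      ((C.inW_isConj htW).trans (isConj_iff.2 ⟨h, by group⟩))
    exact hnz (C.mem_K_iff.1 (C.mem_K_of_W hn4 htW' htn.symm)).2
  rw [ht1, mul_one] at hxe
  have hxe' : x * e' = e' * x := mul_inv_eq_iff_eq_mul.1 hxe
  have he'n : e' * n = n * e' := by
    rw [he', mul_assoc, ← pow_succ, pow_succ', ← mul_assoc, show e * n = n * e from hne.symm,
      mul_assoc]
  have he'3 : orderOf e' = 3 := by
    have : Fact (Nat.Prime 3) := ⟨Nat.prime_three⟩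
    refine orderOf_eq_prime ?_ fun h1 => ?_
    · rw [he', ((show Commute e n from hne.symm).pow_right _).mul_pow, ← pow_mul, mul_comm (2 * i),
        pow_mul, hn1, one_pow, mul_one]
      exact he3 ▸ pow_orderOf_eq_one e
    · have h2 : e = (n ^ (2 * i))⁻¹ := eq_inv_of_mul_eq_one_left h1
      have hez := (C.mem_K_iff.1 heK).2
      have h3 : i % 3 = 0 := by
        by_contra hi
        refine hnz ?_
        have h4 : Commute (n ^ (2 * i)) z := by
          have := (show Commute e z from hez).inv_left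
          rwa [h2, inv_inv] at this
        have h5 : n ^ (2 * i) = n ^ ((2 * i) % 3) := by
          rw [← hn3, pow_mod_orderOf]
        rcases (show (2 * i) % 3 = 1 ∨ (2 * i) % 3 = 2 by omega) with h6 | h6 <;> rw [h5, h6] at h4
        · simpa using h4.eq
        · have h7 := h4.pow_left 2
          rw [← pow_mul, show (2 * 2 : ℕ) = 3 + 1 from rfl, pow_add, hn1, one_mul, pow_one] at h7
          exact h7.eq
      rw [show 2 * i = 3 * (2 * (i / 3)) by omega, pow_mul, hn1, one_pow, inv_one] at h2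
      rw [h2, orderOf_one] at he3
      norm_num at he3
  have heK' : h⁻¹ * e' * h ∈ C.K := C.mem_K_iff.2
    ⟨mul_mem (mul_mem (inv_mem hh) (mul_mem he4 (pow_mem hn4 _))) hh, by
      calc h⁻¹ * e' * h * z = h⁻¹ * (e' * (h * z * h⁻¹)) * h := by group
        _ = h⁻¹ * ((h * z * h⁻¹) * e') * h := by rw [hhx, hxe']
        _ = z * (h⁻¹ * e' * h) := by group⟩
  obtain ⟨k, hk, hkd⟩ := C.conj_three heK' (by
    rw [show h⁻¹ * e' * h = h⁻¹ * e' * h⁻¹⁻¹ by group, orderOf_conj_eq, he'3])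
  obtain ⟨hk4, hkz⟩ := C.mem_K_iff.1 hk
  have hkx : h * k * z * (h * k)⁻¹ = x := by
    rw [← hhx, show h * k * z * (h * k)⁻¹ = h * (k * z * k⁻¹) * h⁻¹ by group, hkz,
      mul_inv_cancel_right]
  refine C.big_of (g := h * k) (y := n * x * n⁻¹) (e := e') ?_ (mul_mem hh hk4)
    (mul_mem (mul_mem hn4 hx4) (inv_mem hn4)) ?_ (hzx.trans (isConj_iff.2 ⟨n, rfl⟩)) ?_
  · rcases hkd with hkd | hkd
    · left; rw [show h * k * C.d * (h * k)⁻¹ = h * (k * C.d * k⁻¹) * h⁻¹ by group, hkd]; group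
    · right; rw [show h * k * C.d⁻¹ * (h * k)⁻¹ = h * (k * C.d⁻¹ * k⁻¹) * h⁻¹ by group, hkd]; group
  · have c1 : Commute e' n := he'n
    have c2 : Commute e' x := hxe'.symm
    exact ((c1.mul_right c2).mul_right c1.inv_right).eq.symm
  · intro hW
    have hWA := (C.W_mem_A1 hW).1
    have h5 := C.A1_comm hWA (C.W_mem_A1 C.inW_z).1
    have h6 : n * x * n⁻¹ * x = x * (n * x * n⁻¹) := by
      rw [← hkx]
      calc n * (h * k * z * (h * k)⁻¹) * n⁻¹ * (h * k * z * (h * k)⁻¹)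
          = h * k * ((h * k)⁻¹ * (n * (h * k * z * (h * k)⁻¹) * n⁻¹) * (h * k) * z) * (h * k)⁻¹ := by
            group
        _ = h * k * (z * ((h * k)⁻¹ * (n * (h * k * z * (h * k)⁻¹) * n⁻¹) * (h * k))) * (h * k)⁻¹ := by
            rw [hkx, h5]
        _ = _ := by group
    have h2 : n⁻¹ = x * n * x := by rw [← hinv, hxi]
    rw [mul_assoc n x, h2, show n * (x * (x * n * x)) = n * (x * x) * n * x by group, hxx, mul_one,
      mul_assoc (n * n), hxx, mul_one] at h6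
    have h7 : x * (n * n * x) = n⁻¹ * n⁻¹ := by
      rw [← hinv]; group
      rw [show x ^ (-1 : ℤ) = x by rw [zpow_neg_one, hxi]]
    rw [h7] at h6
    have h4 : n ^ 4 = 1 := by
      calc n ^ 4 = n * n * (n * n) := by rw [show (4 : ℕ) = 2 * 2 from rfl, pow_mul, pow_two, pow_two]
        _ = n * n * (n⁻¹ * n⁻¹) := by rw [← h6]
        _ = 1 := by group
    have : n = 1 := by
      rw [show (4 : ℕ) = 3 + 1 from rfl, pow_add, hn1, one_mul, pow_one] at h4
      exact h4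
    exact hnz (by rw [this]; simp)

end Ctx

end CfsgLib.AutLThreeFour70
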