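import Cfsg.Agent.AutLThreeFour70.Blocks
import Cfsg.Agent.AutLThreeFour70.Unfused

/-!
# When `u` is conjugate to `z`
-/

set_option autoImplicit false
set_option maxRecDepth 20000

namespace CfsgLib.AutLThreeFour70

open Subgroup
open CfsgLib.Small (orderOf_conj_eq)

namespace Ctx

variable {G : Type*} [Group G] [Finite G] {z : G} (C : Ctx z)

/-- An element of `N4` keeping the triple `z, a, az`. -/
def Good (h : G) : Prop := h ∈ C.N4 ∧ C.InW (h * z * h⁻¹)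

theorem good_W {h : G} (hh : C.Good h) {v : G} (hv : C.InW v) : C.InW (h * v * h⁻¹) :=
  C.norm_W hh.1 C.inW_z hh.2 hv

theorem good_inv {h : G} (hh : C.Good h) : C.Good h⁻¹ := by
  refine ⟨inv_mem hh.1, C.norm_W (inv_mem hh.1) hh.2 ?_ C.inW_z⟩
  rw [show h⁻¹ * (h * z * h⁻¹) * h⁻¹⁻¹ = z by group]
  exact C.inW_z

theorem good_mul {h k : G} (hh : C.Good h) (hk : C.Good k) : C.Good (h * k) := by
  refine ⟨mul_mem hh.1 hk.1, ?_⟩
  rw [show h * k * z * (h * k)⁻¹ = h * (k * z * k⁻¹) * h⁻¹ by group]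
  exact C.good_W hh hk.2

theorem good_K {k : G} (hk : k ∈ C.K) : C.Good k := by
  obtain ⟨h4, hz⟩ := C.mem_K_iff.1 hk
  exact ⟨h4, by rw [hz, mul_inv_cancel_right]; exact C.inW_z⟩

theorem good_mem_K {h : G} (hh : C.Good h) {k : G} (hk : k ∈ C.K) : h * k * h⁻¹ ∈ C.K :=
  C.norm_K hh.1 C.inW_z hh.2 hk

theorem good_mem_R {h : G} (hh : C.Good h) {r : G} (hr : r ∈ C.R) : h * r * h⁻¹ ∈ C.R := by
  refine (C.mem_R_iff (C.good_mem_K hh (C.R_le_K hr))).2 ?_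
  rw [conj_sq (rfl : r * r = r * r), conj_sq (rfl : r * r * (r * r) = r * r * (r * r)),
    (C.mem_R_iff (C.R_le_K hr)).1 hr]
  group

theorem good_mem_A1 {h : G} (hh : C.Good h) {x : G} (hx : x ∈ C.A1) : h * x * h⁻¹ ∈ C.A1 :=
  C.norm_A1 hh.1 (fun _ hy => C.good_mem_K hh (C.A1_le_K hy)) hx

theorem z_ne_a : z ≠ C.M.a := fun h =>
  absurd ((C.M.eq_iff (show 16 < 768 by norm_num) (show 1 < 768 by norm_num)).1
    (C.M.z_eq.trans h)) (by norm_num)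

theorem cube_mem_K {h : G} (h4 : h ∈ C.N4) (hza : h * z * h⁻¹ = C.M.a) : h ^ 3 ∈ C.K := by
  have hg : C.Good h := ⟨h4, hza.symm ▸ Or.inr (Or.inl rfl)⟩
  have haa : C.M.a * C.M.a = 1 := by
    have := pow_orderOf_eq_one C.M.a
    rwa [C.M.a_facts.2.1, pow_two] at this
  have hcomm : z * C.M.a = C.M.a * z := C.M.a_facts.2.2.2.2.symm
  have hab : h * C.M.a * h⁻¹ = C.M.a * z := by
    rcases C.good_W hg (show C.InW C.M.a from Or.inr (Or.inl rfl)) with h1 | h1 | h1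
    · exfalso
      have h2 : h * (C.M.a * z) = C.M.a * z * h := by
        calc h * (C.M.a * z) = h * C.M.a * h⁻¹ * (h * z * h⁻¹) * h := by group
          _ = z * C.M.a * h := by rw [h1, hza]
          _ = C.M.a * z * h := by rw [hcomm]
      have h3 := (C.mem_K_iff.1 (C.mem_K_of_W h4 (Or.inr (Or.inr rfl)) h2)).2
      rw [h3, mul_inv_cancel_right] at hza
      exact C.z_ne_a hza
    · exact absurd ((MulAut.conj h).injective (show MulAut.conj h z = MulAut.conj h C.M.a from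
        hza.trans h1.symm)) C.z_ne_a
    · exact h1
  refine C.mem_K_iff.2 ⟨pow_mem h4 3, mul_inv_eq_iff_eq_mul.1 ?_⟩
  calc h ^ 3 * z * (h ^ 3)⁻¹ = h * (h * (h * z * h⁻¹) * h⁻¹) * h⁻¹ := by
        simp only [pow_succ, pow_zero, one_mul]; group
    _ = h * (C.M.a * z) * h⁻¹ := by rw [hza, hab]
    _ = h * C.M.a * h⁻¹ * (h * z * h⁻¹) := by group
    _ = C.M.a * z * C.M.a := by rw [hab, hza]
    _ = z := by rw [mul_assoc, hcomm, ← mul_assoc, haa, one_mul]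

theorem exists_cycle : ∃ n ∈ C.N4, n ^ 3 ^ 2 = 1 ∧ n * z * n⁻¹ = C.M.a := by
  obtain ⟨h, h4, hza⟩ := C.exists_N4_conj C.fus
  have hK := C.cube_mem_K h4 hza
  refine ⟨h ^ 64, pow_mem h4 _, ?_, ?_⟩
  · have := congrArg Subtype.val (pow_card_eq_one' (x := (⟨h ^ 3, hK⟩ : C.K)))
    rw [C.card_K] at this
    rw [← pow_mul, show (64 : ℕ) * 3 ^ 2 = 3 * 192 by norm_num, pow_mul]
    exact this
  · have h3 : Commute ((h ^ 3) ^ 21) z := (show Commute (h ^ 3) z from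
      (C.mem_K_iff.1 hK).2).pow_left _
    rw [show h ^ 64 = h * (h ^ 3) ^ 21 by group,
      show h * (h ^ 3) ^ 21 * z * (h * (h ^ 3) ^ 21)⁻¹ =
        h * ((h ^ 3) ^ 21 * z * ((h ^ 3) ^ 21)⁻¹) * h⁻¹ by group,
      h3.eq, mul_inv_cancel_right, hza]

/-- The cosets of `A₁` in `R`. -/
theorem R_cover {e r : G} (he : e ∈ C.K) (he3 : orderOf e = 3) (hr : r ∈ C.R) (hrA : r ∉ C.A1)
    {s : G} (hs : s ∈ C.R) : s ∈ C.A1 ∨
      ∃ E : G, (E = 1 ∨ E = e ∨ E = e⁻¹) ∧ (E * r * E⁻¹)⁻¹ * s ∈ C.A1 := by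
  have hee : e ^ 3 = 1 := he3 ▸ pow_orderOf_eq_one e
  have hgood := C.good_K he
  have hi := C.good_inv hgood
  set r1 := e * r * e⁻¹ with h1
  set r2 := e⁻¹ * r * e with h2
  have hr1 : r1 ∈ C.R := C.good_mem_R hgood hr
  have hr2 : r2 ∈ C.R := by
    have := C.good_mem_R hi hr
    rwa [inv_inv] at this
  have hA1 : r1 ∉ C.A1 := fun h => hrA (by
    have := C.good_mem_A1 hi h
    rwa [h1, show e⁻¹ * (e * r * e⁻¹) * e⁻¹⁻¹ = r by group] at this)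
  have hA2 : r2 ∉ C.A1 := fun h => hrA (by
    have := C.good_mem_A1 hgood h
    rwa [h2, show e * (e⁻¹ * r * e) * e⁻¹ = r by group] at this)
  have p01 : r⁻¹ * r1 ∉ C.A1 := C.three_fpf he he3 hr hrA
  have p02 : r⁻¹ * r2 ∉ C.A1 := by
    have := C.three_fpf (inv_mem he) (by rw [orderOf_inv, he3]) hr hrA
    rwa [inv_inv] at this
  have p12 : r1⁻¹ * r2 ∉ C.A1 := by
    have := C.three_fpf he he3 hr1 hA1
    rwa [show e * r1 * e⁻¹ = r2 from ?_] at this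
    calc e * r1 * e⁻¹ = e ^ 3 * r2 * (e ^ 3)⁻¹ := by rw [h1, h2]; simp only [pow_succ, pow_zero, one_mul]; group
      _ = r2 := by rw [hee, one_mul, inv_one, mul_one]
  let F : Fin 4 → C.R := ![1, ⟨r, hr⟩, ⟨r1, hr1⟩, ⟨r2, hr2⟩]
  have key : ∀ i j, i < j → (F i : G)⁻¹ * F j ∉ C.A1 := by
    intro i j hij
    fin_cases i <;> fin_cases j <;>
      first
      | exact absurd hij (by decide)
      | (simp only [F]; simpa using hrA)
      | (simp only [F]; simpa using hA1)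
      | (simp only [F]; simpa using hA2)
      | exact p01
      | exact p02
      | exact p12
  let f : Fin 4 → C.R ⧸ C.A1.subgroupOf C.R := fun i => QuotientGroup.mk (F i)
  have hinj : Function.Injective f := by
    intro i j h
    have hm : (F i : G)⁻¹ * F j ∈ C.A1 := mem_subgroupOf.1 (QuotientGroup.eq.1 h)
    rcases lt_trichotomy i j with hlt | heq | hgt
    · exact absurd hm (key i j hlt)
    · exact heq
    · exact absurd (by simpa [mul_inv_rev] using inv_mem hm) (key j i hgt)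
  have hcard : Nat.card (C.R ⧸ C.A1.subgroupOf C.R) = 4 := by
    have h := (C.A1.subgroupOf C.R).card_mul_index
    rw [Nat.card_congr (subgroupOfEquivOfLe C.A1_le_R).toEquiv, C.card_A1, C.card_R] at h
    have : (C.A1.subgroupOf C.R).index = Nat.card (C.R ⧸ C.A1.subgroupOf C.R) := rfl
    omega
  obtain ⟨i, hfi⟩ := ((Nat.bijective_iff_injective_and_card f).2
    ⟨hinj, by rw [hcard, Nat.card_fin]⟩).2 (QuotientGroup.mk ⟨s, hs⟩)
  have hm : (F i : G)⁻¹ * s ∈ C.A1 := mem_subgroupOf.1 (QuotientGroup.eq.1 hfi)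
  fin_cases i
  · left; simpa [F] using hm
  · exact Or.inr ⟨1, Or.inl rfl, by simpa [F] using hm⟩
  · exact Or.inr ⟨e, Or.inr (Or.inl rfl), by simpa [F, h1] using hm⟩
  · exact Or.inr ⟨e⁻¹, Or.inr (Or.inr rfl), by simpa [F, h2] using hm⟩

/-- The element acting on `A₁` without fixed points and trivially on `R` modulo `A₁`. -/
theorem exists_c : ∃ c, C.Good c ∧ c ^ 3 = 1 ∧ c * z * c⁻¹ = C.M.a ∧
    (∀ r ∈ C.R, r⁻¹ * (c * r * c⁻¹) ∈ C.A1) := by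
  obtain ⟨n, hn4, hn9, hza⟩ := C.exists_cycle
  have hng : C.Good n := ⟨hn4, hza.symm ▸ Or.inr (Or.inl rfl)⟩
  obtain ⟨e, heK, he3, hne⟩ := C.exists_e hn9 hn4 hng.2
  obtain ⟨r, hr2, hrA⟩ := C.exists_A2_not_A1
  have hr := C.A2_le_R hr2
  have heg := C.good_K heK
  have hee : e ^ 3 = 1 := he3 ▸ pow_orderOf_eq_one e
  have hnA : n * r * n⁻¹ ∉ C.A1 := fun h => hrA (by
    have := C.good_mem_A1 (C.good_inv hng) h
    rwa [show n⁻¹ * (n * r * n⁻¹) * n⁻¹⁻¹ = r by group] at this)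
  obtain h | ⟨E, hE, hq⟩ := C.R_cover heK he3 hr hrA (C.good_mem_R hng hr)
  · exact absurd h hnA
  have hEK : E ∈ C.K := by
    rcases hE with hE | hE | hE <;> rw [hE]
    exacts [one_mem _, heK, inv_mem heK]
  have hEg := C.good_inv (C.good_K hEK)
  have hnE : Commute n E⁻¹ := by
    rcases hE with hE | hE | hE <;> rw [hE]
    · simp
    · exact (show Commute n e from hne).inv_right
    · rw [inv_inv]; exact hne
  have hE9 : E⁻¹ ^ 3 ^ 2 = 1 := by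
    have h : e ^ 3 ^ 2 = 1 := by rw [show (3 : ℕ) ^ 2 = 3 * 3 from rfl, pow_mul, hee, one_pow]
    rcases hE with hE | hE | hE <;> rw [hE]
    · simp
    · rw [inv_pow, h, inv_one]
    · rw [inv_inv, h]
  set c := E⁻¹ * n with hc
  have hcg : C.Good c := C.good_mul hEg hng
  have hcza : c * z * c⁻¹ = C.M.a := by
    rw [hc, show E⁻¹ * n * z * (E⁻¹ * n)⁻¹ = E⁻¹ * (n * z * n⁻¹) * E by group, hza,
      C.K_comm_W (inv_mem hEK) (Or.inr (Or.inl rfl)), inv_mul_cancel_right]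
  have hce : Commute c e := by
    refine Commute.mul_left ?_ hne
    rcases hE with hE | hE | hE <;> rw [hE]
    · simp
    · exact (Commute.refl e).inv_left
    · rw [inv_inv]
      try exact Commute.refl e
  have htriv : ∀ s ∈ C.R, s⁻¹ * (c * s * c⁻¹) ∈ C.A1 := by
    have hr0 : r⁻¹ * (c * r * c⁻¹) ∈ C.A1 := by
      have h := C.good_mem_A1 hEg hq
      rwa [hc, show r⁻¹ * (E⁻¹ * n * r * (E⁻¹ * n)⁻¹) =
        E⁻¹ * ((E * r * E⁻¹)⁻¹ * (n * r * n⁻¹)) * E⁻¹⁻¹ by group]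
    intro s hs
    rcases C.R_cover heK he3 hr hrA hs with hsA | ⟨F, hF, hsF⟩
    · exact mul_mem (inv_mem hsA) (C.good_mem_A1 hcg hsA)
    · have hcF : Commute c F := by
        rcases hF with hF | hF | hF <;> rw [hF]
        exacts [Commute.one_right c, hce, hce.inv_right]
      have hFK : F ∈ C.K := by
        rcases hF with hF | hF | hF <;> rw [hF]
        exacts [one_mem _, heK, inv_mem heK]
      set q := (F * r * F⁻¹)⁻¹ * s with hq'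
      have hs' : s = F * r * F⁻¹ * q := by rw [hq']; group
      have e1 : c * s * c⁻¹ = F * (c * r * c⁻¹) * F⁻¹ * (c * q * c⁻¹) := by
        calc c * s * c⁻¹ = (c * F) * r * (c * F)⁻¹ * (c * q * c⁻¹) := by rw [hs']; group
          _ = _ := by rw [hcF.eq]; group
      rw [e1, show s⁻¹ = q⁻¹ * (F * r⁻¹ * F⁻¹) by rw [hs']; group,
        show q⁻¹ * (F * r⁻¹ * F⁻¹) * (F * (c * r * c⁻¹) * F⁻¹ * (c * q * c⁻¹)) =
          q⁻¹ * (F * (r⁻¹ * (c * r * c⁻¹)) * F⁻¹) * (c * q * c⁻¹) by group]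
      exact mul_mem (mul_mem (inv_mem hsF) (C.K_normalises_A1 hFK hr0)) (C.good_mem_A1 hcg hsF)
  refine ⟨c, hcg, ?_, hcza, htriv⟩
  by_contra h3
  have h9 : (c ^ 3) ^ 3 = 1 := by
    rw [← pow_mul, show (3 * 3 : ℕ) = 3 ^ 2 from rfl, hc, hnE.symm.mul_pow, hE9, hn9, one_mul]
  haveI : Fact (Nat.Prime 3) := ⟨Nat.prime_three⟩
  refine C.three_fpf (C.cube_mem_K hcg.1 hcza) (orderOf_eq_prime h9 h3) hr hrA ?_
  have e : r⁻¹ * (c ^ 3 * r * (c ^ 3)⁻¹) = r⁻¹ * (c * r * c⁻¹) *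
      (c * (r⁻¹ * (c * r * c⁻¹)) * c⁻¹) * (c * (c * (r⁻¹ * (c * r * c⁻¹)) * c⁻¹) * c⁻¹) := by
    simp only [pow_succ, pow_zero, one_mul]; group
  rw [e]
  exact mul_mem (mul_mem (htriv r hr) (C.good_mem_A1 hcg (htriv r hr)))
    (C.good_mem_A1 hcg (C.good_mem_A1 hcg (htriv r hr)))

/-- A fixed involution outside `A₁`. -/
theorem exists_fixed_A2 {c : G} (hc : C.Good c) (h3 : c ^ 3 = 1)
    (ht : ∀ r ∈ C.R, r⁻¹ * (c * r * c⁻¹) ∈ C.A1) : ∃ t ∈ C.A2, t ∉ C.A1 ∧ c * t = t * c := by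
  obtain ⟨r, hr2, hrA⟩ := C.exists_A2_not_A1
  set s : Set G := {x | x ∈ C.A2 ∧ r⁻¹ * x ∈ C.A1} with hs
  have hout : ∀ x ∈ s, x ∉ C.A1 := fun x hx hxA => hrA (by
    have := mul_mem hxA (inv_mem hx.2)
    rwa [show x * (r⁻¹ * x)⁻¹ = r by group] at this)
  have hst : ∀ x ∈ s, c * x * c⁻¹ ∈ s := by
    intro x hx
    have hxR := C.A2_le_R hx.1
    refine ⟨(C.mem_A1_or_A2 (C.good_mem_R hc hxR) (by rw [conj_sq (C.A2_sq hx.1)]; group)
      ).resolve_left fun h => hout x hx ?_, ?_⟩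
    · have := C.good_mem_A1 (C.good_inv hc) h
      rwa [show c⁻¹ * (c * x * c⁻¹) * c⁻¹⁻¹ = x by group] at this
    · rw [show r⁻¹ * (c * x * c⁻¹) = r⁻¹ * x * (x⁻¹ * (c * x * c⁻¹)) by group]
      exact mul_mem hx.2 (ht x hxR)
  have hcard : ¬ 3 ∣ Nat.card s := by
    let e : (C.A1 ⊓ C.A2 : Subgroup G) ≃ s :=
      { toFun := fun v => ⟨r * v, mul_mem hr2 v.2.2, by rw [inv_mul_cancel_left]; exact v.2.1⟩
        invFun := fun x => ⟨r⁻¹ * x, x.2.2, C.A2.mul_mem (C.A2.inv_mem hr2) x.2.1⟩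
        left_inv := fun v => Subtype.ext (inv_mul_cancel_left r v)
        right_inv := fun x => Subtype.ext (mul_inv_cancel_left r x) }
    have h4 : Nat.card (C.A1 ⊓ C.A2 : Subgroup G) = 4 := by
      refine (C.M.card_eq _ _ (fun x hx => Model.mem_cent.1 (C.M.sub_le hx.1)) fun n hn => ?_).trans
        chk_blocks.2.2.1
      rw [SetLike.mem_coe, mem_inf, A1, A2, C.M.mem_sub hn, C.M.mem_sub hn, Bool.and_eq_true]
    rw [← Nat.card_congr e, h4]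
    norm_num
  obtain ⟨t, htS, hfix⟩ := exists_fixed (e := 1) (by rw [pow_one]; exact h3) s hst hcard
  exact ⟨t, htS.1, hout t htS, mul_inv_eq_iff_eq_mul.1 hfix⟩

section

variable {g : G} (hg4 : g ∈ C.N4) (hgu : g * z * g⁻¹ = C.u)
include hg4 hgu

theorem g_inv_A1 {x : G} (hx : x ∈ C.A1) : g⁻¹ * x * g ∈ C.A1 := by
  have h := C.norm_A1 (h := g⁻¹) (inv_mem hg4) (fun y hy => C.mem_K_iff.2
    ⟨by simpa using C.N4_spec.1.conj_mem y (C.K_le (C.A1_le_K hy)) g⁻¹, by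
      rw [inv_inv]
      calc g⁻¹ * y * g * z = g⁻¹ * (y * (g * z * g⁻¹)) * g := by group
        _ = g⁻¹ * ((g * z * g⁻¹) * y) * g := by rw [hgu, C.A1_comm hy C.u_mem.1]
        _ = z * (g⁻¹ * y * g) := by group⟩) hx
  rwa [inv_inv] at h

theorem g_A1 {x : G} (hx : x ∈ C.A1) : g * x * g⁻¹ ∈ C.A1 := by
  have e : C.A1.map (MulAut.conj g⁻¹).toMonoidHom = C.A1 := Subgroup.eq_of_le_of_card_ge
    (by rintro _ ⟨y, hy, rfl⟩; simpa using C.g_inv_A1 hg4 hgu hy)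
    (by rw [card_map_of_injective (MulAut.conj g⁻¹).injective])
  rw [← e] at hx
  obtain ⟨y, hy, rfl⟩ := hx
  simpa [mul_assoc] using hy

theorem not_both {x : G} (hx : C.InW x) (hgx : C.InW (g⁻¹ * x * g)) : False := by
  have h := C.norm_W (h := g) hg4 hgx
    (by rwa [show g * (g⁻¹ * x * g) * g⁻¹ = x by group]) C.inW_z
  rw [hgu] at h
  exact C.u_mem.2.2 h

/-- Every element of `A₁` outside the triple is moved by `R` into the block of `u`. -/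
theorem block_cover {x : G} (hx : x ∈ C.A1) (h1 : x ≠ 1) (hW : ¬ C.InW x) :
    ∃ r ∈ C.R, C.InW (g⁻¹ * (r * x * r⁻¹) * g) := by
  let f : (C.A1 ⊓ C.A2 : Subgroup G) × (C.A1 ⊓ C.A2 : Subgroup G) → C.A1 := fun p =>
    ⟨p.1 * (g * p.2 * g⁻¹), mul_mem p.1.2.1 (C.g_A1 hg4 hgu p.2.2.1)⟩
  have hinj : Function.Injective f := by
    rintro ⟨v, v'⟩ ⟨w, w'⟩ h
    have h' : (v : G) * (g * v' * g⁻¹) = w * (g * w' * g⁻¹) := congrArg Subtype.val h
    have hy : (w : G)⁻¹ * v = g * ((w' : G) * (v' : G)⁻¹) * g⁻¹ := by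
      calc (w : G)⁻¹ * v = (w : G)⁻¹ * (v * (g * v' * g⁻¹)) * (g * v' * g⁻¹)⁻¹ := by group
        _ = _ := by rw [h']; group
    have hmem : (w : G)⁻¹ * v ∈ C.A1 ⊓ C.A2 := mul_mem (inv_mem w.2) v.2
    have hmem' : (w' : G) * (v' : G)⁻¹ ∈ C.A1 ⊓ C.A2 := mul_mem w'.2 (inv_mem v'.2)
    rcases C.one_or_inW hmem'.1 hmem'.2 with h2 | h2
    · rw [h2, mul_one, mul_inv_cancel, inv_mul_eq_one] at hy
      exact Prod.ext (Subtype.ext hy.symm) (Subtype.ext (mul_inv_eq_one.1 h2).symm)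
    · exfalso
      rcases C.one_or_inW hmem.1 hmem.2 with h3 | h3
      · rw [h3] at hy
        have : (w' : G) * (v' : G)⁻¹ = 1 := by
          rw [show (w' : G) * (v' : G)⁻¹ = g⁻¹ * (g * (w' * (v' : G)⁻¹) * g⁻¹) * g by group, ← hy]
          group
        rw [this] at h2
        exact absurd (C.orderOf_inW h2) (by simp)
      · refine C.not_both hg4 hgu h3 ?_
        rw [hy]
        simpa [mul_assoc] using h2
  have h4 : Nat.card (C.A1 ⊓ C.A2 : Subgroup G) = 4 := by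
    refine (C.M.card_eq _ _ (fun y hy => Model.mem_cent.1 (C.M.sub_le hy.1)) fun n hn => ?_).trans
      chk_blocks.2.2.1
    rw [SetLike.mem_coe, mem_inf, A1, A2, C.M.mem_sub hn, C.M.mem_sub hn, Bool.and_eq_true]
  obtain ⟨⟨v, v'⟩, hf⟩ := ((Nat.bijective_iff_injective_and_card f).2
    ⟨hinj, by rw [Nat.card_prod, h4, C.card_A1]⟩).2 ⟨x, hx⟩
  have hxe : (v : G) * (g * v' * g⁻¹) = x := congrArg Subtype.val hf
  rcases C.one_or_inW v'.2.1 v'.2.2 with hv' | hv'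
  · rw [hv', mul_one, mul_inv_cancel, mul_one] at hxe
    exact absurd (C.one_or_inW v.2.1 v.2.2) (by rw [hxe]; exact fun h => h.elim h1 hW)
  rcases C.one_or_inW v.2.1 v.2.2 with hv | hv
  · refine ⟨1, one_mem _, ?_⟩
    rw [← hxe, hv]
    simpa [mul_assoc] using hv'
  · obtain ⟨r, hr, hrx⟩ := (C.A1_spec hx h1 hW).2.2.2.2 v hv
    refine ⟨r, hr, ?_⟩
    rw [hrx, ← hxe, C.A1_comm v.2.1 (C.g_A1 hg4 hgu v'.2.1), mul_assoc (g * (v' : G) * g⁻¹), C.A1_sq v.2.1, mul_one,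
      show g⁻¹ * (g * (v' : G) * g⁻¹) * g = v' by group]
    exact hv'

theorem stab {y x x' : G} (hy : y ∈ C.N4) (hx : C.InW (g⁻¹ * x * g))
    (hyx : C.InW (g⁻¹ * (y * x * y⁻¹) * g)) (hx' : C.InW (g⁻¹ * x' * g)) :
    C.InW (g⁻¹ * (y * x' * y⁻¹) * g) := by
  have h := C.norm_W (h := g⁻¹ * y * g) (mul_mem (mul_mem (inv_mem hg4) hy) hg4) hx
    (by rwa [show g⁻¹ * y * g * (g⁻¹ * x * g) * (g⁻¹ * y * g)⁻¹ = g⁻¹ * (y * x * y⁻¹) * g by
      group]) hx'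
  rwa [show g⁻¹ * y * g * (g⁻¹ * x' * g) * (g⁻¹ * y * g)⁻¹ = g⁻¹ * (y * x' * y⁻¹) * g by group]
    at h

/-- The fixed-point-free element keeps the block of `u`. -/
theorem block_u {c : G} (hc : C.Good c) (h3 : c ^ 3 = 1)
    (ht : ∀ r ∈ C.R, r⁻¹ * (c * r * c⁻¹) ∈ C.A1) : C.InW (g⁻¹ * (c * C.u * c⁻¹) * g) := by
  have hv := C.good_mem_A1 hc C.u_mem.1
  have hv1 : c * C.u * c⁻¹ ≠ 1 := fun h => C.u_mem.2.1 (conj_eq_one_iff.1 h)
  have hvW : ¬ C.InW (c * C.u * c⁻¹) := fun h => C.u_mem.2.2 (by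
    have := C.good_W (C.good_inv hc) h
    rwa [show c⁻¹ * (c * C.u * c⁻¹) * c⁻¹⁻¹ = C.u by group] at this)
  obtain ⟨r, hr, hP⟩ := C.block_cover hg4 hgu hv hv1 hvW
  have huP : C.InW (g⁻¹ * C.u * g) := by
    rw [← hgu, show g⁻¹ * (g * z * g⁻¹) * g = z by group]; exact C.inW_z
  set y := r * c with hy
  have hy4 : y ∈ C.N4 := mul_mem (C.K_le (C.R_le_K hr)) hc.1
  have hP1 : C.InW (g⁻¹ * (y * C.u * y⁻¹) * g) := by
    rw [hy, show r * c * C.u * (r * c)⁻¹ = r * (c * C.u * c⁻¹) * r⁻¹ by group]; exact hP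
  have hP2 := C.stab hg4 hgu hy4 huP hP1 hP1
  set q := r * r * (r⁻¹ * (c * r * c⁻¹)) with hq
  have hqA : q ∈ C.A1 := mul_mem (C.R_sq_mem hr) (ht r hr)
  have hc2 : C.InW (g⁻¹ * (c * (c * C.u * c⁻¹) * c⁻¹) * g) := by
    have hmem := C.good_mem_A1 hc hv
    rw [show y * (y * C.u * y⁻¹) * y⁻¹ = q * (c * (c * C.u * c⁻¹) * c⁻¹) * q⁻¹ by
      rw [hy, hq]; group, C.A1_comm hqA hmem, mul_inv_cancel_right] at hP2
    exact hP2
  have h := C.stab hg4 hgu (mul_mem hc.1 hc.1) huP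
    (by rwa [show c * c * C.u * (c * c)⁻¹ = c * (c * C.u * c⁻¹) * c⁻¹ by group]) hc2
  rwa [show c * c * (c * (c * C.u * c⁻¹) * c⁻¹) * (c * c)⁻¹ = c ^ 3 * (c * C.u * c⁻¹) * (c ^ 3)⁻¹ by
    (simp only [pow_succ, pow_zero, one_mul]; group), h3, one_mul, inv_one, mul_one] at h

/-- The element keeps every block. -/
theorem blocks {c : G} (hc : C.Good c) (h3 : c ^ 3 = 1)
    (ht : ∀ r ∈ C.R, r⁻¹ * (c * r * c⁻¹) ∈ C.A1) {x : G} (hx : x ∈ C.A1) (h1 : x ≠ 1) :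
    ∃ h ∈ C.N4, C.InW (h⁻¹ * x * h) ∧ C.InW (h⁻¹ * (c * x * c⁻¹) * h) := by
  by_cases hW : C.InW x
  · exact ⟨1, one_mem _, by simpa using hW, by simpa using C.good_W hc hW⟩
  obtain ⟨r, hr, hP⟩ := C.block_cover hg4 hgu hx h1 hW
  refine ⟨r⁻¹ * g, mul_mem (inv_mem (C.K_le (C.R_le_K hr))) hg4, ?_, ?_⟩
  · rwa [show (r⁻¹ * g)⁻¹ * x * (r⁻¹ * g) = g⁻¹ * (r * x * r⁻¹) * g by group]
  · have huP : C.InW (g⁻¹ * C.u * g) := by
      rw [← hgu, show g⁻¹ * (g * z * g⁻¹) * g = z by group]; exact C.inW_z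
    have h2 := C.stab hg4 hgu hc.1 huP (C.block_u hg4 hgu hc h3 ht) hP
    have hq := ht r hr
    have hcx := C.good_mem_A1 hc hx
    rw [show c * (r * x * r⁻¹) * c⁻¹ = r * ((r⁻¹ * (c * r * c⁻¹)) * (c * x * c⁻¹) *
      (r⁻¹ * (c * r * c⁻¹))⁻¹) * r⁻¹ by group, C.A1_comm hq hcx, mul_inv_cancel_right] at h2
    rwa [show (r⁻¹ * g)⁻¹ * (c * x * c⁻¹) * (r⁻¹ * g) = g⁻¹ * (r * (c * x * c⁻¹) * r⁻¹) * g by
      group]

/-- An element keeping every block is trivial on `R` modulo `A₁`. -/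
theorem triv_of_blocks {c : G} (hc : C.Good c)
    (hb : ∀ x ∈ C.A1, x ≠ 1 → ∃ h ∈ C.N4, C.InW (h⁻¹ * x * h) ∧
      C.InW (h⁻¹ * (c * x * c⁻¹) * h)) {r : G} (hr : r ∈ C.R) :
    r⁻¹ * (c * r * c⁻¹) ∈ C.A1 := by
  have huP : C.InW (g⁻¹ * C.u * g) := by
    rw [← hgu, show g⁻¹ * (g * z * g⁻¹) * g = z by group]; exact C.inW_z
  obtain ⟨h, hh, hhu, hhv⟩ := hb _ C.u_mem.1 C.u_mem.2.1
  have hvP := C.inW_trans hh hg4 hhu hhv huP
  obtain ⟨k, hk, hku, hkv⟩ := hb (r * C.u * r⁻¹) (C.K_normalises_A1 (C.R_le_K hr) C.u_mem.1)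
    (fun h => C.u_mem.2.1 (conj_eq_one_iff.1 h))
  have hr4 := C.K_le (C.R_le_K hr)
  have hrv := C.inW_trans hk (mul_mem hr4 hg4) hku hkv
    (by rwa [show (r * g)⁻¹ * (r * C.u * r⁻¹) * (r * g) = g⁻¹ * C.u * g by group])
  set q := r⁻¹ * (c * r * c⁻¹) with hq
  have hqR : q ∈ C.R := mul_mem (inv_mem hr) (C.good_mem_R hc hr)
  have hqv : C.InW (g⁻¹ * (q * (c * C.u * c⁻¹) * q⁻¹) * g) := by
    rwa [show g⁻¹ * (q * (c * C.u * c⁻¹) * q⁻¹) * g =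
      (r * g)⁻¹ * (c * (r * C.u * r⁻¹) * c⁻¹) * (r * g) by rw [hq]; group]
  have hqu := C.stab hg4 hgu (C.K_le (C.R_le_K hqR)) hvP hqv huP
  rcases C.R_comm_A1 hqR C.u_mem.1 with h1 | hw
  · exact (C.A1_spec C.u_mem.1 C.u_mem.2.1 C.u_mem.2.2).2.2.2.1 q (C.R_le_K hqR)
      (mul_inv_eq_iff_eq_mul.1 (mul_inv_eq_one.1 h1))
  · refine absurd ?_ (C.not_both hg4 hgu hw)
    have hne : g⁻¹ * (q * C.u * q⁻¹) * g ≠ g⁻¹ * C.u * g := fun he => by
      have : q * C.u * q⁻¹ = C.u := mul_left_cancel (mul_right_cancel he)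
      rw [this, mul_inv_cancel] at hw
      exact absurd (C.orderOf_inW hw) (by simp)
    have := C.inW_mul hqu huP hne
    rwa [show g⁻¹ * (q * C.u * q⁻¹) * g * (g⁻¹ * C.u * g) = g⁻¹ * (q * C.u * q⁻¹ * C.u) * g by
      group, show q * C.u * q⁻¹ * C.u = q * C.u * q⁻¹ * C.u⁻¹ by
        rw [inv_eq_of_mul_eq_one_right (C.A1_sq C.u_mem.1)]] at this

end

theorem isConj_z_of_K (hu : IsConj z C.u) {x : G} (hx : x ∈ C.K) (h2 : orderOf x = 2) :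
    IsConj z x :=
  (C.inW_or_conj_u hx h2).elim C.inW_isConj hu.trans

theorem big_of_fused (hu : IsConj z C.u) : C.Big := by
  obtain ⟨g, hg4, hgu⟩ := C.exists_N4_conj hu
  obtain ⟨c, hc, h3, hcza, ht⟩ := C.exists_c
  obtain ⟨t, ht2, htA, hct⟩ := C.exists_fixed_A2 hc h3 ht
  set c' := g⁻¹ * c * g with hc'
  have hc'4 : c' ∈ C.N4 := mul_mem (mul_mem (inv_mem hg4) hc.1) hg4
  have hc'g : C.Good c' := ⟨hc'4, by
    have := C.block_u hg4 hgu hc h3 ht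
    rwa [hc', show g⁻¹ * c * g * z * (g⁻¹ * c * g)⁻¹ = g⁻¹ * (c * (g * z * g⁻¹) * c⁻¹) * g by
      group, hgu]⟩
  have hb : ∀ x ∈ C.A1, x ≠ 1 → ∃ h ∈ C.N4, C.InW (h⁻¹ * x * h) ∧
      C.InW (h⁻¹ * (c' * x * c'⁻¹) * h) := by
    intro x hx h1
    obtain ⟨h, hh, hx1, hx2⟩ := C.blocks hg4 hgu hc h3 ht (C.g_A1 hg4 hgu hx)
      (fun h => h1 (conj_eq_one_iff.1 h))
    refine ⟨g⁻¹ * h, mul_mem (inv_mem hg4) hh, ?_, ?_⟩
    · rwa [show (g⁻¹ * h)⁻¹ * x * (g⁻¹ * h) = h⁻¹ * (g * x * g⁻¹) * h by group]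
    · rwa [show (g⁻¹ * h)⁻¹ * (c' * x * c'⁻¹) * (g⁻¹ * h) =
        h⁻¹ * (c * (g * x * g⁻¹) * c⁻¹) * h by rw [hc']; group]
  obtain ⟨s, hs2, hsA, hcs⟩ := C.exists_fixed_A2 hc'g
    (by rw [hc', show (g⁻¹ * c * g) ^ 3 = g⁻¹ * c ^ 3 * g by simp only [pow_succ, pow_zero, one_mul] <;> group, h3]; group)
    (fun r hr => C.triv_of_blocks hg4 hgu hc'g hb hr)
  have hord : ∀ x ∈ C.A2, x ∉ C.A1 → orderOf x = 2 := fun x hx hxA =>
    orderOf_eq_prime (by rw [pow_two, C.A2_sq hx]) fun h => hxA (h ▸ one_mem _)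
  have htz := C.isConj_z_of_K hu (C.R_le_K (C.A2_le_R ht2)) (hord t ht2 htA)
  have hsz := C.isConj_z_of_K hu (C.R_le_K (C.A2_le_R hs2)) (hord s hs2 hsA)
  set t' := g * s * g⁻¹ with ht'
  obtain ⟨hs4, hsz'⟩ := C.mem_K_iff.1 (C.R_le_K (C.A2_le_R hs2))
  have ht'4 : t' ∈ C.N4 := C.N4_spec.1.conj_mem s hs4 g
  have hct' : t' * c = c * t' := by
    calc t' * c = g * (s * c') * g⁻¹ := by rw [ht', hc']; group
      _ = g * (c' * s) * g⁻¹ := by rw [hcs]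
      _ = c * t' := by rw [ht', hc']; group
  obtain ⟨h, hh, hht⟩ := C.exists_N4_conj htz
  have hcK : h⁻¹ * c * h ∈ C.K := C.mem_K_iff.2 ⟨mul_mem (mul_mem (inv_mem hh) hc.1) hh, by
    calc h⁻¹ * c * h * z = h⁻¹ * (c * (h * z * h⁻¹)) * h := by group
      _ = h⁻¹ * ((h * z * h⁻¹) * c) * h := by rw [hht, hct]
      _ = z * (h⁻¹ * c * h) := by group⟩
  have hc1 : c ≠ 1 := fun h1 => C.z_ne_a (by simpa [h1] using hcza)
  haveI : Fact (Nat.Prime 3) := ⟨Nat.prime_three⟩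
  obtain ⟨k, hk, hkd⟩ := C.conj_three hcK (by
    rw [show h⁻¹ * c * h = h⁻¹ * c * h⁻¹⁻¹ by group, orderOf_conj_eq]
    exact orderOf_eq_prime h3 hc1)
  refine C.big_of (g := h * k) (y := t') (e := c) ?_ (mul_mem hh (C.K_le hk)) ht'4 hct'
    (hsz.trans (isConj_iff.2 ⟨g, rfl⟩)) ?_
  · rcases hkd with hkd | hkd
    · left; rw [show h * k * C.d * (h * k)⁻¹ = h * (k * C.d * k⁻¹) * h⁻¹ by group, hkd]; group
    · right; rw [show h * k * C.d⁻¹ * (h * k)⁻¹ = h * (k * C.d⁻¹ * k⁻¹) * h⁻¹ by group, hkd]; group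
  · intro hW
    have hW' : C.InW (h⁻¹ * t' * h) := by
      have := C.good_W (C.good_K hk) hW
      rwa [show k * ((h * k)⁻¹ * t' * (h * k)) * k⁻¹ = h⁻¹ * t' * h by group] at this
    obtain ⟨ht4, htzc⟩ := C.mem_K_iff.1 (C.R_le_K (C.A2_le_R ht2))
    have hzN : z ∈ C.N4 := C.K_le (C.A1_le_K (C.W_mem_A1 C.inW_z).1)
    have hzK : h⁻¹ * z * h ∈ C.K := C.mem_K_iff.2 ⟨mul_mem (mul_mem (inv_mem hh) hzN) hh, by
      calc h⁻¹ * z * h * z = h⁻¹ * (z * (h * z * h⁻¹)) * h := by group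
        _ = h⁻¹ * ((h * z * h⁻¹) * z) * h := by rw [hht, htzc]
        _ = z * (h⁻¹ * z * h) := by group⟩
    have h1 := C.K_comm_W hzK hW'
    have ht'K : t' ∈ C.K := C.mem_K_iff.2 ⟨ht'4, by
      calc t' * z = h * (h⁻¹ * t' * h * (h⁻¹ * z * h)) * h⁻¹ := by group
        _ = h * (h⁻¹ * z * h * (h⁻¹ * t' * h)) * h⁻¹ := by rw [h1]
        _ = z * t' := by group⟩
    have ht'u : t' * C.u = C.u * t' := by
      rw [ht', ← hgu]
      calc g * s * g⁻¹ * (g * z * g⁻¹) = g * (s * z) * g⁻¹ := by group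
        _ = g * (z * s) * g⁻¹ := by rw [hsz']
        _ = g * z * g⁻¹ * (g * s * g⁻¹) := by group
    have h2 := C.g_inv_A1 hg4 hgu
      ((C.A1_spec C.u_mem.1 C.u_mem.2.1 C.u_mem.2.2).2.2.2.1 t' ht'K ht'u)
    rw [ht', show g⁻¹ * (g * s * g⁻¹) * g = s by group] at h2
    exact hsA h2

theorem big : C.Big := by
  by_cases hu : IsConj z C.u
  · exact C.big_of_fused hu
  · exact C.big_of_unfused hu

end Ctx

end CfsgLib.AutLThreeFour70
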