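import Cfsg.Agent.AutLThreeFour70.Basic
import Cfsg.Agent.LocalEven50.Basic
import Cfsg.Agent.Small.Counting

/-!
# Fusion: `z` is conjugate to `a`, and this selects the candidate
-/

set_option autoImplicit false
set_option maxRecDepth 20000

namespace CfsgLib.AutLThreeFour70

open Subgroup

variable {G : Type*} [Group G]

/-- Conjugation by an element normalising `T` preserves centrality in `T`. -/
theorem cen_conj {T : Subgroup G} {x w : G} (hx : x ∈ normalizer (T : Set G))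
    (hc : ∀ y ∈ T, w * y = y * w) {y : G} (hy : y ∈ T) :
    x * w * x⁻¹ * y = y * (x * w * x⁻¹) := by
  have h := hc _ ((mem_normalizer_iff.1 (inv_mem hx) y).1 hy)
  rw [inv_inv] at h
  calc x * w * x⁻¹ * y = x * (w * (x⁻¹ * y * x)) * x⁻¹ := by group
    _ = x * ((x⁻¹ * y * x) * w) * x⁻¹ := by rw [h]
    _ = y * (x * w * x⁻¹) := by group

variable [Finite G] {z : G}

/-- If the normaliser of `T` in a two-group fixes `z`, the two-group is `T`. -/
theorem eq_of_fix {T P K : Subgroup G} {m : ℕ} (hP : IsPGroup 2 P) (hTP : T ≤ P) (hPK : P ≤ K)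
    (hTz : T ≤ centralizer ({z} : Set G)) (hm : Odd m)
    (hK : Nat.card ↥(K ⊓ centralizer ({z} : Set G)) = Nat.card T * m)
    (hfix : ∀ x ∈ P, x ∈ normalizer (T : Set G) → x * z * x⁻¹ = z) : P = T := by
  haveI : Fact (Nat.Prime 2) := ⟨Nat.prime_two⟩
  by_contra hne
  obtain ⟨x, hxP, hxN, hxT⟩ :=
    CfsgLib.LocalEven50.exists_mem_normalizer_not_mem hP hTP (Ne.symm hne)
  have hxz : x ∈ centralizer ({z} : Set G) :=
    mem_centralizer_singleton_iff.2 (mul_inv_eq_iff_eq_mul.1 (hfix x hxP hxN))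
  have hle : T ⊔ zpowers x ≤ K ⊓ centralizer ({z} : Set G) :=
    sup_le (le_inf (hTP.trans hPK) hTz) (le_inf (zpowers_le.2 (hPK hxP)) (zpowers_le.2 hxz))
  obtain ⟨e, he⟩ := (hP.to_le (sup_le hTP (zpowers_le.2 hxP))).exists_card_eq
  have hd := card_dvd_of_le hle
  rw [hK, he] at hd
  have h2 : 2 ^ e ∣ Nat.card T :=
    ((Nat.coprime_two_left.2 hm).pow_left e).dvd_of_dvd_mul_right hd
  have heq : T = T ⊔ zpowers x :=
    Subgroup.eq_of_le_of_card_ge le_sup_left (he ▸ Nat.le_of_dvd Nat.card_pos h2)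
  exact hxT (heq ▸ mem_sup_right (mem_zpowers x))

/-- A maximal two-subgroup of `K` bounds the two-part of `|K|`. -/
theorem dvd_of_max {T K : Subgroup G} (hT : IsPGroup 2 T) (hTK : T ≤ K)
    (hmax : ∀ P : Subgroup G, IsPGroup 2 P → T ≤ P → P ≤ K → P = T) {e : ℕ}
    (he : 2 ^ e ∣ Nat.card K) : 2 ^ e ∣ Nat.card T := by
  haveI : Fact (Nat.Prime 2) := ⟨Nat.prime_two⟩
  obtain ⟨Q, hQ⟩ := (hT.comap_subtype (K := K)).exists_le_sylow
  have hQT : (Q : Subgroup K).map K.subtype = T := hmax _ (Q.isPGroup'.map _)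
    (fun x hx => ⟨⟨x, hTK hx⟩, hQ (show (⟨x, hTK hx⟩ : K) ∈ T.comap K.subtype from hx), rfl⟩)
    (map_subtype_le _)
  have hc : Nat.card T = Nat.card Q := by
    rw [← hQT, card_map_of_injective K.subtype_injective]
  have hodd : Nat.Coprime (2 ^ e) (Q : Subgroup K).index :=
    (Nat.coprime_two_left.2 (Nat.odd_iff.2 (Nat.two_dvd_ne_zero.1 Q.not_dvd_index))).pow_left e
  rw [hc]
  exact hodd.dvd_of_dvd_mul_right (by rwa [Subgroup.card_mul_index])

omit [Finite G] in
theorem conj_sq {g x y : G} (h : x * x = y) : (g * x * g⁻¹) * (g * x * g⁻¹) = g * y * g⁻¹ := by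
  rw [← h]; group

namespace Model

variable {k : ℕ} (M : Model z k)

include M in
omit [Finite G] in
theorem cls {q : ℕ → Bool} (h : (List.range 4).all (fun j => q j) = true) : q k = true :=
  chk_range h M.hk

/-- The Sylow two-subgroup. -/
def S : Subgroup G := M.sub sMask (by
  have h := M.cls chk_S
  simp only [Bool.and_eq_true] at h
  exact h.1.1.1)

include M in
omit [Finite G] in
theorem card_S : Nat.card M.S = 256 := by
  have h := M.cls chk_S
  simp only [Bool.and_eq_true, Nat.beq_eq] at h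
  exact M.card_sub.trans h.1.1.2

omit [Finite G] in
theorem isPGroup_S : IsPGroup 2 M.S := IsPGroup.of_card (n := 8) (M.card_S.trans (by norm_num))

omit [Finite G] in
theorem z_mem_S : z ∈ M.S := by
  have h := M.cls chk_S
  simp only [Bool.and_eq_true] at h
  have := (M.mem_sub (show 16 < 768 by norm_num) (h := by exact h.1.1.1)).2 h.1.2
  rwa [M.z_eq] at this

include M in
omit [Finite G] in
theorem orderOf_z : orderOf z = 2 := by
  have h := M.cls chk_T1.2
  simp only [Bool.and_eq_true] at h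
  have h2 := (M.orderOf_eq_two_iff (show 16 < 768 by norm_num)).2 h.1.1.1.2
  rwa [M.z_eq] at h2

omit [Finite G] in
/-- A central involution of the Sylow subgroup is `z`. -/
theorem eq_z_of_central {w : G} (hw : w ∈ M.S) (hw2 : orderOf w = 2)
    (hc : ∀ y ∈ M.S, w * y = y * w) : w = z := by
  obtain ⟨n, hn, hs, rfl⟩ := hw
  have h := M.cls chk_S
  simp only [Bool.and_eq_true] at h
  have h2 := List.all_eq_true.1 h.2 n (mem_elems.2 ⟨hn, hs⟩)
  rw [M.isCen_of hn (h := h.1.1.1) hc] at h2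
  simp only [Bool.not_true, Bool.false_or, Bool.or_eq_true, Nat.beq_eq] at h2
  rcases h2 with rfl | rfl
  · rw [M.one, orderOf_one] at hw2; norm_num at hw2
  · exact M.z_eq

theorem eq_S_of_le {P : Subgroup G} (hP : IsPGroup 2 P) (hle : M.S ≤ P) : P = M.S := by
  refine eq_of_fix (z := z) (K := ⊤) (m := 3) hP hle le_top M.sub_le (by decide) ?_ ?_
  · rw [top_inf_eq, M.card_centralizer, M.card_S]
  · intro x _ hx
    refine M.eq_z_of_central ((mem_normalizer_iff.1 hx z).1 M.z_mem_S)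
      (by rw [CfsgLib.Small.orderOf_conj_eq]; exact M.orderOf_z) fun y hy => ?_
    exact cen_conj hx (fun v hv => (mem_cent.1 (M.sub_le hv)).symm) hy

/-- The Sylow two-subgroup, as such. -/
noncomputable def sylow : Sylow 2 G :=
  ⟨M.S, M.isPGroup_S, fun hQ hle => M.eq_S_of_le hQ hle⟩

include M in
theorem card_centralizer_of_isConj {x : G} (h : IsConj z x) :
    Nat.card (centralizer ({x} : Set G)) = 768 := by
  obtain ⟨g, rfl⟩ := isConj_iff.1 h
  have hmap : centralizer ({g * z * g⁻¹} : Set G) =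
      (centralizer ({z} : Set G)).map (MulAut.conj g).toMonoidHom := by
    ext y
    simp only [mem_map, MulEquiv.coe_toMonoidHom, MulAut.conj_apply, mem_centralizer_singleton_iff]
    constructor
    · intro hy
      refine ⟨g⁻¹ * y * g, ?_, by group⟩
      calc g⁻¹ * y * g * z = g⁻¹ * (y * (g * z * g⁻¹)) * g := by group
        _ = g⁻¹ * ((g * z * g⁻¹) * y) * g := by rw [hy]
        _ = z * (g⁻¹ * y * g) := by group
    · rintro ⟨v, hv, rfl⟩
      calc g * v * g⁻¹ * (g * z * g⁻¹) = g * (v * z) * g⁻¹ := by group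
        _ = g * (z * v) * g⁻¹ := by rw [hv]
        _ = g * z * g⁻¹ * (g * v * g⁻¹) := by group
  rw [hmap, card_map_of_injective (MulAut.conj g).injective, M.card_centralizer]

include M in
/-- An element whose centraliser has small two-part is not conjugate to `z`. -/
theorem not_isConj_of_max {x : G} {T : Subgroup G} (hT : IsPGroup 2 T)
    (hTK : T ≤ centralizer ({x} : Set G)) (hlt : Nat.card T < 256)
    (hmax : ∀ P : Subgroup G, IsPGroup 2 P → T ≤ P → P ≤ centralizer ({x} : Set G) → P = T) :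
    ¬ IsConj z x := by
  intro h
  have hd : 2 ^ 8 ∣ Nat.card (centralizer ({x} : Set G)) := by
    rw [M.card_centralizer_of_isConj h]; norm_num
  have := Nat.le_of_dvd Nat.card_pos (dvd_of_max hT hTK hmax hd)
  omega

omit [Finite G] in
theorem card_inf_centralizer {u : ℕ} (hu : u < 768) :
    Nat.card ↥(centralizer ({M.Φ u} : Set G) ⊓ centralizer ({z} : Set G)) =
      (sel fun n => com k n u).length :=
  M.card_eq _ ((centralizer ({M.Φ u} : Set G) ⊓ centralizer ({z} : Set G) : Subgroup G) : Set G)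
    (fun _ hx => mem_cent.1 hx.2) fun n hn => by
    rw [SetLike.mem_coe, mem_inf, mem_centralizer_singleton_iff, ← M.comm_iff hn hu]
    exact and_iff_left (M.Φ_mem hn)

omit [Finite G] in
theorem isPGroup_T {u : ℕ} (hg : grpOK k (tMask k u) = true) (hu : u ∈ repsA k ++ repsB k) :
    IsPGroup 2 (M.sub (tMask k u) hg) := by
  have key : (List.range 4).all (fun j => (repsA j ++ repsB j).all fun v =>
      Nat.beq (size (tMask j v)) 16 || Nat.beq (size (tMask j v)) 32) = true := by decide +kernel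
  have h := List.all_eq_true.1 (M.cls key) u hu
  simp only [Bool.or_eq_true, Nat.beq_eq] at h
  rcases h with h | h
  · exact M.isPGroup_sub (e := 4) h
  · exact M.isPGroup_sub (e := 5) h

theorem not_isConj_repsA {u : ℕ} (hu : u ∈ repsA k) : ¬ IsConj z (M.Φ u) := by
  have h := List.all_eq_true.1 (M.cls chk_repsA) u hu
  simp only [Bool.and_eq_true, Nat.blt_eq] at h
  obtain ⟨⟨⟨⟨⟨⟨⟨⟨hg, -⟩, hz⟩, hlt⟩, hsz⟩, hcard⟩, hsq⟩, hcen⟩, hel⟩ := h
  set T := M.sub (tMask k u) hg with hT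
  have hTu : T ≤ centralizer ({M.Φ u} : Set G) := by
    rintro _ ⟨n, hn, hs, rfl⟩
    have h1 := List.all_eq_true.1 hel n (mem_elems.2 ⟨hn, hs⟩)
    simp only [Bool.and_eq_true] at h1
    exact mem_centralizer_singleton_iff.2 ((M.comm_iff hn hlt).2 h1.1)
  have hTp : IsPGroup 2 T := M.isPGroup_T hg (List.mem_append_left _ hu)
  refine M.not_isConj_of_max hTp hTu (by rw [M.card_sub]; exact hsz) fun P hP hTP hPu => ?_
  obtain ⟨m, hm, hm'⟩ : ∃ m, Odd m ∧ (sel fun n => com k n u).length = size (tMask k u) * m := by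
    simp only [Bool.or_eq_true, Nat.beq_eq] at hcard
    rcases hcard with h' | h'
    · exact ⟨1, odd_one, by rw [h', mul_one]⟩
    · exact ⟨3, by decide, by rw [h', mul_comm]⟩
  refine eq_of_fix (z := z) hP hTP hPu M.sub_le hm
    (by rw [M.card_inf_centralizer hlt, M.card_sub, hm']) fun x _ hx => ?_
  obtain ⟨n, hn, hs, hnx⟩ := (mem_normalizer_iff.1 hx z).1
    (show z ∈ T by have := (M.mem_sub (h := hg) (show 16 < 768 by norm_num)).2 hz; rwa [M.z_eq] at this)
  rw [← hnx]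
  have h1 := List.all_eq_true.1 hel n (mem_elems.2 ⟨hn, hs⟩)
  simp only [Bool.and_eq_true] at h1
  have hi : isInv k n = true := (M.orderOf_eq_two_iff hn).1 (by
    rw [hnx, CfsgLib.Small.orderOf_conj_eq]; exact M.orderOf_z)
  have hc : isCen k (tMask k u) n = true := M.isCen_of hn (h := hg) fun y hy => by
    rw [hnx]
    exact cen_conj hx (fun v hv => (mem_cent.1 (M.sub_le hv)).symm) hy
  have hq : isSq k (tMask k u) n = true := by
    obtain ⟨y, hy, hyy⟩ := List.any_eq_true.1 hsq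
    obtain ⟨hy1, hy2⟩ := mem_elems.1 hy
    simp only [Nat.beq_eq] at hyy
    have hyz : M.Φ y * M.Φ y = z := by rw [← M.mul_eq y y hy1 hy1, hyy, M.z_eq]
    obtain ⟨v, hv, hvs, hvx⟩ := (mem_normalizer_iff.1 hx _).1 ((M.mem_sub (h := hg) hy1).2 hy2)
    refine List.any_eq_true.2 ⟨v, mem_elems.2 ⟨hv, hvs⟩, ?_⟩
    rw [Nat.beq_eq, ← M.eq_iff (mul_lt M.hk hv hv) hn, M.mul_eq v v hv hv, hvx, hnx, conj_sq hyz]
  simp only [hi, hc, hq, Bool.and_self, Bool.not_true, Bool.false_or, Nat.beq_eq] at h1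
  rw [h1.2, M.z_eq]

/-- `a`. -/
def a : G := M.Φ 1

omit [Finite G] in
theorem a_facts : M.Φ 17 = M.a * z ∧ orderOf M.a = 2 ∧ orderOf (M.a * z) = 2 ∧
    IsConj M.a (M.a * z) ∧ M.a * z = z * M.a := by
  have h := M.cls chk_T1.2
  simp only [Bool.and_eq_true, Nat.beq_eq] at h
  obtain ⟨⟨⟨⟨⟨⟨-, h1⟩, h17⟩, -⟩, e17⟩, -⟩, ecj⟩ := h
  have e : M.Φ 17 = M.a * z := by
    rw [← e17, M.mul_eq 1 16 (by norm_num) (by norm_num), M.z_eq]; rfl
  refine ⟨e, (M.orderOf_eq_two_iff (by norm_num)).2 h1, ?_, ?_, M.z_comm (by norm_num)⟩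
  · rw [← e]; exact (M.orderOf_eq_two_iff (by norm_num)).2 h17
  · refine isConj_iff.2 ⟨M.Φ 2, ?_⟩
    rw [← e, Model.a, ← M.map_cj (by norm_num) (by norm_num), ecj]

theorem not_isConj_repsB {u : ℕ} (hu : u ∈ repsB k) (ha : ¬ IsConj z M.a) :
    ¬ IsConj z (M.Φ u) := by
  intro hzu
  have h := List.all_eq_true.1 (M.cls chk_repsB) u hu
  simp only [Bool.and_eq_true, Nat.blt_eq, Nat.beq_eq] at h
  obtain ⟨⟨⟨⟨⟨⟨⟨⟨⟨⟨hg, -⟩, hz⟩, hlt⟩, hsz⟩, hcard⟩, h1⟩, h17⟩, hc1⟩, hc17⟩, hel⟩ := h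
  set T := M.sub (tMask k u) hg with hT
  have hTu : T ≤ centralizer ({M.Φ u} : Set G) := by
    rintro _ ⟨n, hn, hs, rfl⟩
    have h1 := List.all_eq_true.1 hel n (mem_elems.2 ⟨hn, hs⟩)
    simp only [Bool.and_eq_true] at h1
    exact mem_centralizer_singleton_iff.2 ((M.comm_iff hn hlt).2 h1.1)
  have haz : ¬ IsConj z (M.a * z) := fun h => ha (h.trans M.a_facts.2.2.2.1.symm)
  refine M.not_isConj_of_max (T := T) ?_ hTu (by rw [M.card_sub]; exact hsz)
    (fun P hP hTP hPu => ?_) hzu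
  · exact M.isPGroup_T hg (List.mem_append_right _ hu)
  refine eq_of_fix (z := z) (m := 1) hP hTP hPu M.sub_le odd_one
    (by rw [M.card_inf_centralizer hlt, M.card_sub, hcard, mul_one]) fun x _ hx => ?_
  have key : ∀ w, w = 1 ∨ w = 17 → (x * M.Φ w * x⁻¹ = M.a ∨ x * M.Φ w * x⁻¹ = M.a * z) := by
    intro w hw
    have hw768 : w < 768 := by omega
    obtain ⟨n, hn, hs, hnx⟩ := (mem_normalizer_iff.1 hx _).1
      ((M.mem_sub (h := hg) hw768).2 (by rcases hw with rfl | rfl <;> assumption))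
    have hord : orderOf (M.Φ w) = 2 := by
      rcases hw with rfl | rfl
      · exact M.a_facts.2.1
      · rw [M.a_facts.1]; exact M.a_facts.2.2.1
    have hi : isInv k n = true := (M.orderOf_eq_two_iff hn).1 (by
      rw [hnx, CfsgLib.Small.orderOf_conj_eq, hord])
    have hcs : cSize k (tMask k u) n = 16 := by
      have e : ∀ v, v < 768 → Nat.card {y : G | y ∈ T ∧ y * M.Φ v = M.Φ v * y} =
          cSize k (tMask k u) v := fun v hv => M.card_eq _ _
        (fun y hy => mem_cent.1 (M.sub_le hy.1)) fun m hm => by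
          rw [Set.mem_setOf_eq, M.mem_sub hm, M.comm_iff hm hv]
          show _ ↔ (Nat.testBit (tMask k u) m && com k v m) = true
          rw [Bool.and_eq_true, com, com, Nat.beq_eq, Nat.beq_eq]
          exact and_congr_right fun _ => eq_comm
      rw [← e n hn, hnx, show (16 : ℕ) = cSize k (tMask k u) w by
        rcases hw with rfl | rfl <;> omega, ← e w hw768]
      refine (Nat.card_congr ⟨fun y => ⟨x * y.1 * x⁻¹, (mem_normalizer_iff.1 hx _).1 y.2.1, ?fwd⟩,
        fun y => ⟨x⁻¹ * y.1 * x, (mem_normalizer_iff.1 hx _).2 (by simpa [mul_assoc] using y.2.1), ?bwd⟩,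
        fun y => ?li, fun y => ?ri⟩).symm
      case fwd =>
        have := y.2.2
        calc x * y.1 * x⁻¹ * (x * M.Φ w * x⁻¹) = x * (y.1 * M.Φ w) * x⁻¹ := by group
          _ = x * (M.Φ w * y.1) * x⁻¹ := by rw [this]
          _ = x * M.Φ w * x⁻¹ * (x * y.1 * x⁻¹) := by group
      case bwd =>
        have := y.2.2
        calc x⁻¹ * y.1 * x * M.Φ w = x⁻¹ * (y.1 * (x * M.Φ w * x⁻¹)) * x := by group
          _ = x⁻¹ * ((x * M.Φ w * x⁻¹) * y.1) * x := by rw [this]
          _ = M.Φ w * (x⁻¹ * y.1 * x) := by group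
      case li => exact Subtype.ext (show x⁻¹ * (x * y.1 * x⁻¹) * x = y.1 by group)
      case ri => exact Subtype.ext (show x * (x⁻¹ * y.1 * x) * x⁻¹ = y.1 by group)
    have hnc : ¬ IsConj z (M.Φ n) := fun hh => by
      have hh2 : IsConj z (M.Φ w) := hh.trans (isConj_iff.2 ⟨x⁻¹, by rw [hnx]; group⟩)
      rcases hw with rfl | rfl
      · exact ha hh2
      · exact haz (M.a_facts.1 ▸ hh2)
    have h' := List.all_eq_true.1 hel n (mem_elems.2 ⟨hn, hs⟩)
    simp only [Bool.and_eq_true, Bool.or_eq_true, Bool.not_eq_true', ← Bool.not_eq_true,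
      Nat.beq_eq] at h'
    rcases h'.2 with (h' | h') | h'
    · exact absurd hcs (fun hh => (by simpa using h' : isInv k n = true → ¬ cSize k (tMask k u) n = 16) hi hh)
    · rcases isW_iff.1 h' with rfl | rfl | rfl | rfl
      · simp [isInv] at hi
      · exact absurd (M.z_eq.symm ▸ IsConj.refl z) hnc
      · exact Or.inl hnx.symm
      · exact Or.inr (hnx.symm.trans M.a_facts.1)
    · obtain ⟨c, -, hcu⟩ := M.isConj_of_isCj hlt h'
      exact absurd (hzu.trans (isConj_iff.2 ⟨c, hcu⟩)) hnc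
  have ha2 : M.a * M.a = 1 := by
    have := pow_orderOf_eq_one M.a; rwa [M.a_facts.2.1, pow_two] at this
  have hza : z = M.Φ 1 * M.Φ 17 := by
    rw [M.a_facts.1, ← mul_assoc, show M.Φ 1 = M.a from rfl, ha2, one_mul]
  have hne : x * M.Φ 1 * x⁻¹ ≠ x * M.Φ 17 * x⁻¹ := fun h =>
    absurd (M.inj 1 17 (by norm_num) (by norm_num) (mul_left_cancel (mul_right_cancel h))) (by norm_num)
  have e : x * z * x⁻¹ = (x * M.Φ 1 * x⁻¹) * (x * M.Φ 17 * x⁻¹) := by
    calc x * z * x⁻¹ = x * (M.Φ 1 * M.Φ 17) * x⁻¹ := by rw [← hza]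
      _ = _ := by group
  have hz2 : M.a * z * M.a = z := by rw [M.a_facts.2.2.2.2, mul_assoc, ha2, mul_one]
  rcases key 1 (Or.inl rfl) with h1 | h1 <;> rcases key 17 (Or.inr rfl) with h2 | h2 <;>
    rw [h1, h2] at hne e
  · exact absurd rfl hne
  · rw [e, ← mul_assoc, ha2, one_mul]
  · rw [e, hz2]
  · exact absurd rfl hne

/-- A fused `z` is conjugate to `a`. -/
theorem isConj_a (hni : ∃ g : G, g * z * g⁻¹ ≠ z ∧ g * z * g⁻¹ * z = z * (g * z * g⁻¹)) :
    IsConj z M.a := by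
  by_contra ha
  obtain ⟨g, hne, hcom⟩ := hni
  obtain ⟨n, hn, hnx⟩ := M.mem_range _ hcom
  have hzn : IsConj z (M.Φ n) := hnx ▸ isConj_iff.2 ⟨g, rfl⟩
  have hi : isInv k n = true := (M.orderOf_eq_two_iff hn).1 (by
    rw [hnx, CfsgLib.Small.orderOf_conj_eq]; exact M.orderOf_z)
  have h := chk_all (M.cls chk_classes) hn
  simp only [hi, Bool.not_true, Bool.false_or, Bool.or_eq_true, List.any_eq_true,
    List.mem_append] at h
  rcases h with h | ⟨u, hu, hun⟩
  · rcases isW_iff.1 h with rfl | rfl | rfl | rfl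
    · simp [isInv] at hi
    · exact hne (hnx.symm.trans M.z_eq)
    · exact ha hzn
    · rw [M.a_facts.1] at hzn; exact ha (hzn.trans M.a_facts.2.2.2.1.symm)
  · have hu768 : u < 768 := by
      rcases hu with hu | hu
      · have := List.all_eq_true.1 (M.cls chk_repsA) u hu
        simp only [Bool.and_eq_true, Nat.blt_eq] at this
        exact this.1.1.1.1.1.2
      · have := List.all_eq_true.1 (M.cls chk_repsB) u hu
        simp only [Bool.and_eq_true, Nat.blt_eq] at this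
        exact this.1.1.1.1.1.1.1.2
    obtain ⟨c, -, hcu⟩ := M.isConj_of_isCj hu768 hun
    have hzu : IsConj z (M.Φ u) := hzn.trans (isConj_iff.2 ⟨c, hcu⟩).symm
    rcases hu with hu | hu
    · exact M.not_isConj_repsA hu hzu
    · exact M.not_isConj_repsB hu ha hzu

/-- An element fixing `a` and moving `z` to `az`. -/
theorem exists_swap (ha : IsConj z M.a) :
    ∃ x : G, x * M.a * x⁻¹ = M.a ∧ x * z * x⁻¹ = M.a * z ∧ x * (M.a * z) * x⁻¹ = z := by
  haveI : Fact (Nat.Prime 2) := ⟨Nat.prime_two⟩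
  have h := M.cls chk_T1.1
  simp only [Bool.and_eq_true, Nat.beq_eq] at h
  obtain ⟨⟨⟨hg, hsz⟩, h384⟩, hel⟩ := h
  have h' := M.cls chk_T1.2
  simp only [Bool.and_eq_true, Nat.beq_eq] at h'
  obtain ⟨⟨⟨⟨⟨⟨⟨⟨⟨t1, t16⟩, c1⟩, c16⟩, -⟩, -⟩, -⟩, -⟩, -⟩, -⟩ := h'
  set T := M.sub t1Mask hg with hT
  have hTa : T ≤ centralizer ({M.a} : Set G) := by
    rintro _ ⟨n, hn, hs, rfl⟩
    have h1 := List.all_eq_true.1 hel n (mem_elems.2 ⟨hn, hs⟩)
    simp only [Bool.and_eq_true] at h1
    exact mem_centralizer_singleton_iff.2 ((M.comm_iff hn (by norm_num)).2 h1.1)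
  have hzT : z ∈ T := by
    have := (M.mem_sub (h := hg) (show 16 < 768 by norm_num)).2 t16; rwa [M.z_eq] at this
  by_contra hno
  simp only [not_exists, not_and] at hno
  have hmax : ∀ P : Subgroup G, IsPGroup 2 P → T ≤ P → P ≤ centralizer ({M.a} : Set G) → P = T := by
    intro P hP hTP hPa
    refine eq_of_fix (z := z) (m := 3) hP hTP hPa M.sub_le (by decide) ?_ fun x hxP hx => ?_
    · show Nat.card ↥(centralizer ({M.Φ 1} : Set G) ⊓ centralizer ({z} : Set G)) = _
      rw [M.card_inf_centralizer (by norm_num), M.card_sub, hsz, h384]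
    have hxa : x * M.a * x⁻¹ = M.a :=
      mul_inv_eq_iff_eq_mul.2 (mem_centralizer_singleton_iff.1 (hPa hxP))
    obtain ⟨n, hn, hs, hnx⟩ := (mem_normalizer_iff.1 hx z).1 hzT
    have h1 := List.all_eq_true.1 hel n (mem_elems.2 ⟨hn, hs⟩)
    have hi : isInv k n = true := (M.orderOf_eq_two_iff hn).1 (by
      rw [hnx, CfsgLib.Small.orderOf_conj_eq]; exact M.orderOf_z)
    have hc : isCen k t1Mask n = true := M.isCen_of hn (h := hg) fun y hy => by
      rw [hnx]; exact cen_conj hx (fun v hv => (mem_cent.1 (M.sub_le hv)).symm) hy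
    simp only [hi, hc, Bool.and_self, Bool.not_true, Bool.false_or, Bool.and_eq_true] at h1
    rcases isW_iff.1 h1.2 with rfl | rfl | rfl | rfl
    · simp [isInv] at hi
    · exact hnx.symm.trans M.z_eq
    · have e : x * M.a * x⁻¹ = x * z * x⁻¹ := hxa.trans hnx
      exact absurd ((mul_left_cancel (mul_right_cancel e)).trans M.z_eq.symm) fun e1 =>
        absurd (M.inj 1 16 (by norm_num) (by norm_num) e1) (by norm_num)
    · have e1 : x * z * x⁻¹ = M.a * z := hnx.symm.trans M.a_facts.1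
      have e2 : x * (M.a * z) * x⁻¹ = z := by
        calc x * (M.a * z) * x⁻¹ = (x * M.a * x⁻¹) * (x * z * x⁻¹) := by group
          _ = z := by
            have := pow_orderOf_eq_one M.a
            rw [M.a_facts.2.1, pow_two] at this
            rw [hxa, e1, ← mul_assoc, this, one_mul]
      exact absurd e2 (hno x hxa e1)
  have h256 : 2 ^ 8 ∣ Nat.card (centralizer ({M.a} : Set G)) := by
    rw [M.card_centralizer_of_isConj ha]; norm_num
  have hTp : IsPGroup 2 T := M.isPGroup_sub (e := 7) (by rw [hsz]; norm_num)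
  have := Nat.le_of_dvd Nat.card_pos (dvd_of_max hTp hTa hmax h256)
  rw [M.card_sub, hsz] at this
  norm_num at this

/-- Only the split candidate allows the fusion of `z` with `a`. -/
theorem k_eq_zero (ha : IsConj z M.a) : k = 0 := by
  by_contra hk
  have h := M.cls chk_squares
  simp only [Bool.or_eq_true, Nat.beq_eq, hk, false_or, Bool.not_eq_true', ← Bool.not_eq_true] at h
  refine h ?_
  obtain ⟨x, hxa, hxz, hxaz⟩ := M.exists_swap ha
  have hcj := M.cls chk_T1.2
  simp only [Bool.and_eq_true, Nat.beq_eq] at hcj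
  -- `b x` maps `z, a, az` to `a, az, z`
  set b := M.Φ 2 with hb
  have hba : b * M.a * b⁻¹ = M.a * z := by
    rw [hb, Model.a, ← M.map_cj (by norm_num) (by norm_num), hcj.2, M.a_facts.1]; rfl
  have hbz : b * z * b⁻¹ = z := mul_inv_eq_iff_eq_mul.2 (M.z_comm (by norm_num))
  have hbaz : b * (M.a * z) * b⁻¹ = M.a := by
    have hzz : z * z = 1 := by
      have := pow_orderOf_eq_one z; rwa [M.orderOf_z, pow_two] at this
    calc b * (M.a * z) * b⁻¹ = (b * M.a * b⁻¹) * (b * z * b⁻¹) := by group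
      _ = M.a := by rw [hba, hbz, mul_assoc, hzz, mul_one]
  set y := b * x with hy
  have y1 : y * z * y⁻¹ = M.a := by
    rw [hy, show b * x * z * (b * x)⁻¹ = b * (x * z * x⁻¹) * b⁻¹ by group, hxz, hbaz]
  have y2 : y * M.a * y⁻¹ = M.a * z := by
    rw [hy, show b * x * M.a * (b * x)⁻¹ = b * (x * M.a * x⁻¹) * b⁻¹ by group, hxa, hba]
  have y3 : y * (M.a * z) * y⁻¹ = z := by
    rw [hy, show b * x * (M.a * z) * (b * x)⁻¹ = b * (x * (M.a * z) * x⁻¹) * b⁻¹ by group, hxaz,
      hbz]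
  have hC : ∀ g : G, (g * z = z * g ∧ g * M.a = M.a * g) ↔
      (y * g * y⁻¹) * z = z * (y * g * y⁻¹) ∧ (y * g * y⁻¹) * M.a = M.a * (y * g * y⁻¹) := by
    intro g
    have e : ∀ v w : G, y * v * y⁻¹ = w →
        (g * v = v * g ↔ (y * g * y⁻¹) * w = w * (y * g * y⁻¹)) := by
      rintro v _ rfl
      constructor <;> intro h
      · calc y * g * y⁻¹ * (y * v * y⁻¹) = y * (g * v) * y⁻¹ := by group
          _ = y * (v * g) * y⁻¹ := by rw [h]
          _ = y * v * y⁻¹ * (y * g * y⁻¹) := by group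
      · calc g * v = y⁻¹ * (y * g * y⁻¹ * (y * v * y⁻¹)) * y := by group
          _ = y⁻¹ * (y * v * y⁻¹ * (y * g * y⁻¹)) * y := by rw [h]
          _ = v * g := by group
    constructor
    · rintro ⟨h1, h2⟩
      refine ⟨(e _ _ y3).1 ?_, (e _ _ y1).1 h1⟩
      rw [← mul_assoc, h2, mul_assoc, h1, ← mul_assoc]
    · rintro ⟨h1, h2⟩
      have g3 := (e _ _ y3).2 h1
      have g1 := (e _ _ y1).2 h2
      refine ⟨g1, mul_right_cancel (b := z) ?_⟩
      rw [mul_assoc g, g3, mul_assoc M.a z g, ← g1, mul_assoc M.a g z]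
  have cnt : ∀ w, w < 768 → (sel fun n => com k n 1 && Nat.beq (mul k n n) w).length =
      Nat.card {g : G | (g * z = z * g ∧ g * M.a = M.a * g) ∧ g * g = M.Φ w} := fun w hw =>
    (M.card_eq _ _ (fun g hg => hg.1.1) fun n hn => by
      rw [Set.mem_setOf_eq, Bool.and_eq_true, Nat.beq_eq, Model.a,
        M.comm_iff hn (show 1 < 768 by norm_num), ← M.mul_eq n n hn hn,
        M.eq_iff (mul_lt M.hk hn hn) hw]
      exact ⟨fun h => ⟨h.1.2, h.2⟩, fun h => ⟨⟨M.z_comm hn, h.1⟩, h.2⟩⟩).symm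
  rw [cnt 16 (by norm_num), cnt 1 (by norm_num)]
  refine Nat.card_congr ⟨fun g => ⟨y * g.1 * y⁻¹, (hC _).1 g.2.1, ?_⟩,
    fun g => ⟨y⁻¹ * g.1 * y, (hC _).2 (by simpa [mul_assoc] using g.2.1), ?_⟩,
    fun g => Subtype.ext (by simp [mul_assoc]), fun g => Subtype.ext (by simp [mul_assoc])⟩
  · rw [conj_sq g.2.2, M.z_eq, y1]; rfl
  · rw [M.z_eq, ← mul_left_cancel_iff (a := y), ← mul_right_cancel_iff (a := y⁻¹), y1]
    rw [show y * (y⁻¹ * g.1 * y * (y⁻¹ * g.1 * y)) * y⁻¹ = g.1 * g.1 by group, g.2.2]; rfl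

end Model

end CfsgLib.AutLThreeFour70
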