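import Cfsg.Agent.AutLThreeFour70.Fused
import Cfsg.Agent.ZStar.Theorem
import Mathlib.GroupTheory.Transfer

/-!
# A homomorphism of order three on the subgroup of index four
-/

set_option autoImplicit false
set_option maxRecDepth 20000

namespace CfsgLib.AutLThreeFour70

open Subgroup
open CfsgLib.Small (orderOf_conj_eq)

namespace Ctx

variable {G : Type*} [Group G] [Finite G] {z : G} (C : Ctx z)

theorem b_sq : C.b * C.b = 1 := by
  rw [b, ← C.M.mul_eq 11 11 (by norm_num) (by norm_num), show mul 0 11 11 = 0 by decide +kernel,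
    C.M.one]

theorem d_comm_b : C.d * C.b = C.b * C.d :=
  ((C.M.comm_iff (show 11 < 768 by norm_num) (show 64 < 768 by norm_num)).2
    chk_d.2.2.2.2.2.2.2.1).symm

theorem b_comm_z : C.b * z = z * C.b := C.M.z_comm (show 11 < 768 by norm_num)

theorem cj_a_b : C.M.a * C.b * C.M.a⁻¹ = C.M.Φ 27 := by
  have h := C.M.map_cj (show 1 < 768 by norm_num) (show 11 < 768 by norm_num)
  rw [chk_d.2.2.2.2.2.2.1] at h
  exact h.symm

theorem b_a : C.b * C.M.a * C.b⁻¹ = C.M.a * z := by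
  have h := C.M.map_cj (show 11 < 768 by norm_num) (show 1 < 768 by norm_num)
  rw [chk_d.2.2.2.2.2.2.2.2.2.2, C.M.a_facts.1] at h
  exact h.symm

theorem b_not_mem : C.b ∉ C.N4 := fun h => by
  rw [b, C.mem_N4_iff (show 11 < 768 by norm_num), chk_d.2.2.2.2.2.2.2.2.1] at h
  exact Bool.noConfusion h

/-- The code of an element of `K`. -/
noncomputable def code (x : C.K) : ℕ :=
  Exists.choose (show ∃ n, n < 768 ∧ Nat.testBit kMask n = true ∧ C.M.Φ n = x from x.2)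

theorem code_spec (x : C.K) :
    C.code x < 768 ∧ Nat.testBit kMask (C.code x) = true ∧ C.M.Φ (C.code x) = x :=
  Exists.choose_spec (show ∃ n, n < 768 ∧ Nat.testBit kMask n = true ∧ C.M.Φ n = x from x.2)

/-- The character of order three of `K`. -/
noncomputable def chiK : C.K →* Multiplicative (ZMod 3) :=
  MonoidHom.mk' (fun x => Multiplicative.ofAdd (chiQ (C.code x / 32) : ZMod 3)) fun x y => by
    obtain ⟨hx, hxk, hxe⟩ := C.code_spec x
    obtain ⟨hy, hyk, hye⟩ := C.code_spec y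
    obtain ⟨hxy, -, hxye⟩ := C.code_spec (x * y)
    have hcode : C.code (x * y) = mul 0 (C.code x) (C.code y) := C.M.inj _ _ hxy
      (mul_lt C.M.hk hx hy) (by rw [C.M.mul_eq _ _ hx hy, hxye, hxe, hye]; rfl)
    have h := List.all_eq_true.1 chk_U.2.1 _ (mem_elems.2 ⟨hx, hxk⟩)
    simp only [Bool.and_eq_true] at h
    have h2 := List.all_eq_true.1 h.2 _ (mem_elems.2 ⟨hy, hyk⟩)
    rw [Nat.beq_eq] at h2
    show Multiplicative.ofAdd ((chiQ (C.code (x * y) / 32) : ℕ) : ZMod 3) =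
      Multiplicative.ofAdd ((chiQ (C.code x / 32) : ℕ) : ZMod 3) *
        Multiplicative.ofAdd ((chiQ (C.code y / 32) : ℕ) : ZMod 3)
    rw [hcode, h2, ← ofAdd_add, ← Nat.cast_add, ZMod.natCast_mod]

theorem chiK_d : C.chiK ⟨C.d, C.d_mem_K⟩ = Multiplicative.ofAdd (1 : ZMod 3) := by
  obtain ⟨h, -, he⟩ := C.code_spec ⟨C.d, C.d_mem_K⟩
  show Multiplicative.ofAdd ((chiQ (C.code ⟨C.d, C.d_mem_K⟩ / 32) : ℕ) : ZMod 3) = _
  rw [C.M.inj _ 64 h (by norm_num) (he.trans rfl), chk_U.2.2, Nat.cast_one]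

/-- The centraliser of `d` in `N4`. -/
noncomputable def Cd : Subgroup G := C.N4 ⊓ centralizer ({C.d} : Set G)

theorem mem_Cd {x : G} : x ∈ C.Cd ↔ x ∈ C.N4 ∧ x * C.d = C.d * x := by
  rw [Cd, mem_inf, mem_centralizer_singleton_iff]

/-- The centraliser of `b` in `N4`. -/
noncomputable def U : Subgroup G := C.N4 ⊓ centralizer ({C.b} : Set G)

theorem mem_U {x : G} : x ∈ C.U ↔ x ∈ C.N4 ∧ x * C.b = C.b * x := by
  rw [U, mem_inf, mem_centralizer_singleton_iff]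

theorem eq_z_of_U {y : G} (hy : y ∈ C.U) (hyz : y * z = z * y) (h2 : orderOf y = 2) : y = z := by
  obtain ⟨h4, hb⟩ := C.mem_U.1 hy
  obtain ⟨n, hn, hs, rfl⟩ := C.mem_K_iff.2 ⟨h4, hyz⟩
  have h := List.all_eq_true.1 chk_U.1 n (mem_elems.2 ⟨hn, hs⟩)
  simp only [(C.M.comm_iff hn (show 11 < 768 by norm_num)).1 hb,
    (C.M.orderOf_eq_two_iff hn).1 h2, Bool.not_true, Bool.false_or, Bool.and_eq_true,
    Nat.beq_eq] at h
  rw [h.1, C.M.z_eq]

theorem inW_mem_Cd {w : G} (hw : C.InW w) : w ∈ C.Cd :=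
  C.mem_Cd.2 ⟨C.K_le (C.A1_le_K (C.W_mem_A1 hw).1), (C.K_comm_W C.d_mem_K hw).symm⟩

theorem d_mem_U : C.d ∈ C.U := C.mem_U.2 ⟨C.K_le C.d_mem_K, C.d_comm_b⟩

theorem z_mem_U : z ∈ C.U :=
  C.mem_U.2 ⟨C.K_le (C.A1_le_K (C.W_mem_A1 C.inW_z).1), C.b_comm_z.symm⟩

theorem exists_chiU : ∃ f : C.U →* Multiplicative (ZMod 3),
    f ⟨C.d, C.d_mem_U⟩ = Multiplicative.ofAdd (1 : ZMod 3) := by
  haveI : Fact (Nat.Prime 2) := ⟨Nat.prime_two⟩
  set zU : C.U := ⟨z, C.z_mem_U⟩ with hzU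
  have hz2 : orderOf zU = 2 := by rw [hzU, orderOf_mk]; exact C.M.orderOf_z
  obtain ⟨P, hP⟩ := (IsPGroup.of_card (p := 2) (n := 1)
    (show Nat.card (zpowers zU) = 2 ^ 1 by rw [Nat.card_zpowers, hz2, pow_one])).exists_le_sylow
  have hzP : zU ∈ P := hP (mem_zpowers zU)
  haveI : Nontrivial (P : Subgroup C.U) :=
    ⟨⟨⟨zU, hzP⟩, 1, fun h => by
      have := congrArg (fun v : (P : Subgroup C.U) => (v : C.U)) h
      simp only [OneMemClass.coe_one] at this
      rw [this, orderOf_one] at hz2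
      norm_num at hz2⟩⟩
  haveI := P.isPGroup'.center_nontrivial
  obtain ⟨e, he⟩ := IsPGroup.exists_card_eq (P.isPGroup'.to_subgroup (center (P : Subgroup C.U)))
  have he0 : e ≠ 0 := fun h0 => by
    subst h0
    rw [pow_zero] at he
    exact (Finite.one_lt_card (α := center (P : Subgroup C.U))).ne' he
  obtain ⟨w, hw⟩ := exists_prime_orderOf_dvd_card' 2
    (show 2 ∣ Nat.card (center (P : Subgroup C.U)) from he ▸ dvd_pow_self 2 he0)
  set wU : C.U := ((w : (P : Subgroup C.U)) : C.U) with hwU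
  have hwz : wU * zU = zU * wU :=
    congrArg Subtype.val (mem_center_iff.1 w.2 ⟨zU, hzP⟩).symm
  have hwe : wU = zU := Subtype.ext (C.eq_z_of_U wU.2 (congrArg Subtype.val hwz)
    (by rw [orderOf_coe, hwU, orderOf_coe, orderOf_coe, hw]))
  have hiso : ∀ g : C.U, g * zU * g⁻¹ ∈ P → g * zU * g⁻¹ = zU := by
    intro g hg
    have hc : g * zU * g⁻¹ * zU = zU * (g * zU * g⁻¹) := by
      have := congrArg Subtype.val (mem_center_iff.1 w.2 ⟨_, hg⟩)
      simp only [Subgroup.coe_mul] at this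
      rw [← hwU, hwe] at this
      exact this
    exact Subtype.ext (C.eq_z_of_U (g * zU * g⁻¹).2 (congrArg Subtype.val hc)
      (by rw [orderOf_coe, orderOf_conj_eq, hz2]))
  obtain ⟨N, hN, hodd, hcomm⟩ := CfsgLib.ZStar.exists_oddNormal_of_sylow P hz2 hzP hiso
  set Cz : Subgroup C.U := centralizer ({zU} : Set C.U) with hCz
  have hK : ∀ x : Cz, ((x : C.U) : G) ∈ C.K := fun x => C.mem_K_iff.2
    ⟨(C.mem_U.1 (x : C.U).2).1, congrArg Subtype.val (mem_centralizer_singleton_iff.1 x.2)⟩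
  let ψ : Cz →* C.U ⧸ N := (QuotientGroup.mk' N).comp Cz.subtype
  have h4 : ∀ v : C.U, v ∈ N → v ^ 4 = 1 → v = 1 := fun v hv h => by
    have h1 : orderOf v ∣ Nat.card N := by
      rw [← orderOf_mk v hv]; exact orderOf_dvd_natCard _
    have h2 := orderOf_dvd_of_pow_eq_one h
    have hcop : Nat.Coprime 4 (Nat.card N) :=
      (Nat.coprime_two_left.2 hodd).pow_left 2
    exact orderOf_eq_one_iff.1 (Nat.eq_one_of_dvd_coprimes hcop h2 h1)
  have hinj : Function.Injective ψ := by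
    refine (injective_iff_map_eq_one ψ).2 fun x hx => ?_
    have hxN : (x : C.U) ∈ N := (QuotientGroup.eq_one_iff _).1 hx
    obtain ⟨n, hn, hs, hnx⟩ := hK x
    have hb := (C.mem_U.1 (x : C.U).2).2
    rw [← hnx] at hb
    have h := List.all_eq_true.1 chk_U.1 n (mem_elems.2 ⟨hn, hs⟩)
    simp only [(C.M.comm_iff hn (show 11 < 768 by norm_num)).1 hb, Bool.not_true, Bool.false_or,
      Bool.and_eq_true, Bool.or_eq_true, List.any_eq_true, Nat.beq_eq, Bool.not_eq_true'] at h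
    have hR : ∀ m, m < 768 → isR m = true → C.M.Φ m ^ 4 = 1 := fun m hm hmR => by
      have h2 := mul_lt C.M.hk hm hm
      rw [isR, Nat.beq_eq] at hmR
      rw [show (4 : ℕ) = 2 * 2 from rfl, pow_mul, pow_two, pow_two, ← C.M.mul_eq _ _ hm hm,
        ← C.M.mul_eq _ _ h2 h2, hmR, C.M.one]
    refine Subtype.ext ?_
    rcases h.2 with (h0 | h0) | ⟨y, hy, ⟨hyb, hy0⟩, hyR⟩
    · exact Subtype.ext (by rw [← hnx, h0]; exact C.M.one)
    · exact h4 _ hxN (Subtype.ext (by rw [SubmonoidClass.coe_pow, ← hnx, hR n hn h0]; rfl))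
    · exfalso
      obtain ⟨hy1, hy2⟩ := mem_elems.1 hy
      have hyU : C.M.Φ y ∈ C.U := C.mem_U.2
        ⟨(C.mem_N4_iff hy1).2 hy2, (C.M.comm_iff hy1 (show 11 < 768 by norm_num)).2 hyb⟩
      have hl := mul_lt C.M.hk (mul_lt C.M.hk hn hy1) (inv_lt C.M.hk (mul_lt C.M.hk hy1 hn))
      set c : C.U := (x : C.U) * (⟨_, hyU⟩ * (x : C.U)⁻¹ * ⟨_, hyU⟩⁻¹) with hc
      have hcN : c ∈ N := mul_mem hxN (hN.conj_mem _ (inv_mem hxN) _)
      have hce : (c : G) = C.M.Φ (comm n y) := by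
        rw [comm, C.M.mul_eq _ _ (mul_lt C.M.hk hn hy1) (inv_lt C.M.hk (mul_lt C.M.hk hy1 hn)),
          C.M.map_inv (mul_lt C.M.hk hy1 hn), C.M.mul_eq _ _ hn hy1, C.M.mul_eq _ _ hy1 hn, hnx]
        simp [hc, mul_assoc]
      have h1 := h4 c hcN (Subtype.ext (by rw [SubmonoidClass.coe_pow, hce, hR (comm n y) hl hyR]; rfl))
      rw [h1] at hce
      have := (C.M.eq_one_iff hl).1 hce.symm
      rw [← Bool.not_eq_true, Nat.beq_eq] at hy0
      exact hy0 this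
  have hsurj : Function.Surjective ψ := by
    intro q
    induction q using QuotientGroup.induction_on with
    | H g =>
      obtain ⟨v, hv, hvz⟩ := exists_mul_centralizer (U := (⊤ : Subgroup C.U)) (w := zU)
        (Subtype.ext C.z_sq) hodd (fun g _ => hcomm g) (mem_top g)
      refine ⟨⟨v⁻¹ * g, mem_centralizer_singleton_iff.2 hvz.symm⟩, ?_⟩
      show QuotientGroup.mk (v⁻¹ * g) = QuotientGroup.mk g
      rw [QuotientGroup.eq, show (v⁻¹ * g)⁻¹ * g = g⁻¹ * v * g by group]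
      simpa using hN.conj_mem v hv g⁻¹
  let e := MulEquiv.ofBijective ψ ⟨hinj, hsurj⟩
  let incl : Cz →* C.K := (C.U.subtype.comp Cz.subtype).codRestrict C.K hK
  refine ⟨C.chiK.comp (incl.comp (e.symm.toMonoidHom.comp (QuotientGroup.mk' N))), ?_⟩
  have hd : (⟨C.d, C.d_mem_U⟩ : C.U) ∈ Cz := mem_centralizer_singleton_iff.2
    (Subtype.ext (C.mem_K_iff.1 C.d_mem_K).2)
  have he' : e.symm (QuotientGroup.mk' N ⟨C.d, C.d_mem_U⟩) = ⟨_, hd⟩ :=
    e.symm_apply_eq.2 rfl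
  show C.chiK (incl (e.symm (QuotientGroup.mk' N ⟨C.d, C.d_mem_U⟩))) = _
  rw [he']
  exact C.chiK_d

/-- An element commuting with `d` and one of `z, a, az` is coded. -/
theorem card_Cd_centralizer {w : G} (hw : C.InW w) (hwd : w ∈ C.Cd) :
    Nat.card (centralizer ({⟨w, hwd⟩} : Set C.Cd)) = 12 := by
  have h := chk_d.1
  rw [Nat.beq_eq] at h
  rw [← h, ← card_map_of_injective C.Cd.subtype_injective]
  refine C.M.card_eq _ _ ?_ fun n hn => ?_
  · rintro _ ⟨⟨x, hx⟩, hxw, rfl⟩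
    exact (C.mem_K_iff.1 (C.mem_K_of_W (C.mem_Cd.1 hx).1 hw
      (congrArg Subtype.val (mem_centralizer_singleton_iff.1 hxw)))).2
  · rw [Bool.and_eq_true, ← C.M.comm_iff hn (show 64 < 768 by norm_num), ← C.mem_N4_iff hn]
    constructor
    · rintro ⟨⟨x, hx⟩, -, hxe⟩
      have hxe' : x = C.M.Φ n := hxe
      exact hxe' ▸ C.mem_Cd.1 hx
    · rintro ⟨h4, hd⟩
      exact ⟨⟨_, C.mem_Cd.2 ⟨h4, hd⟩⟩, mem_centralizer_singleton_iff.2 (Subtype.ext
        (C.K_comm_W (C.mem_K_iff.2 ⟨h4, C.M.z_comm hn⟩) hw)), rfl⟩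

theorem not_eight : ¬ 8 ∣ Nat.card C.Cd := by
  haveI : Fact (Nat.Prime 2) := ⟨Nat.prime_two⟩
  intro h8
  set W := C.A1 ⊓ C.A2 with hW
  have hWC : W ≤ C.Cd := fun x hx => (C.one_or_inW hx.1 hx.2).elim
    (fun h => h ▸ one_mem _) C.inW_mem_Cd
  have hW2 : IsPGroup 2 W := C.isPGroup_A1.to_le inf_le_left
  have hd := dvd_of_max hW2 hWC (fun P hP hWP hPC => ?_) (e := 3) h8
  · have h4 : Nat.card W = 4 := by
      refine (C.M.card_eq _ _ (fun x hx => Model.mem_cent.1 (C.M.sub_le hx.1)) fun n hn => ?_).trans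
        chk_blocks.2.2.1
      rw [SetLike.mem_coe, hW, mem_inf, A1, A2, C.M.mem_sub hn, C.M.mem_sub hn, Bool.and_eq_true]
    rw [h4] at hd
    norm_num at hd
  refine eq_of_three hP hWP ![z, C.M.a, C.M.a * z] C.inW_injective (fun x _ hx i => ?_)
    fun i x hxP _ hc => ?_
  · have hWi : C.InW (![z, C.M.a, C.M.a * z] i) := C.inW_cases.2 ⟨i, rfl⟩
    have hm : ![z, C.M.a, C.M.a * z] i ∈ W := ⟨(C.W_mem_A1 hWi).1, (C.W_mem_A1 hWi).2.1⟩
    have hm' := (mem_normalizer_iff.1 hx _).1 hm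
    rcases C.one_or_inW hm'.1 hm'.2 with h1 | h1
    · have := C.orderOf_inW hWi
      rw [conj_eq_one_iff.1 h1, orderOf_one] at this
      norm_num at this
    · obtain ⟨j, hj⟩ := C.inW_cases.1 h1
      exact ⟨j, hj.symm⟩
  · obtain ⟨h4, hxd⟩ := C.mem_Cd.1 (hPC hxP)
    have hxK := C.mem_K_of_W h4 (C.inW_cases.2 ⟨i, rfl⟩) hc
    obtain ⟨k, hk⟩ := hP ⟨x, hxP⟩
    have hk' : x ^ 2 ^ k = 1 := congrArg Subtype.val hk
    obtain ⟨n, hn, hs, rfl⟩ := hxK
    have hR : Nat.testBit rMask n = true := by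
      by_contra hnR
      have h1 := List.all_eq_true.1 chk_K.1 n (mem_elems.2 ⟨hn, hs⟩)
      simp only [Bool.and_eq_true, beq_iff_eq] at h1
      have hle := C.eq_R_of_le (P := C.R ⊔ zpowers (C.M.Φ n))
        (C.isPGroup_R.to_sup_of_normal_left' (hP.to_le (zpowers_le.2 hxP))
          (zpowers_le.2 (mem_normalizer_iff.2 fun r => ⟨fun hr =>
            C.good_mem_R (C.good_K ((C.M.mem_sub hn).2 hs)) hr, fun hr => by
              have := C.good_mem_R (C.good_inv (C.good_K ((C.M.mem_sub hn).2 hs))) hr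
              rwa [show (C.M.Φ n)⁻¹ * (C.M.Φ n * r * (C.M.Φ n)⁻¹) * (C.M.Φ n)⁻¹⁻¹ = r by group]
                at this⟩)))
        le_sup_left (sup_le (C.R_le_K.trans C.K_le) (zpowers_le.2 h4))
      exact hnR ((C.M.mem_sub hn).1 (hle ▸ mem_sup_right (mem_zpowers _)))
    have h2 := List.all_eq_true.1 chk_d.2.2.1 n (mem_elems.2 ⟨hn, hR⟩)
    simp only [(C.M.comm_iff hn (show 64 < 768 by norm_num)).1 hxd, Bool.not_true,
      Bool.false_or] at h2
    by_cases h0 : n = 0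
    · rw [h0, C.M.one]; exact one_mem _
    · have := C.W_mem_A1 ((C.inW_iff hn).2 ⟨h2, h0⟩)
      exact ⟨this.1, this.2.1⟩

theorem not_three_dvd_index : ¬ 3 ∣ (C.U.subgroupOf C.Cd).index := by
  haveI : Fact (Nat.Prime 2) := ⟨Nat.prime_two⟩
  have hWd : ∀ w, C.InW w → w ∈ C.Cd := fun w => C.inW_mem_Cd
  set zc : C.Cd := ⟨z, hWd z C.inW_z⟩
  set ac : C.Cd := ⟨C.M.a, hWd _ (Or.inr (Or.inl rfl))⟩
  have hset : ∀ w : C.Cd, w ∈ ({zc, ac, ac * zc} : Set C.Cd) ↔ C.InW w := fun w => by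
    simp [InW, zc, ac, Subtype.ext_iff]
  have hb2 : C.b⁻¹ = C.b := inv_eq_of_mul_eq_one_right C.b_sq
  have hst : ∀ x ∈ C.Cd, C.b * x * C.b⁻¹ ∈ C.Cd := fun x hx => by
    obtain ⟨h4, hd⟩ := C.mem_Cd.1 hx
    refine C.mem_Cd.2 ⟨C.N4_spec.1.conj_mem x h4 _, ?_⟩
    have h1 : Commute C.b C.d := C.d_comm_b.symm
    exact ((h1.mul_left hd).mul_left h1.inv_left).eq
  let φ : C.Cd → C.Cd := fun x => ⟨C.b * x * C.b⁻¹, hst x x.2⟩
  have hφ : ∀ x, φ (φ x) = x := fun x => Subtype.ext (by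
    show C.b * (C.b * x * C.b⁻¹) * C.b⁻¹ = x
    rw [hb2, show C.b * (C.b * (x : G) * C.b) * C.b = C.b * C.b * x * (C.b * C.b) by group,
      C.b_sq, one_mul, mul_one])
  let β : MulAut C.Cd :=
    { toFun := φ, invFun := φ, left_inv := hφ, right_inv := hφ
      map_mul' := fun x y => Subtype.ext (by
        show C.b * (x * y : G) * C.b⁻¹ = C.b * x * C.b⁻¹ * (C.b * y * C.b⁻¹)
        group) }
  obtain ⟨x, hx4, hxd, hzx, hxW⟩ := C.big
  refine three_not_dvd_index (z := zc) (a := ac) (d := ⟨C.d, C.mem_Cd.2 ⟨C.K_le C.d_mem_K, rfl⟩⟩)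
    (by rw [orderOf_mk]; exact C.M.orderOf_z) (by rw [orderOf_mk]; exact C.M.a_facts.2.1)
    (fun h => C.z_ne_a (congrArg Subtype.val h).symm)
    (Subtype.ext C.M.a_facts.2.2.2.2.symm) (by rw [orderOf_mk]; exact C.orderOf_d)
    (fun y => Subtype.ext (C.mem_Cd.1 y.2).2.symm) C.not_eight
    (fun w hw => C.card_Cd_centralizer ((hset w).1 hw) w.2)
    ⟨⟨x, C.mem_Cd.2 ⟨hx4, hxd⟩⟩, ?_, fun h => hxW ((hset _).1 h)⟩ β hφ
    (Subtype.ext ?_) (Subtype.ext ?_) (Subtype.ext ?_) _ fun y => ?_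
  · rw [orderOf_mk]
    obtain ⟨g, hg⟩ := isConj_iff.1 hzx
    rw [← hg, orderOf_conj_eq, C.M.orderOf_z]
  · show C.b * C.d * C.b⁻¹ = C.d
    rw [← C.d_comm_b, mul_inv_cancel_right]
  · show C.b * z * C.b⁻¹ = z
    rw [C.b_comm_z, mul_inv_cancel_right]
  · exact C.b_a
  · rw [mem_subgroupOf, C.mem_U]
    refine ⟨fun h => Subtype.ext ?_, fun h => ⟨(C.mem_Cd.1 y.2).1, ?_⟩⟩
    · show C.b * y * C.b⁻¹ = y
      rw [← h.2, mul_inv_cancel_right]
    · have h' : C.b * y * C.b⁻¹ = y := congrArg Subtype.val h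
      rw [mul_inv_eq_iff_eq_mul] at h'
      exact h'.symm

/-- Conjugates of `b` centralising `d` are conjugate to it by elements centralising `d`. -/
theorem exists_Cd_conj {q : G} (hq : q ∈ C.N4) (hqd : q * C.b * q⁻¹ * C.d = C.d * (q * C.b * q⁻¹)) :
    ∃ c ∈ C.Cd, c * C.b * c⁻¹ = q * C.b * q⁻¹ := by
  haveI : Fact (Nat.Prime 2) := ⟨Nat.prime_two⟩
  set Γ := centralizer ({C.d} : Set G) with hΓ
  have hD : ∀ y ∈ C.D, y ∈ Γ := by
    rintro _ ⟨n, hn, hs, rfl⟩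
    have h := List.all_eq_true.1 chk_d.2.2.2.1 n (mem_elems.2 ⟨hn, hs⟩)
    simp only [Bool.and_eq_true] at h
    exact mem_centralizer_singleton_iff.2 ((C.M.comm_iff hn (show 64 < 768 by norm_num)).2 h.1.1)
  have hD2 : IsPGroup 2 C.D := C.M.isPGroup_sub (e := 3) chk_sizes.2.2.2.2.2.2
  have hzD : z ∈ C.D := by
    have h := (C.M.mem_sub (h := groups.2.2.2.2.2.2) (show 16 < 768 by norm_num)).2 chk_d.2.2.2.2.2.1
    rwa [C.M.z_eq] at h
  have hzd : C.d * z = z * C.d := (C.mem_K_iff.1 C.d_mem_K).2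
  have hmax : ∀ P : Subgroup G, IsPGroup 2 P → C.D ≤ P → P ≤ Γ → P = C.D := by
    intro P hP hDP hPΓ
    refine eq_of_fix (z := z) (m := 3) hP hDP hPΓ C.M.sub_le (by decide) ?_ fun x hx hxn => ?_
    · have h := chk_d.2.1
      rw [Nat.beq_eq] at h
      rw [show Nat.card C.D = 8 from C.M.card_sub.trans chk_sizes.2.2.2.2.2.2]
      refine ((C.M.card_eq _ _ (fun y hy => Model.mem_cent.1 hy.2) fun n hn => ?_).trans h).trans
        (by norm_num)
      rw [SetLike.mem_coe, mem_inf, hΓ, mem_centralizer_singleton_iff, show C.d = C.M.Φ 64 from rfl,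
        C.M.comm_iff hn (show 64 < 768 by norm_num), and_iff_left (C.M.Φ_mem hn)]
    · obtain ⟨n, hn, hs, hnx⟩ := (mem_normalizer_iff.1 hxn z).1 hzD
      have h := List.all_eq_true.1 chk_d.2.2.2.1 n (mem_elems.2 ⟨hn, hs⟩)
      have hi : isInv 0 n = true := (C.M.orderOf_eq_two_iff hn).1 (by
        rw [hnx, orderOf_conj_eq, C.M.orderOf_z])
      have hc : isCen 0 dMask n = true := C.M.isCen_of hn (h := groups.2.2.2.2.2.2) fun y hy => by
        have h2 : x⁻¹ * y * x ∈ C.D := by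
          have := (mem_normalizer_iff.1 (inv_mem hxn) y).1 hy
          rwa [inv_inv] at this
        have h3 := Model.mem_cent.1 (C.M.sub_le h2)
        rw [hnx]
        calc x * z * x⁻¹ * y = x * (z * (x⁻¹ * y * x)) * x⁻¹ := by group
          _ = x * (x⁻¹ * y * x * z) * x⁻¹ := by rw [h3]
          _ = y * (x * z * x⁻¹) := by group
      simp only [hi, hc, Bool.and_self, Bool.not_true, Bool.false_or, Bool.and_eq_true,
        Nat.beq_eq] at h
      rw [← hnx, h.1.2, C.M.z_eq]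
  obtain ⟨Q, hQ⟩ := (hD2.comap_subtype (K := Γ)).exists_le_sylow
  have hQD : (Q : Subgroup Γ).map Γ.subtype = C.D := hmax _ (Q.isPGroup'.map _)
    (fun y hy => ⟨⟨y, hD y hy⟩, hQ (show (⟨y, hD y hy⟩ : Γ) ∈ C.D.comap Γ.subtype from hy), rfl⟩)
    (map_subtype_le _)
  have hinv : ∀ y ∈ C.D, orderOf y = 2 → y ∉ C.N4 → y = C.b ∨ y = C.M.Φ 27 := by
    rintro _ ⟨n, hn, hs, rfl⟩ h2 h4
    have h := List.all_eq_true.1 chk_d.2.2.2.1 n (mem_elems.2 ⟨hn, hs⟩)
    have hi := (C.M.orderOf_eq_two_iff hn).1 h2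
    simp only [hi, Bool.not_true, Bool.false_or, Bool.and_eq_true, Bool.or_eq_true,
      Nat.beq_eq] at h
    rcases h.2 with (h3 | h3) | h3
    · refine absurd (C.K_le (C.A1_le_K (C.W_mem_A1 ((C.inW_iff hn).2 ⟨h3, ?_⟩)).1)) h4
      intro h0
      subst h0
      simp [isInv] at hi
    · exact Or.inl (by rw [h3]; rfl)
    · exact Or.inr (by rw [h3])
  have hb2 : orderOf C.b = 2 :=
    orderOf_eq_prime (by rw [pow_two, C.b_sq]) fun h => C.b_not_mem (h ▸ one_mem _)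
  have hout : ∀ g : G, g * C.b * g⁻¹ ∉ C.N4 := fun g h => C.b_not_mem (by
    have := C.N4_spec.1.conj_mem _ h g⁻¹
    rwa [show g⁻¹ * (g * C.b * g⁻¹) * g⁻¹⁻¹ = C.b by group] at this)
  set b' := q * C.b * q⁻¹ with hb'
  have hb'Γ : b' ∈ Γ := mem_centralizer_singleton_iff.2 hqd
  have hb'2 : orderOf (⟨b', hb'Γ⟩ : Γ) = 2 := by rw [orderOf_mk, hb', orderOf_conj_eq, hb2]
  obtain ⟨P, hP⟩ := (IsPGroup.of_card (p := 2) (n := 1)
    (show Nat.card (zpowers (⟨b', hb'Γ⟩ : Γ)) = 2 ^ 1 by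
      rw [Nat.card_zpowers, hb'2, pow_one])).exists_le_sylow
  obtain ⟨m, hm⟩ := MulAction.exists_smul_eq Γ P Q
  have hmD : (m : G) * b' * (m : G)⁻¹ ∈ C.D := by
    rw [← hQD]
    refine ⟨m * ⟨b', hb'Γ⟩ * m⁻¹, ?_, by simp⟩
    rw [← hm]
    exact Subgroup.smul_mem_pointwise_smul _ (MulAut.conj m) _ (hP (mem_zpowers _))
  -- `Γ` is the product of `Cd` and `D`
  obtain ⟨h, hh, s, hs, hhs⟩ : ∃ h ∈ C.Cd, ∃ s ∈ C.D, (m : G)⁻¹ = h * s := by
    set N := C.N4.subgroupOf Γ with hN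
    haveI : N.Normal := Subgroup.normal_subgroupOf
    have hp : IsPGroup 2 (Γ ⧸ N) := fun r => by
      induction r using QuotientGroup.induction_on with
      | H y => exact ⟨1, by
          rw [pow_one, pow_two, ← QuotientGroup.mk_mul, QuotientGroup.eq_one_iff, hN,
            mem_subgroupOf]
          exact C.N4_spec.2.1 (y : G)⟩
    obtain ⟨e, he⟩ := hp.exists_card_eq
    have hd : (N ⊔ (Q : Subgroup Γ)).index ∣ 2 ^ e := he ▸ Subgroup.index_dvd_of_le le_sup_left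
    have hodd : ¬ 2 ∣ (N ⊔ (Q : Subgroup Γ)).index := fun h =>
      Q.not_dvd_index (h.trans (Subgroup.index_dvd_of_le le_sup_right))
    obtain ⟨f, -, hf⟩ := (Nat.dvd_prime_pow Nat.prime_two).1 hd
    have htop : N ⊔ (Q : Subgroup Γ) = ⊤ := Subgroup.index_eq_one.1 (by
      rcases Nat.eq_zero_or_pos f with rfl | hfp
      · simpa using hf
      · exact absurd (hf ▸ dvd_pow_self 2 (by omega : f ≠ 0)) hodd)
    obtain ⟨h, hh, s, hs, hhs⟩ :=
      mem_sup_of_normal_left.1 (htop ▸ mem_top m⁻¹ : m⁻¹ ∈ N ⊔ (Q : Subgroup Γ))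
    refine ⟨h, C.mem_Cd.2 ⟨hh, mem_centralizer_singleton_iff.1 h.2⟩, s,
      hQD ▸ mem_map_of_mem _ hs, ?_⟩
    rw [← Subgroup.coe_inv, ← hhs]
    rfl
  set y := s * ((m : G) * b' * (m : G)⁻¹) * s⁻¹ with hy
  have hyb : h * y * h⁻¹ = b' := by
    rw [hy, show h * (s * ((m : G) * b' * (m : G)⁻¹) * s⁻¹) * h⁻¹ =
      (h * s) * ((m : G) * b' * (m : G)⁻¹) * (h * s)⁻¹ by group, ← hhs]
    group
  have hy2 : orderOf y = 2 := by
    rw [hy, orderOf_conj_eq, orderOf_conj_eq, hb', orderOf_conj_eq, hb2]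
  have hy4 : y ∉ C.N4 := by
    rw [hy, hb', show s * ((m : G) * (q * C.b * q⁻¹) * (m : G)⁻¹) * s⁻¹ =
      (s * m * q) * C.b * (s * m * q)⁻¹ by group]
    exact hout _
  rcases hinv y (mul_mem (mul_mem hs hmD) (inv_mem hs)) hy2 hy4 with e | e
  · exact ⟨h, hh, by rw [← e, hyb]⟩
  · refine ⟨h * C.M.a, mul_mem hh (C.inW_mem_Cd (Or.inr (Or.inl rfl))), ?_⟩
    rw [show h * C.M.a * C.b * (h * C.M.a)⁻¹ = h * (C.M.a * C.b * C.M.a⁻¹) * h⁻¹ by group,
      C.cj_a_b, ← e, hyb]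

/-- A homomorphism of order three on `N4`, nontrivial on `d`. -/
theorem exists_hom : ∃ V : C.N4 →* Multiplicative (ZMod 3),
    V ⟨C.d, C.K_le C.d_mem_K⟩ ≠ 1 := by
  classical
  obtain ⟨f, hf⟩ := C.exists_chiU
  have hUN : C.U ≤ C.N4 := fun _ hx => (C.mem_U.1 hx).1
  set H := C.U.subgroupOf C.N4 with hH
  let χ : H →* Multiplicative (ZMod 3) := f.comp (subgroupOfEquivOfLe hUN).toMonoidHom
  set g : C.N4 := ⟨C.d, C.K_le C.d_mem_K⟩ with hg
  have hg3 : g ^ 3 = 1 := Subtype.ext (by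
    rw [SubmonoidClass.coe_pow, hg]
    exact C.orderOf_d ▸ pow_orderOf_eq_one C.d)
  refine ⟨MonoidHom.transfer χ, ?_⟩
  letI := H.fintypeQuotientOfFiniteIndex
  haveI : Fintype (Quotient (MulAction.orbitRel (zpowers g) (C.N4 ⧸ H))) := Fintype.ofFinite _
  have hfix : ∀ q : C.N4, g • (q : C.N4 ⧸ H) = q → ∃ c : C.Cd, ∃ v : C.U, (q : G) = c * v := by
    intro q hq
    have hq' : (q : G)⁻¹ * C.d⁻¹ * q ∈ C.U := by
      rw [MulAction.Quotient.smul_mk, QuotientGroup.eq, hH, mem_subgroupOf] at hq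
      simpa [hg, mul_assoc] using hq
    have hq'' : (q : G)⁻¹ * C.d * q ∈ C.U := by
      have := inv_mem hq'
      rwa [show ((q : G)⁻¹ * C.d⁻¹ * q)⁻¹ = (q : G)⁻¹ * C.d * q by group] at this
    have hcom := (C.mem_U.1 hq'').2
    obtain ⟨c, hc, hcb⟩ := C.exists_Cd_conj q.2 (by
      calc (q : G) * C.b * (q : G)⁻¹ * C.d
          = q * (C.b * ((q : G)⁻¹ * C.d * q)) * (q : G)⁻¹ := by group
        _ = q * (((q : G)⁻¹ * C.d * q) * C.b) * (q : G)⁻¹ := by rw [hcom]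
        _ = C.d * (q * C.b * (q : G)⁻¹) := by group)
    refine ⟨⟨c, hc⟩, ⟨c⁻¹ * q, C.mem_U.2 ⟨mul_mem (inv_mem (C.mem_Cd.1 hc).1) q.2, ?_⟩⟩,
      (mul_inv_cancel_left c (q : G)).symm⟩
    calc c⁻¹ * (q : G) * C.b = c⁻¹ * (q * C.b * (q : G)⁻¹) * q := by group
      _ = c⁻¹ * (c * C.b * c⁻¹) * q := by rw [hcb]
      _ = C.b * (c⁻¹ * q) := by group
  have hper : ∀ x : C.N4 ⧸ H,
      Function.minimalPeriod (g • ·) x = 1 ∨ Function.minimalPeriod (g • ·) x = 3 := fun x =>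
    (Nat.dvd_prime Nat.prime_three).1 (Function.IsPeriodicPt.minimalPeriod_dvd (by
      show (g • ·)^[3] x = x
      rw [smul_iterate, hg3]
      exact one_smul _ x))
  have hfix' : ∀ x : C.N4 ⧸ H, Function.minimalPeriod (g • ·) x = 1 ↔ g • x = x := fun _ =>
    Function.minimalPeriod_eq_one_iff_isFixedPt
  have hterm : ∀ (x : C.N4 ⧸ H) (hm : x.out⁻¹ * g ^ Function.minimalPeriod (g • ·) x * x.out ∈ H),
      χ ⟨_, hm⟩ = if g • x = x then Multiplicative.ofAdd (1 : ZMod 3) else 1 := by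
    intro x hm
    rcases hper x with h | h
    · rw [if_pos ((hfix' x).1 h)]
      obtain ⟨c, v, hcv⟩ := hfix x.out (by rw [QuotientGroup.out_eq']; exact (hfix' x).1 h)
      show f _ = _
      have he : (subgroupOfEquivOfLe hUN) ⟨_, hm⟩ =
          v⁻¹ * ⟨C.d, C.d_mem_U⟩ * v := Subtype.ext (by
        show (x.out : G)⁻¹ * ((g ^ Function.minimalPeriod (g • ·) x : C.N4) : G) * x.out =
          (v : G)⁻¹ * C.d * v
        rw [h, pow_one, hg, hcv]
        calc ((c : G) * v)⁻¹ * C.d * (c * v) = (v : G)⁻¹ * ((c : G)⁻¹ * (C.d * c)) * v := by group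
          _ = (v : G)⁻¹ * ((c : G)⁻¹ * (c * C.d)) * v := by rw [(C.mem_Cd.1 c.2).2]
          _ = (v : G)⁻¹ * C.d * v := by group)
      rw [MulEquiv.toMonoidHom_eq_coe, MonoidHom.coe_coe, he, map_mul, map_mul, map_inv,
        mul_right_comm, inv_mul_cancel, one_mul, hf]
    · rw [if_neg (fun hh => by rw [(hfix' x).2 hh] at h; norm_num at h)]
      have he : (⟨_, hm⟩ : H) = 1 := Subtype.ext (by
        show x.out⁻¹ * g ^ Function.minimalPeriod (g • ·) x * x.out = 1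
        rw [h, hg3, mul_one, inv_mul_cancel])
      rw [he, map_one]
  rw [MonoidHom.transfer_eq_prod_quotient_orbitRel_zpowers_quot]
  rw [Finset.prod_congr rfl fun q _ => hterm q.out _, Finset.prod_ite]
  simp only [Finset.prod_const, one_pow, mul_one]
  set F := Finset.univ.filter fun q : Quotient (MulAction.orbitRel (zpowers g) (C.N4 ⧸ H)) =>
    g • q.out = q.out with hF
  have hcard : F.card = (C.U.subgroupOf C.Cd).index := by
    let f1 : {x : C.N4 ⧸ H // g • x = x} → {q // q ∈ F} := fun x => ⟨Quotient.mk _ x.1, by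
      rw [hF, Finset.mem_filter]
      refine ⟨Finset.mem_univ _, ?_⟩
      obtain ⟨⟨_, k, rfl⟩, hk⟩ := Quotient.mk_out (s := MulAction.orbitRel (zpowers g) _) x.1
      have hk' : g ^ k • x.1 = (Quotient.mk _ x.1).out := hk
      rw [← hk', ← mul_smul, ← zpow_one_add, add_comm, zpow_add_one, mul_smul, x.2]⟩
    have h1 : Function.Bijective f1 := by
      refine ⟨fun x y hxy => ?_, fun q => ?_⟩
      · obtain ⟨⟨_, k, rfl⟩, hk⟩ := Quotient.exact (congrArg Subtype.val hxy)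
        have hk' : g ^ k • y.1 = x.1 := hk
        have hy : g ∈ MulAction.stabilizer C.N4 y.1 := y.2
        exact Subtype.ext (hk'.symm.trans (zpow_mem hy k))
      · obtain ⟨q, hq⟩ := q
        rw [hF, Finset.mem_filter] at hq
        exact ⟨⟨q.out, hq.2⟩, Subtype.ext (Quotient.out_eq q)⟩
    let f2 : C.Cd ⧸ C.U.subgroupOf C.Cd → {x : C.N4 ⧸ H // g • x = x} :=
      Quotient.lift (fun c : C.Cd => ⟨((⟨c, (C.mem_Cd.1 c.2).1⟩ : C.N4) : C.N4 ⧸ H), by
        rw [MulAction.Quotient.smul_mk, QuotientGroup.eq, hH, mem_subgroupOf]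
        show ((g : G) * c)⁻¹ * c ∈ C.U
        rw [hg, show ((C.d : G) * c)⁻¹ * c = (c : G)⁻¹ * C.d⁻¹ * c by group,
          mul_assoc, show C.d⁻¹ * (c : G) = c * C.d⁻¹ from
            ((show Commute (c : G) C.d from (C.mem_Cd.1 c.2).2).inv_right).eq.symm,
          inv_mul_cancel_left]
        exact inv_mem C.d_mem_U⟩) fun c c' h => by
          refine Subtype.ext (QuotientGroup.eq.2 ?_)
          exact mem_subgroupOf.2 (mem_subgroupOf.1 (QuotientGroup.leftRel_apply.1 h) :)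
    have h2 : Function.Bijective f2 := by
      refine ⟨fun x y => ?_, fun x => ?_⟩
      · induction x using QuotientGroup.induction_on with
        | H c =>
          induction y using QuotientGroup.induction_on with
          | H c' =>
            intro h
            have := mem_subgroupOf.1 (QuotientGroup.eq.1 (congrArg Subtype.val h))
            exact QuotientGroup.eq.2 (mem_subgroupOf.2 this)
      · obtain ⟨x, hx⟩ := x
        induction x using QuotientGroup.induction_on with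
        | H q =>
          obtain ⟨c, v, hcv⟩ := hfix q hx
          refine ⟨QuotientGroup.mk c, Subtype.ext (QuotientGroup.eq.2 (mem_subgroupOf.2 ?_))⟩
          show (c : G)⁻¹ * q ∈ C.U
          rw [hcv, inv_mul_cancel_left]
          exact v.2
    rw [← Fintype.card_coe, ← Nat.card_eq_fintype_card, ← Nat.card_eq_of_bijective f1 h1,
      ← Nat.card_eq_of_bijective f2 h2]
    rfl
  rw [hcard]
  intro h
  rw [← ofAdd_nsmul, ofAdd_eq_one, nsmul_one, ZMod.natCast_eq_zero_iff] at h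
  exact C.not_three_dvd_index h

end Ctx

end CfsgLib.AutLThreeFour70
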