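import Cfsg.Agent.AutLThreeFour70.Build

/-!
# Checked facts about isometries and signs in `D₈ ∘ Q₈`
-/

set_option autoImplicit false
set_option maxRecDepth 100000
set_option Elab.async false

namespace CfsgLib.AutLThreeFour70

/-- Four vectors of `F₂⁴`, as numbers below 16. -/
abbrev Vec : Type := ℕ × ℕ × ℕ × ℕ

/-- `a` if the bit is set. -/
def bit (b : Bool) (a : ℕ) : ℕ := bif b then a else 0

/-- The linear map with given images of the basis. -/
def app (v : Vec) (x : ℕ) : ℕ :=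
  Nat.xor (Nat.xor (bit (Nat.testBit x 0) v.1) (bit (Nat.testBit x 1) v.2.1))
    (Nat.xor (bit (Nat.testBit x 2) v.2.2.1) (bit (Nat.testBit x 3) v.2.2.2))

/-- Composition of linear maps. -/
def comp (v w : Vec) : Vec := (app v w.1, app v w.2.1, app v w.2.2.1, app v w.2.2.2)

/-- The identity. -/
def idV : Vec := (1, 2, 4, 8)

/-- The standard images of the two generators of `S₄`. -/
def stdV : ℕ → Vec
  | 0 => (1, 2, 8, 4)
  | _ => (1, 15, 12, 5)

/-- The squaring form. -/
def qf (v : ℕ) : ℕ := em v v / 16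

/-- Equality of vectors. -/
def veq (v w : Vec) : Bool :=
  Nat.beq v.1 w.1 && Nat.beq v.2.1 w.2.1 && Nat.beq v.2.2.1 w.2.2.1 && Nat.beq v.2.2.2 w.2.2.2

/-- Is the map an isometry? -/
def isIso (v : Vec) : Bool :=
  (List.range 16).all fun x => Nat.beq (qf (app v x)) (qf x) &&
    (Nat.beq x 0 || !Nat.beq (app v x) 0)

/-- The 120 isometries of the quadratic space of minus type. -/
def isoms : List Vec :=
  [(15, 11, 5, 3), (11, 15, 5, 3), (15, 11, 6, 3), (11, 15, 6, 3), (15, 7, 9, 3), (7, 15, 9, 3),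
    (15, 7, 10, 3), (7, 15, 10, 3), (11, 7, 13, 3), (7, 11, 13, 3), (11, 7, 14, 3), (7, 11, 14, 3),
    (2, 1, 8, 4), (1, 2, 8, 4), (7, 1, 9, 4), (1, 7, 9, 4), (7, 2, 10, 4), (2, 7, 10, 4), (2, 1, 12,
    4), (1, 2, 12, 4), (7, 1, 13, 4), (1, 7, 13, 4), (7, 2, 14, 4), (2, 7, 14, 4), (15, 11, 3, 5),
    (11, 15, 3, 5), (15, 11, 6, 5), (11, 15, 6, 5), (11, 1, 8, 5), (1, 11, 8, 5), (15, 1, 9, 5), (1,
    15, 9, 5), (15, 1, 12, 5), (1, 15, 12, 5), (11, 1, 13, 5), (1, 11, 13, 5), (15, 11, 3, 6), (11,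
    15, 3, 6), (15, 11, 5, 6), (11, 15, 5, 6), (11, 2, 8, 6), (2, 11, 8, 6), (15, 2, 10, 6), (2, 15,
    10, 6), (15, 2, 12, 6), (2, 15, 12, 6), (11, 2, 14, 6), (2, 11, 14, 6), (2, 1, 4, 8), (1, 2, 4,
    8), (11, 1, 5, 8), (1, 11, 5, 8), (11, 2, 6, 8), (2, 11, 6, 8), (2, 1, 12, 8), (1, 2, 12, 8),
    (11, 1, 13, 8), (1, 11, 13, 8), (11, 2, 14, 8), (2, 11, 14, 8), (15, 7, 3, 9), (7, 15, 3, 9),
    (7, 1, 4, 9), (1, 7, 4, 9), (15, 1, 5, 9), (1, 15, 5, 9), (15, 7, 10, 9), (7, 15, 10, 9), (15,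
    1, 12, 9), (1, 15, 12, 9), (7, 1, 13, 9), (1, 7, 13, 9), (15, 7, 3, 10), (7, 15, 3, 10), (7, 2,
    4, 10), (2, 7, 4, 10), (15, 2, 6, 10), (2, 15, 6, 10), (15, 7, 9, 10), (7, 15, 9, 10), (15, 2,
    12, 10), (2, 15, 12, 10), (7, 2, 14, 10), (2, 7, 14, 10), (2, 1, 4, 12), (1, 2, 4, 12), (15, 1,
    5, 12), (1, 15, 5, 12), (15, 2, 6, 12), (2, 15, 6, 12), (2, 1, 8, 12), (1, 2, 8, 12), (15, 1, 9,
    12), (1, 15, 9, 12), (15, 2, 10, 12), (2, 15, 10, 12), (11, 7, 3, 13), (7, 11, 3, 13), (7, 1, 4,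
    13), (1, 7, 4, 13), (11, 1, 5, 13), (1, 11, 5, 13), (11, 1, 8, 13), (1, 11, 8, 13), (7, 1, 9,
    13), (1, 7, 9, 13), (11, 7, 14, 13), (7, 11, 14, 13), (11, 7, 3, 14), (7, 11, 3, 14), (7, 2, 4,
    14), (2, 7, 4, 14), (11, 2, 6, 14), (2, 11, 6, 14), (11, 2, 8, 14), (2, 11, 8, 14), (7, 2, 10,
    14), (2, 7, 10, 14), (11, 7, 13, 14), (7, 11, 13, 14)]

/-- The automorphism lifting a linear map. -/
def liftV (g : Vec) (x : ℕ) : ℕ :=
  em (em (em (em (bit (Nat.testBit x 0) g.1) (bit (Nat.testBit x 1) g.2.1))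
    (bit (Nat.testBit x 2) g.2.2.1)) (bit (Nat.testBit x 3) g.2.2.2)) (bit (Nat.testBit x 4) 16)

/-- Do the two maps satisfy the relations of faithful generators of `S₄`? -/
def goodPair (s d : Vec) : Bool :=
  let sd := comp d s
  veq (comp s s) idV && veq (comp d (comp d d)) idV &&
    veq (comp (comp sd sd) (comp sd sd)) idV && !veq (comp sd sd) idV

/-- Conjugation by `e` inside `D₈ ∘ Q₈`. -/
def cjE (e x : ℕ) : ℕ := em (em (ei e) x) e

theorem chk_iso : (List.range 16).all (fun a => (List.range 16).all fun b => (List.range 16).all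
    fun c => (List.range 16).all fun d => !isIso (a, b, c, d) || isoms.any (veq (a, b, c, d))) =
      true := by
  decide +kernel

theorem chk_pairs : isoms.all (fun s => isoms.all fun d => !goodPair s d ||
    isoms.any fun g => veq (comp g (stdV 0)) (comp s g) && veq (comp g (stdV 1)) (comp d g)) =
      true := by
  decide +kernel

theorem chk_lift : isoms.all (fun g => (List.range 32).all fun x => Nat.blt (liftV g x) 32 &&
    Nat.beq (Nat.land (liftV g x) 15) (app g (Nat.land x 15)) &&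
    (Nat.beq x 0 || !Nat.beq (liftV g x) 0) &&
    (List.range 32).all fun y => Nat.beq (liftV g (em x y)) (em (liftV g x) (liftV g y))) = true ∧
    isoms.all (fun g => Nat.beq (liftV g 16) 16) = true := by
  decide +kernel

theorem chk_lift_surj : isoms.all (fun g => (List.range 32).all fun c =>
    (List.range 32).any fun x => Nat.beq (liftV g x) c) = true := by
  decide +kernel

theorem chk_sign_gen : (List.range 2).all (fun g => (List.range 16).all fun eps =>
    (List.range 32).any fun e => (List.range 4).all fun j =>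
      Nat.beq (cjE e (Nat.lor (Nat.land (gact g (2 ^ j)) 15) (bit (Nat.testBit eps j) 16)))
        (gact g (2 ^ j))) = true := by
  decide +kernel

theorem chk_sign_id : (List.range 16).all (fun eps => (List.range 32).any fun e =>
    (List.range 4).all fun j => Nat.beq (cjE e (Nat.lor (2 ^ j) (bit (Nat.testBit eps j) 16)))
      (2 ^ j)) = true := by
  decide +kernel

theorem chk_gact : (List.range 2).all (fun g => Nat.beq (gact g 16) 16 &&
    Nat.beq (Nat.land (gact g 1) 15) (stdV g).1 && Nat.beq (Nat.land (gact g 2) 15) (stdV g).2.1 &&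
    Nat.beq (Nat.land (gact g 4) 15) (stdV g).2.2.1 &&
    Nat.beq (Nat.land (gact g 8) 15) (stdV g).2.2.2 &&
    (List.range 32).all fun x => (List.range 32).all fun y =>
      Nat.beq (gact g (em x y)) (em (gact g x) (gact g y))) = true := by
  decide +kernel

theorem chk_cjE : (List.range 32).all (fun e => (List.range 32).all fun x =>
    Nat.beq (Nat.land (cjE e x) 15) (Nat.land x 15) && Nat.blt (cjE e x) 32) = true := by
  decide +kernel

theorem chk_relVal : (List.range 3).all (fun t => (List.range 32).all fun r =>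
    !((List.range 32).all fun x => Nat.beq (cjE r x) (wact (rots.getD t []) x)) ||
      Nat.beq (Nat.land r 15) (bit (Nat.beq t 2) 1)) = true ∧
    (List.range 2).all (fun j => Nat.beq (gact 0 (1 + 16 * j)) (1 + 16 * j)) = true := by
  decide +kernel

end CfsgLib.AutLThreeFour70
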