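import Cfsg.Agent.AutLThreeFour70.Split

/-!
# Local structure of the subgroup of index four
-/

set_option autoImplicit false
set_option maxRecDepth 20000

namespace CfsgLib.AutLThreeFour70

open Subgroup
open scoped Pointwise
open CfsgLib.Small (orderOf_conj_eq)

namespace Ctx

variable {G : Type*} [Group G] {z : G} (C : Ctx z)

/-- The involution of the class in question. -/
def u : G := C.M.Φ 328

/-- Membership of `{z, a, az}`. -/
def InW (x : G) : Prop := x = z ∨ x = C.M.a ∨ x = C.M.a * z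

theorem inW_iff {n : ℕ} (hn : n < 768) : C.InW (C.M.Φ n) ↔ isW n = true ∧ n ≠ 0 := by
  have e : ∀ m, m < 768 → (C.M.Φ n = C.M.Φ m ↔ n = m) := fun m hm => C.M.eq_iff hn hm
  unfold InW
  rw [← C.M.a_facts.1, show C.M.a = C.M.Φ 1 from rfl]
  conv_lhs => arg 1; arg 2; rw [show z = C.M.Φ 16 from C.M.z_eq.symm]
  rw [e 16 (by norm_num), e 1 (by norm_num), e 17 (by norm_num), isW_iff]
  omega

theorem inW_z : C.InW z := Or.inl rfl

theorem inW_isConj {x : G} (h : C.InW x) : IsConj z x := by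
  rcases h with rfl | rfl | rfl
  · exact IsConj.refl _
  · exact C.fus
  · exact C.fus.trans C.M.a_facts.2.2.2.1

theorem W_mem_A1 {x : G} (h : C.InW x) : x ∈ C.A1 ∧ x ∈ C.A2 ∧ x ∈ C.R := by
  obtain ⟨n, hn, hw, rfl⟩ : ∃ n, n < 18 ∧ isW n = true ∧ C.M.Φ n = x := by
    rcases h with rfl | rfl | rfl
    · exact ⟨16, by norm_num, rfl, C.M.z_eq⟩
    · exact ⟨1, by norm_num, rfl, rfl⟩
    · exact ⟨17, by norm_num, rfl, C.M.a_facts.1⟩
  have h := chk_range chk_R.2 hn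
  simp only [hw, Bool.not_true, Bool.false_or, Bool.and_eq_true] at h
  have hn' : n < 768 := by omega
  exact ⟨(C.M.mem_sub hn').2 h.1.2, (C.M.mem_sub hn').2 h.2, (C.M.mem_sub hn').2 h.1.1.2⟩

theorem R_le_K : C.R ≤ C.K := by
  rintro _ ⟨n, hn, hs, rfl⟩
  exact (C.M.mem_sub hn).2 (List.all_eq_true.1 chk_K.2.2.2.2 n (mem_elems.2 ⟨hn, hs⟩))

theorem A1_le_R : C.A1 ≤ C.R := by
  rintro _ ⟨n, hn, hs, rfl⟩
  have h := List.all_eq_true.1 chk_A.1 n (mem_elems.2 ⟨hn, hs⟩)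
  simp only [Bool.and_eq_true] at h
  exact (C.M.mem_sub hn).2 h.1.1.1.1.1.1

theorem A2_le_R : C.A2 ≤ C.R := by
  rintro _ ⟨n, hn, hs, rfl⟩
  have h := List.all_eq_true.1 chk_A.2.1 n (mem_elems.2 ⟨hn, hs⟩)
  simp only [Bool.and_eq_true] at h
  exact (C.M.mem_sub hn).2 h.1.1.1

theorem A1_le_K : C.A1 ≤ C.K := C.A1_le_R.trans C.R_le_K

theorem card_K : Nat.card C.K = 192 := C.M.card_sub.trans chk_sizes.1

theorem card_R : Nat.card C.R = 64 := C.M.card_sub.trans chk_sizes.2.1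

theorem card_A1 : Nat.card C.A1 = 16 := C.M.card_sub.trans chk_sizes.2.2.2.2.1

theorem isPGroup_R : IsPGroup 2 C.R := IsPGroup.of_card (n := 6) (C.card_R.trans (by norm_num))

theorem isPGroup_A1 : IsPGroup 2 C.A1 := IsPGroup.of_card (n := 4) (C.card_A1.trans (by norm_num))

theorem K_comm_W {k x : G} (hk : k ∈ C.K) (hx : C.InW x) : k * x = x * k := by
  obtain ⟨n, hn, hs, rfl⟩ := hk
  have h := List.all_eq_true.1 chk_K.1 n (mem_elems.2 ⟨hn, hs⟩)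
  simp only [Bool.and_eq_true] at h
  have ha : C.M.Φ n * C.M.a = C.M.a * C.M.Φ n := (C.M.comm_iff hn (by norm_num)).2 h.1.1.1.1
  rcases hx with rfl | rfl | rfl
  · exact C.M.z_comm hn
  · exact ha
  · rw [← mul_assoc, ha, mul_assoc, C.M.z_comm hn, ← mul_assoc]

theorem mem_R_iff {x : G} (hx : x ∈ C.K) : x ∈ C.R ↔ x * x * (x * x) = 1 := by
  obtain ⟨n, hn, hs, rfl⟩ := hx
  have h := List.all_eq_true.1 chk_K.1 n (mem_elems.2 ⟨hn, hs⟩)
  simp only [Bool.and_eq_true, beq_iff_eq] at h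
  have h2 := mul_lt C.M.hk hn hn
  rw [R, C.M.mem_sub hn, h.1.1.1.2, isR, Nat.beq_eq, ← C.M.mul_eq _ _ hn hn,
    ← C.M.mul_eq _ _ h2 h2, C.M.eq_one_iff (mul_lt C.M.hk h2 h2)]

theorem isThree_of_orderOf {n : ℕ} (hn : n < 768) (h : orderOf (C.M.Φ n) = 3) :
    isThree n = true := by
  have h1 : C.M.Φ n ≠ 1 := fun h1 => by rw [h1, orderOf_one] at h; norm_num at h
  have h3 := pow_orderOf_eq_one (C.M.Φ n)
  rw [h, pow_succ', pow_two, ← C.M.mul_eq _ _ hn hn,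
    ← C.M.mul_eq _ _ hn (mul_lt C.M.hk hn hn),
    C.M.eq_one_iff (mul_lt C.M.hk hn (mul_lt C.M.hk hn hn))] at h3
  have hb : Nat.beq n 0 = false :=
    Bool.eq_false_iff.2 fun hb => h1 ((C.M.eq_one_iff hn).2 (Nat.eq_of_beq_eq_true hb))
  simp [isThree, h3, hb]

theorem conj_three {x : G} (hx : x ∈ C.K) (h : orderOf x = 3) :
    ∃ k ∈ C.K, k * C.d * k⁻¹ = x ∨ k * C.d⁻¹ * k⁻¹ = x := by
  obtain ⟨n, hn, hs, rfl⟩ := hx
  have h' := List.all_eq_true.1 chk_K.1 n (mem_elems.2 ⟨hn, hs⟩)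
  simp only [Bool.and_eq_true, C.isThree_of_orderOf hn h, Bool.not_true, Bool.false_or,
    Bool.or_eq_true, isCjK, List.any_eq_true, Nat.beq_eq] at h'
  rcases h'.1.1.2 with ⟨g, hg, e⟩ | ⟨g, hg, e⟩ <;> obtain ⟨hg1, hg2⟩ := mem_elems.1 hg
  · exact ⟨_, (C.M.mem_sub hg1).2 hg2, Or.inl (by rw [d, ← C.M.map_cj hg1 (by norm_num), e])⟩
  · refine ⟨_, (C.M.mem_sub hg1).2 hg2, Or.inr ?_⟩
    rw [d, ← C.M.map_inv (by norm_num), ← C.M.map_cj hg1 (inv_lt C.M.hk (by norm_num)), e]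

theorem orderOf_d : orderOf C.d = 3 := by
  haveI : Fact (Nat.Prime 3) := ⟨Nat.prime_three⟩
  have h := chk_K.2.2.2.1
  simp only [isThree, Bool.and_eq_true, Bool.not_eq_true', ← Bool.not_eq_true, Nat.beq_eq] at h
  refine orderOf_eq_prime ?_ fun h1 => h.1 ((C.M.eq_one_iff (by norm_num)).1 h1)
  have hl := mul_lt C.M.hk (show 64 < 768 by norm_num) (show 64 < 768 by norm_num)
  rw [d, pow_succ', pow_two, ← C.M.mul_eq _ _ (by norm_num) (by norm_num),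
    ← C.M.mul_eq _ _ (by norm_num) hl, h.2, C.M.one]

theorem d_mem_K : C.d ∈ C.K := (C.M.mem_sub (by norm_num)).2 chk_K.2.1

theorem inW_or_conj_u {x : G} (hx : x ∈ C.K) (h : orderOf x = 2) : C.InW x ∨ IsConj C.u x := by
  obtain ⟨n, hn, hs, rfl⟩ := hx
  have h' := List.all_eq_true.1 chk_K.1 n (mem_elems.2 ⟨hn, hs⟩)
  have hi := (C.M.orderOf_eq_two_iff hn).1 h
  simp only [Bool.and_eq_true, hi, Bool.not_true, Bool.false_or, Bool.or_eq_true] at h'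
  rcases h'.2 with h2 | h2
  · exact Or.inl ((C.inW_iff hn).2 ⟨h2, fun h0 => by subst h0; simp [isInv] at hi⟩)
  · exact Or.inr (C.isConj_of_isW hn (by norm_num) h2)

theorem A1_sq {x : G} (hx : x ∈ C.A1) : x * x = 1 := by
  obtain ⟨n, hn, hs, rfl⟩ := hx
  have h := List.all_eq_true.1 chk_A.1 n (mem_elems.2 ⟨hn, hs⟩)
  simp only [Bool.and_eq_true, Nat.beq_eq] at h
  rw [← C.M.mul_eq n n hn hn, h.1.1.1.2, C.M.one]

theorem A1_comm {x y : G} (hx : x ∈ C.A1) (hy : y ∈ C.A1) : x * y = y * x := by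
  obtain ⟨n, hn, hs, rfl⟩ := hx
  obtain ⟨m, hm, hs', rfl⟩ := hy
  have h := List.all_eq_true.1 chk_A.1 n (mem_elems.2 ⟨hn, hs⟩)
  simp only [Bool.and_eq_true] at h
  exact (C.M.comm_iff hn hm).2 (List.all_eq_true.1 h.1.1.2 m (mem_elems.2 ⟨hm, hs'⟩))

theorem K_normalises_A1 {k x : G} (hk : k ∈ C.K) (hx : x ∈ C.A1) : k * x * k⁻¹ ∈ C.A1 := by
  obtain ⟨n, hn, hs, rfl⟩ := hk
  obtain ⟨m, hm, hs', rfl⟩ := hx
  have h := List.all_eq_true.1 chk_A.1 m (mem_elems.2 ⟨hm, hs'⟩)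
  simp only [Bool.and_eq_true] at h
  exact ⟨_, cj_lt C.M.hk hn hm, List.all_eq_true.1 h.1.2 n (mem_elems.2 ⟨hn, hs⟩),
    C.M.map_cj hn hm⟩

/-- The elements of `A₁` outside `1, z, a, az`. -/
theorem A1_spec {x : G} (hx : x ∈ C.A1) (h1 : x ≠ 1) (hW : ¬ C.InW x) :
    x ∉ C.A2 ∧ IsConj C.u x ∧ (∃ k ∈ C.K, k * C.u * k⁻¹ = x) ∧
      (∀ k ∈ C.K, k * x = x * k → k ∈ C.A1) ∧
      ∀ w, C.InW w → ∃ r ∈ C.R, r * x * r⁻¹ = x * w := by
  obtain ⟨n, hn, hs, rfl⟩ := hx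
  have hn0 : n ≠ 0 := fun h0 => h1 (h0 ▸ C.M.one)
  have hnw : isW n = false := by
    by_contra h0
    exact hW ((C.inW_iff hn).2 ⟨by simpa using h0, hn0⟩)
  have h := List.all_eq_true.1 chk_A.1 n (mem_elems.2 ⟨hn, hs⟩)
  simp only [Bool.and_eq_true, hnw, Bool.false_or, Bool.or_eq_true, Nat.beq_eq, hn0, false_or,
    beq_iff_eq] at h
  obtain ⟨⟨⟨⟨⟨-, h2⟩, -⟩, -⟩, -⟩, ⟨⟨hcj, hcK⟩, hcen⟩, horb⟩ := h
  refine ⟨fun hm => ?_, C.isConj_of_isW hn (by norm_num) hcj, ?_, ?_, ?_⟩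
  · rw [A2, C.M.mem_sub hn] at hm
    rw [hm] at h2
    exact Bool.noConfusion h2
  · obtain ⟨g, hg, e⟩ := List.any_eq_true.1 hcK
    obtain ⟨hg1, hg2⟩ := mem_elems.1 hg
    simp only [Nat.beq_eq] at e
    exact ⟨_, (C.M.mem_sub hg1).2 hg2, by rw [u, ← C.M.map_cj hg1 (by norm_num), e]⟩
  · rintro _ ⟨g, hg, hgs, rfl⟩ hcomm
    have h3 := List.all_eq_true.1 hcen g (mem_elems.2 ⟨hg, hgs⟩)
    rw [(C.M.comm_iff hg hn).1 hcomm] at h3
    exact (C.M.mem_sub hg).2 (by simpa using h3)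
  · intro w hw
    obtain ⟨v, hv, hwv, rfl⟩ : ∃ v, v ∈ [1, 16, 17] ∧ v < 768 ∧ C.M.Φ v = w := by
      rcases hw with rfl | rfl | rfl
      · exact ⟨16, by simp, by norm_num, C.M.z_eq⟩
      · exact ⟨1, by simp, by norm_num, rfl⟩
      · exact ⟨17, by simp, by norm_num, C.M.a_facts.1⟩
    obtain ⟨r, hr, e⟩ := List.any_eq_true.1 (List.all_eq_true.1 horb v hv)
    obtain ⟨hr1, hr2⟩ := mem_elems.1 hr
    simp only [Nat.beq_eq] at e
    exact ⟨_, (C.M.mem_sub hr1).2 hr2, by rw [← C.M.map_cj hr1 hn, e, C.M.mul_eq n v hn hwv]⟩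

theorem u_mem : C.u ∈ C.A1 ∧ C.u ≠ 1 ∧ ¬ C.InW C.u :=
  ⟨(C.M.mem_sub (by norm_num)).2 chk_A.2.2.1,
    fun h => absurd ((C.M.eq_one_iff (by norm_num)).1 h) (by norm_num),
    fun h => absurd ((C.inW_iff (by norm_num)).1 h).1 (by decide)⟩

theorem orderOf_of_A1 {x : G} (hx : x ∈ C.A1) (h1 : x ≠ 1) : orderOf x = 2 :=
  orderOf_eq_prime (by rw [pow_two, C.A1_sq hx]) h1

variable [Finite G]

/-- A two-subgroup of `N4` has order at most 64. -/
theorem card_le_of_le_N4 {P : Subgroup G} (hP : IsPGroup 2 P) (h4 : P ≤ C.N4) :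
    Nat.card P ≤ 64 := by
  obtain ⟨Q, hQ⟩ := hP.exists_le_sylow
  obtain ⟨g, hg⟩ := MulAction.exists_smul_eq G Q C.M.sylow
  have key : (elems sMask).all (fun n => !Nat.testBit kMask n || Nat.testBit rMask n) = true := by
    decide +kernel
  have hle : P.map (MulAut.conj g).toMonoidHom ≤ C.R := by
    rintro _ ⟨x, hx, rfl⟩
    have h1 : g * x * g⁻¹ ∈ C.M.S := by
      have hg' : ((g • Q : Sylow 2 G) : Subgroup G) = C.M.S :=
        congrArg (fun R : Sylow 2 G => (R : Subgroup G)) hg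
      rw [← hg', Sylow.coe_subgroup_smul]
      exact Subgroup.smul_mem_pointwise_smul x (MulAut.conj g) _ (hQ hx)
    obtain ⟨n, hn, hs, hnx⟩ := h1
    show g * x * g⁻¹ ∈ C.R
    rw [← hnx]
    refine (C.M.mem_sub hn).2 ?_
    have h4' : C.M.Φ n ∈ C.N4 := hnx ▸ C.N4_spec.1.conj_mem x (h4 hx) g
    simpa [(C.mem_N4_iff hn).1 h4'] using List.all_eq_true.1 key n (mem_elems.2 ⟨hn, hs⟩)
  have := Nat.le_of_dvd Nat.card_pos (card_dvd_of_le hle)
  rwa [card_map_of_injective (MulAut.conj g).injective, C.card_R] at this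

theorem eq_R_of_le {P : Subgroup G} (hP : IsPGroup 2 P) (hR : C.R ≤ P) (h4 : P ≤ C.N4) :
    P = C.R :=
  (Subgroup.eq_of_le_of_card_ge hR (C.card_R ▸ C.card_le_of_le_N4 hP h4)).symm

/-- `G` is the product of the subgroup of index four and the centraliser of `z`. -/
theorem exists_mul (g : G) : ∃ h ∈ C.N4, ∃ s, s * z = z * s ∧ g = h * s := by
  haveI : Fact (Nat.Prime 2) := ⟨Nat.prime_two⟩
  have hp : IsPGroup 2 (G ⧸ C.N4) := fun q => by
    induction q using QuotientGroup.induction_on with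
    | H x => exact ⟨1, by
        rw [pow_one, pow_two, ← QuotientGroup.mk_mul, QuotientGroup.eq_one_iff]
        exact C.N4_spec.2.1 x⟩
  obtain ⟨e, he⟩ := hp.exists_card_eq
  have hd : (C.N4 ⊔ C.M.S).index ∣ 2 ^ e := he ▸ Subgroup.index_dvd_of_le le_sup_left
  have hodd : ¬ 2 ∣ (C.N4 ⊔ C.M.S).index := fun h =>
    C.M.sylow.not_dvd_index (h.trans (Subgroup.index_dvd_of_le le_sup_right))
  obtain ⟨f, -, hf⟩ := (Nat.dvd_prime_pow Nat.prime_two).1 hd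
  have htop : C.N4 ⊔ C.M.S = ⊤ := Subgroup.index_eq_one.1 (by
    rcases Nat.eq_zero_or_pos f with rfl | hfp
    · simpa using hf
    · exact absurd (hf ▸ dvd_pow_self 2 (by omega : f ≠ 0)) hodd)
  have hg : g ∈ C.N4 ⊔ C.M.S := htop ▸ mem_top g
  obtain ⟨h, hh, s, hs, rfl⟩ := mem_sup_of_normal_left.1 hg
  exact ⟨h, hh, s, Model.mem_cent.1 (C.M.sub_le hs), rfl⟩

/-- Conjugates of `z` are conjugate under `N4`. -/
theorem exists_N4_conj {x : G} (h : IsConj z x) : ∃ g ∈ C.N4, g * z * g⁻¹ = x := by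
  obtain ⟨g, rfl⟩ := isConj_iff.1 h
  obtain ⟨y, hy, s, hs, rfl⟩ := C.exists_mul g
  refine ⟨y, hy, ?_⟩
  calc y * z * y⁻¹ = y * (s * z * s⁻¹) * y⁻¹ := by rw [hs, mul_inv_cancel_right]
    _ = y * s * z * (y * s)⁻¹ := by group

/-- An element of `N4` centralising one of `z, a, az` lies in `K`. -/
theorem mem_K_of_W {x w : G} (hx : x ∈ C.N4) (hw : C.InW w) (hc : x * w = w * x) : x ∈ C.K := by
  obtain ⟨g, hg, rfl⟩ := C.exists_N4_conj (C.inW_isConj hw)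
  set L := C.N4 ⊓ centralizer ({g * z * g⁻¹} : Set G) with hL
  have hmap : C.K.map (MulAut.conj g).toMonoidHom = L := by
    ext y
    constructor
    · rintro ⟨v, hv, rfl⟩
      obtain ⟨h4, hvz⟩ := C.mem_K_iff.1 hv
      refine ⟨C.N4_spec.1.conj_mem v h4 g, mem_centralizer_singleton_iff.2 ?_⟩
      show g * v * g⁻¹ * (g * z * g⁻¹) = g * z * g⁻¹ * (g * v * g⁻¹)
      calc g * v * g⁻¹ * (g * z * g⁻¹) = g * (v * z) * g⁻¹ := by group
        _ = g * (z * v) * g⁻¹ := by rw [hvz]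
        _ = g * z * g⁻¹ * (g * v * g⁻¹) := by group
    · rintro ⟨h4, hyc⟩
      have hyc' := mem_centralizer_singleton_iff.1 hyc
      refine ⟨g⁻¹ * y * g, C.mem_K_iff.2 ⟨?_, ?_⟩, by simp [mul_assoc]⟩
      · simpa using C.N4_spec.1.conj_mem y h4 g⁻¹
      · calc g⁻¹ * y * g * z = g⁻¹ * (y * (g * z * g⁻¹)) * g := by group
          _ = g⁻¹ * ((g * z * g⁻¹) * y) * g := by rw [hyc']
          _ = z * (g⁻¹ * y * g) := by group
  have hle : C.K ≤ L := fun k hk =>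
    ⟨C.K_le hk, mem_centralizer_singleton_iff.2 (C.K_comm_W hk hw)⟩
  have heq : C.K = L := Subgroup.eq_of_le_of_card_ge hle (by
    rw [← hmap, card_map_of_injective (MulAut.conj g).injective])
  rw [heq]
  exact ⟨hx, mem_centralizer_singleton_iff.2 hc⟩

end Ctx

end CfsgLib.AutLThreeFour70
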