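import Cfsg.Agent.AutLThreeFour70.Crd
import Cfsg.Agent.AutLThreeFour70.Coord

/-!
# Normalised generators of the involution centraliser
-/

set_option autoImplicit false

namespace CfsgLib.AutLThreeFour70

namespace Crd

variable {C : Type*} [Group C] {w : C} (K : Crd w)

theorem exists_sign {g : ℕ} (hg : g < 2) {s : C} (hs : K.vec s = stdV g) :
    ∃ e, e < 32 ∧ ∀ x, x < 32 → K.act (s * K.ev e) x = gact g x := by
  have hgs := chk_range chk_gact hg
  simp only [Bool.and_eq_true, Nat.beq_eq] at hgs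
  obtain ⟨⟨⟨⟨⟨g16, g1⟩, g2⟩, g4⟩, g8⟩, ghom⟩ := hgs
  have hlow : ∀ j, j < 4 → Nat.land (K.act s (2 ^ j)) 15 = Nat.land (gact g (2 ^ j)) 15 := by
    intro j hj
    interval_cases j
    · exact (congrArg Prod.fst hs).trans g1.symm
    · exact (congrArg (fun v : Vec => v.2.1) hs).trans g2.symm
    · exact (congrArg (fun v : Vec => v.2.2.1) hs).trans g4.symm
    · exact (congrArg (fun v : Vec => v.2.2.2) hs).trans g8.symm
  have hk : ∀ a b : Fin 32, Nat.land (a : ℕ) 15 = Nat.land (b : ℕ) 15 →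
      ∃ t : Bool, (a : ℕ) = Nat.lor (Nat.land (b : ℕ) 15) (bit t 16) := by decide +kernel
  have hex : ∀ j, j < 4 → ∃ t : Bool,
      K.act s (2 ^ j) = Nat.lor (Nat.land (gact g (2 ^ j)) 15) (bit t 16) := fun j hj =>
    hk ⟨_, (K.act_spec s (show 2 ^ j < 32 by interval_cases j <;> norm_num)).1⟩ ⟨_, gact_lt _ _⟩
      (hlow j hj)
  choose b hb using hex
  have hpat : ∀ b0 b1 b2 b3 : Bool, ∃ eps : Fin 16, Nat.testBit eps 0 = b0 ∧
      Nat.testBit eps 1 = b1 ∧ Nat.testBit eps 2 = b2 ∧ Nat.testBit eps 3 = b3 := by decide +kernel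
  obtain ⟨eps, p0, p1, p2, p3⟩ :=
    hpat (b 0 (by norm_num)) (b 1 (by norm_num)) (b 2 (by norm_num)) (b 3 (by norm_num))
  have hE := chk_range (chk_range chk_sign_gen hg) eps.2
  simp only [List.any_eq_true, List.mem_range] at hE
  obtain ⟨e, he, hej⟩ := hE
  refine ⟨e, he, fun x hx => (K.act_hom _).ext ⟨fun y _ => gact_lt g y, fun y v hy hv => ?_⟩
    ((K.act_sixteen _).trans g16.symm) (fun j hj => ?_) hx⟩
  · have := chk_range (chk_range ghom hy) hv
    simpa using this
  · have h2 : 2 ^ j < 32 := by interval_cases j <;> norm_num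
    have hj' := chk_range hej hj
    simp only [Nat.beq_eq] at hj'
    rw [K.act_mul _ _ h2, K.act_ev he (K.act_spec s h2).1, hb j hj]
    interval_cases j
    · rw [← p0]; exact hj'
    · rw [← p1]; exact hj'
    · rw [← p2]; exact hj'
    · rw [← p3]; exact hj'

theorem act_prod {f : ℕ → C} : ∀ {w' : List ℕ},
    (∀ g ∈ w', ∀ x, x < 32 → K.act (f g) x = gact g x) → ∀ {x : ℕ}, x < 32 →
    K.act (w'.map f).prod x = wact w' x
  | [], _, x, hx => K.act_eq hx hx (by simp [wact])
  | g :: l, h, x, hx => by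
    rw [List.map_cons, List.prod_cons, K.act_mul _ _ hx, h g (by simp) x hx,
      act_prod (fun a ha => h a (List.mem_cons_of_mem _ ha)) (gact_lt g x)]
    rfl

/-- The signs of a relator. -/
theorem relator_low {f : ℕ → C} (hf : ∀ g, g < 2 → ∀ x, x < 32 → K.act (f g) x = gact g x)
    {t r : ℕ} (ht : t < 3) (hr : r < 32) (he : K.ev r = ((rots.getD t []).map f).prod) :
    r = bit (Nat.beq t 2) 1 ∨ r = 16 + bit (Nat.beq t 2) 1 := by
  have hall : (List.range 32).all (fun x => Nat.beq (cjE r x) (wact (rots.getD t []) x)) = true := by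
    refine List.all_eq_true.2 fun x hx => ?_
    have hx' := List.mem_range.1 hx
    rw [Nat.beq_eq, ← K.act_ev hr hx', he, K.act_prod (fun g hg y hy => hf g ?_ y hy) hx']
    interval_cases t <;> revert hg <;> revert g <;> decide
  have h := chk_range (chk_range chk_relVal.1 ht) hr
  rw [hall] at h
  simp only [Bool.not_true, Bool.false_or, Nat.beq_eq] at h
  have hk : ∀ a : Fin 32, (a : ℕ) = Nat.land (a : ℕ) 15 ∨ (a : ℕ) = 16 + Nat.land (a : ℕ) 15 := by
    decide +kernel
  rcases hk ⟨r, hr⟩ with h' | h' <;> simp only at h' <;> rw [h] at h'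
  · exact Or.inl h'
  · exact Or.inr h'

theorem exists_rels (π : C →* Equiv.Perm (Fin 4)) (hπ : Function.Surjective π)
    (hker : ∀ h, π h = 1 ↔ ∃ e, e < 32 ∧ K.ev e = h) :
    ∃ (k : ℕ) (K' : Crd w) (gen : ℕ → C), k < 4 ∧
      (∀ g, g < 2 → π (gen g) = permGen g) ∧
      (∀ g, g < 2 → ∀ x, x < 32 → K'.act (gen g) x = gact g x) ∧
      (∀ h, π h = 1 ↔ ∃ e, e < 32 ∧ K'.ev e = h) ∧
      ∀ t, t < 4 → ((rots.getD t []).map gen).prod = K'.ev (relVal k t) := by
  obtain ⟨s0, hs0⟩ := hπ (permGen 0)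
  obtain ⟨d0, hd0⟩ := hπ (permGen 1)
  have hgood : goodPair (K.vec s0) (K.vec d0) = true := by
    have one : ∀ h, π h = 1 → K.vec h = idV := fun h hh => by
      obtain ⟨e, he, rfl⟩ := (hker h).1 hh
      exact K.vec_ev he
    have a1 : comp (K.vec s0) (K.vec s0) = idV := by
      rw [← K.vec_mul]; exact one _ (by rw [map_mul, hs0]; decide)
    have a2 : comp (K.vec d0) (comp (K.vec d0) (K.vec d0)) = idV := by
      rw [← K.vec_mul, ← K.vec_mul]
      exact one _ (by simp only [map_mul, hd0]; decide +kernel)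
    have a3 : comp (comp (comp (K.vec d0) (K.vec s0)) (comp (K.vec d0) (K.vec s0)))
        (comp (comp (K.vec d0) (K.vec s0)) (comp (K.vec d0) (K.vec s0))) = idV := by
      rw [← K.vec_mul, ← K.vec_mul, ← K.vec_mul]
      exact one _ (by simp only [map_mul, hs0, hd0]; decide +kernel)
    have a4 : comp (comp (K.vec d0) (K.vec s0)) (comp (K.vec d0) (K.vec s0)) ≠ idV := by
      rw [← K.vec_mul, ← K.vec_mul]
      intro h
      obtain ⟨e, he, hee⟩ := K.exists_of_vec h
      have := (hker _).2 ⟨e, he, hee⟩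
      simp only [map_mul, hs0, hd0] at this
      revert this
      decide +kernel
    simp only [goodPair, Bool.and_eq_true, veq_iff, Bool.not_eq_true', ← Bool.not_eq_true]
    exact ⟨⟨⟨a1, a2⟩, a3⟩, a4⟩
  have hp := List.all_eq_true.1 (List.all_eq_true.1 chk_pairs _ (K.vec_iso s0)) _ (K.vec_iso d0)
  rw [hgood] at hp
  simp only [Bool.not_true, Bool.false_or, List.any_eq_true, Bool.and_eq_true, veq_iff] at hp
  obtain ⟨g, hg, hgs, hgd⟩ := hp
  set K' := K.relabel hg with hK'
  have hker' : ∀ h, π h = 1 ↔ ∃ e, e < 32 ∧ K'.ev e = h := by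
    intro h
    rw [hker h]
    constructor
    · rintro ⟨e, he, rfl⟩
      obtain ⟨v, hv, rfl⟩ := (lift_bij hg).2.1 e he
      exact ⟨v, hv, rfl⟩
    · rintro ⟨e, he, rfl⟩
      exact ⟨_, (lift_bij hg).1 e he, rfl⟩
  have hcancel : isoms.all (fun g => (List.range 16).all fun a => (List.range 16).all fun b =>
      !Nat.beq (app g a) (app g b) || Nat.beq a b) = true := by decide +kernel
  have hinj : ∀ a b, a < 16 → b < 16 → app g a = app g b → a = b := by
    intro a b ha hb he
    have h := chk_range (chk_range (List.all_eq_true.1 hcancel g hg) ha) hb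
    simpa [he] using h
  have hvec : ∀ (h : C) (i : ℕ), i < 2 → comp g (stdV i) = comp (K.vec h) g →
      K'.vec h = stdV i := by
    intro h i hi hh
    rw [← K.vec_relabel hg h] at hh
    simp only [comp, Prod.mk.injEq] at hh
    obtain ⟨l1, l2, l3, l4⟩ := vecOf_lt (K'.act h)
    have hs : (stdV i).1 < 16 ∧ (stdV i).2.1 < 16 ∧ (stdV i).2.2.1 < 16 ∧ (stdV i).2.2.2 < 16 := by
      interval_cases i <;> decide
    exact Prod.ext (hinj _ _ l1 hs.1 hh.1.symm) (Prod.ext (hinj _ _ l2 hs.2.1 hh.2.1.symm)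
      (Prod.ext (hinj _ _ l3 hs.2.2.1 hh.2.2.1.symm) (hinj _ _ l4 hs.2.2.2 hh.2.2.2.symm)))
  obtain ⟨es, hes, hes'⟩ := K'.exists_sign (by norm_num) (hvec s0 0 (by norm_num) hgs)
  obtain ⟨ed, hed, hed'⟩ := K'.exists_sign (by norm_num) (hvec d0 1 (by norm_num) hgd)
  set s := s0 * K'.ev es with hs
  set d1 := d0 * K'.ev ed with hd1
  have πs : π s = permGen 0 := by rw [hs, map_mul, hs0, (hker' _).2 ⟨es, hes, rfl⟩, mul_one]
  have πd : π d1 = permGen 1 := by rw [hd1, map_mul, hd0, (hker' _).2 ⟨ed, hed, rfl⟩, mul_one]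
  -- the cube
  let f1 : ℕ → C := fun i => if i = 0 then s else d1
  have hf1 : ∀ i, i < 2 → ∀ x, x < 32 → K'.act (f1 i) x = gact i x := by
    intro i hi
    interval_cases i
    · exact hes'
    · exact hed'
  have hone : π (d1 * d1 * d1) = 1 := by simp only [map_mul, πd]; decide +kernel
  obtain ⟨c3, hc3, hc3'⟩ := (hker' _).1 hone
  obtain ⟨d, hdd, hd_act, πd'⟩ : ∃ d : C, d * d * d = 1 ∧
      (∀ x, x < 32 → K'.act d x = gact 1 x) ∧ π d = permGen 1 := by
    rcases K'.relator_low hf1 (t := 1) (by norm_num) hc3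
      (by rw [hc3']; simp [f1, rots, mul_assoc]) with h | h
    · exact ⟨d1, by rw [← hc3', h]; exact K'.ev_zero, hed', πd⟩
    · refine ⟨d1 * w, ?_, fun x hx => ?_, ?_⟩
      · have h16 : d1 * d1 * d1 = w := by rw [← hc3', h]; exact K'.ev_w
        have hww : w * w = 1 := by
          rw [← K'.ev_w, ← K'.ev_mul 16 16 (by norm_num) (by norm_num),
            show em 16 16 = 0 by decide +kernel, K'.ev_zero]
        calc d1 * w * (d1 * w) * (d1 * w) = d1 * (w * d1) * (w * d1) * w := by simp only [mul_assoc]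
          _ = d1 * (d1 * w) * (d1 * w) * w := by rw [← K'.central]
          _ = d1 * d1 * (w * d1) * (w * w) := by simp only [mul_assoc]
          _ = d1 * d1 * (d1 * w) := by rw [← K'.central, hww, mul_one]
          _ = w * w := by rw [← mul_assoc, h16]
          _ = 1 := hww
      · rw [show d1 * w = d1 * K'.ev 16 by rw [K'.ev_w], K'.act_mul _ _ hx, hed' x hx,
          K'.act_ev (by norm_num) (gact_lt _ _)]
        have hk : ∀ y : Fin 32, cjE 16 y = y := by decide +kernel
        exact hk ⟨_, gact_lt _ _⟩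
      · rw [map_mul, πd, (hker' w).2 ⟨16, by norm_num, K'.ev_w⟩, mul_one]
  let gen : ℕ → C := fun i => if i = 0 then s else d
  have hgen : ∀ i, i < 2 → ∀ x, x < 32 → K'.act (gen i) x = gact i x := by
    intro i hi
    interval_cases i
    · exact hes'
    · exact hd_act
  have πgen : ∀ i, i < 2 → π (gen i) = permGen i := by
    intro i hi
    interval_cases i
    · exact πs
    · exact πd'
  have hss : π (s * s) = 1 := by rw [map_mul, πs]; decide +kernel
  obtain ⟨c2, hc2, hc2'⟩ := (hker' _).1 hss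
  have hsd : π ((s * d) * (s * d) * ((s * d) * (s * d))) = 1 := by
    simp only [map_mul, πs, πd']; decide +kernel
  obtain ⟨c4, hc4, hc4'⟩ := (hker' _).1 hsd
  have h2 := K'.relator_low hgen (t := 0) (by norm_num) hc2 (by rw [hc2']; simp [gen, rots])
  have h4 := K'.relator_low hgen (t := 2) (by norm_num) hc4
    (by rw [hc4']; simp [gen, rots, mul_assoc])
  rw [show bit (Nat.beq 0 2) 1 = 0 from rfl] at h2
  rw [show bit (Nat.beq 2 2) 1 = 1 from rfl] at h4
  refine ⟨2 * (c2 / 16) + c4 / 16, K', gen, by omega, πgen, hgen, hker', ?_⟩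
  intro t ht
  have e2 : c2 = 16 * (c2 / 16) := by
    rcases h2 with h | h <;> omega
  have e4 : c4 = 1 + 16 * (c4 / 16) := by
    rcases h4 with h | h <;> omega
  have hd2 : (2 * (c2 / 16) + c4 / 16) / 2 = c2 / 16 := by omega
  have hm2 : (2 * (c2 / 16) + c4 / 16) % 2 = c4 / 16 := by omega
  interval_cases t
  · show ([0, 0].map gen).prod = K'.ev (16 * ((2 * (c2 / 16) + c4 / 16) / 2))
    rw [hd2, ← e2, hc2']; simp [gen]
  · show ([1, 1, 1].map gen).prod = K'.ev 0
    rw [K'.ev_zero]; simp [gen, ← mul_assoc, hdd]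
  · show ([0, 1, 0, 1, 0, 1, 0, 1].map gen).prod = K'.ev (1 + 16 * ((2 * (c2 / 16) + c4 / 16) % 2))
    rw [hm2, ← e4, hc4']; simp [gen, mul_assoc]
  · show ([1, 0, 1, 0, 1, 0, 1, 0].map gen).prod = K'.ev (1 + 16 * ((2 * (c2 / 16) + c4 / 16) % 2))
    rw [hm2, ← e4]
    have hfix : gact 0 c4 = c4 := by
      have := chk_range chk_relVal.2 (show c4 / 16 < 2 by omega)
      simp only [Nat.beq_eq] at this
      rwa [← e4] at this
    have h5 := (K'.act_spec s hc4).2
    rw [hes' c4 hc4, hfix] at h5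
    simp only [List.map_cons, List.map_nil, List.prod_cons, List.prod_nil, gen]
    show d * (s * (d * (s * (d * (s * (d * (s * 1))))))) = K'.ev c4
    rw [h5, hc4']; group

end Crd

open Subgroup in
/-- The centraliser is one of the four candidates. -/
theorem exists_model {G : Type*} [Group G] [Finite G] {z : G} (hz : orderOf z = 2)
    (E : Subgroup ↥(centralizer ({z} : Set G))) [E.Normal] (hE : Cfsg.IsExtraspecial 2 ↥E)
    (hE32 : Nat.card ↥E = 32)
    (hminus : ∀ A : Subgroup ↥E, Cfsg.IsElementaryAbelian 2 A → Nat.card ↥A ≠ 8)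
    (hCE : centralizer (E : Set ↥(centralizer ({z} : Set G))) ≤ E)
    (e : (↥(centralizer ({z} : Set G)) ⧸ E) ≃* Equiv.Perm (Fin 4)) :
    ∃ k, Nonempty (Model z k) := by
  obtain ⟨ev, hmul, hinj, hsurj, h16, hcen⟩ := exists_coord hE hE32 hminus
  let zC : ↥(centralizer ({z} : Set G)) := ⟨z, mem_centralizer_singleton_iff.2 rfl⟩
  have hcz : ∀ h : ↥(centralizer ({z} : Set G)), h * zC = zC * h := fun h =>
    Subtype.ext (mem_centralizer_singleton_iff.1 h.2)
  have hzE : zC ∈ E := hCE (mem_centralizer_iff.2 fun x _ => hcz x)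
  have hw : (ev 16 : ↥(centralizer ({z} : Set G))) = zC := by
    rcases hcen ⟨zC, hzE⟩ (mem_center_iff.2 fun g => Subtype.ext (hcz g)) with h | h
    · have h1 : z = 1 := congrArg (fun x : E => ((x : ↥(centralizer ({z} : Set G))) : G)) h
      rw [h1, orderOf_one] at hz
      norm_num at hz
    · exact (congrArg Subtype.val h).symm
  have hmem : ∀ x ∈ E, ∃ c, c < 32 ∧ (ev c : ↥(centralizer ({z} : Set G))) = x := fun x hx => by
    obtain ⟨c, hc, hcv⟩ := hsurj ⟨x, hx⟩
    exact ⟨c, hc, congrArg Subtype.val hcv⟩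
  let K : Crd zC :=
    { ev := fun x => (ev x : ↥(centralizer ({z} : Set G)))
      ev_mul := fun x y hx hy => congrArg Subtype.val (hmul x y hx hy)
      ev_inj := fun x y hx hy h => hinj x y hx hy (Subtype.ext h)
      ev_w := hw
      central := hcz
      normal := fun h x _ => hmem _ (by simpa using ‹E.Normal›.conj_mem _ (ev x).2 h⁻¹)
      self := fun h hh => hmem h (hCE (mem_centralizer_iff.2 fun x hx => by
        obtain ⟨c, hc, rfl⟩ := hmem x hx
        exact (hh c hc).symm)) }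
  obtain ⟨k, K', gen, hk, hπ, hact, hker, hrel⟩ :=
    K.exists_rels (e.toMonoidHom.comp (QuotientGroup.mk' E))
      (e.surjective.comp (QuotientGroup.mk'_surjective E)) fun h => by
        rw [MonoidHom.comp_apply, MulEquiv.coe_toMonoidHom, map_eq_one_iff _ e.injective,
          QuotientGroup.mk'_apply, QuotientGroup.eq_one_iff]
        exact ⟨hmem h, fun ⟨c, _, hc⟩ => hc ▸ (ev c).2⟩
  refine ⟨k, Frame.nonempty_model (z := z)
    { hk := hk
      ev := fun x => (K'.ev x : G)
      gen := fun g => (gen g : G)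
      π := e.toMonoidHom.comp (QuotientGroup.mk' E)
      ev_mul := fun x y hx hy => congrArg Subtype.val (K'.ev_mul x y hx hy)
      ev_inj := fun x y hx hy h => K'.ev_inj x y hx hy (Subtype.ext h)
      ev_z := congrArg Subtype.val K'.ev_w
      ev_mem := fun x _ => (K'.ev x).2
      gen_mem := fun g _ => (gen g).2
      conj := fun g c hg hc => ?_
      rel := fun t ht => ?_
      π_gen := fun g hg => hπ g hg
      π_ker := fun h => ?_ }⟩
  · have h := (K'.act_spec (gen g) hc).2
    rw [hact g hg c hc] at h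
    exact (congrArg Subtype.val h).symm
  · rw [← hrel t ht]
    simp [List.map_map, Function.comp_def]
  · rw [hker h]
    exact ⟨fun ⟨c, hc, hh⟩ => ⟨c, hc, congrArg Subtype.val hh⟩,
      fun ⟨c, hc, hh⟩ => ⟨c, hc, Subtype.ext hh⟩⟩

end CfsgLib.AutLThreeFour70
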