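import Cfsg.Agent.LocalEven50.Basic
import Cfsg.Agent.ZStar.Theorem

/-!
# Small general lemmas
-/

set_option autoImplicit false

namespace CfsgLib.AutLThreeFour70

open Subgroup

variable {G : Type*} [Group G] [Finite G]

/-- A two-group containing `T`, whose normalisers of `T` permute three elements with centralisers
inside `T`, is `T`. -/
theorem eq_of_three {T P : Subgroup G} (hP : IsPGroup 2 P) (hTP : T ≤ P) (w : Fin 3 → G)
    (hw : Function.Injective w)
    (hperm : ∀ x ∈ P, x ∈ normalizer (T : Set G) → ∀ i, ∃ j, x * w i * x⁻¹ = w j)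
    (hcent : ∀ i, ∀ x ∈ P, x ∈ normalizer (T : Set G) → x * w i = w i * x → x ∈ T) : P = T := by
  have : Fact (Nat.Prime 2) := ⟨Nat.prime_two⟩
  by_contra hne
  obtain ⟨x, hxP, hxN, hxT⟩ :=
    CfsgLib.LocalEven50.exists_mem_normalizer_not_mem hP hTP (Ne.symm hne)
  choose f hf using hperm x hxP hxN
  have key : ∀ f : Fin 3 → Fin 3, Function.Injective f → (∃ i, f i = i) ∨ f (f (f 0)) = 0 := by
    decide +kernel
  have hinj : Function.Injective f := fun i j h => hw (mul_left_cancel (mul_right_cancel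
    ((hf i).trans ((congrArg w h).trans (hf j).symm))))
  rcases key f hinj with ⟨i, hi⟩ | h3
  · exact hxT (hcent i x hxP hxN (mul_inv_eq_iff_eq_mul.1 ((hf i).trans (congrArg w hi))))
  · have h : x * x * x * w 0 * (x * x * x)⁻¹ = w 0 := by
      calc x * x * x * w 0 * (x * x * x)⁻¹ = x * (x * (x * w 0 * x⁻¹) * x⁻¹) * x⁻¹ := by group
        _ = w 0 := by rw [hf, hf, hf, h3]
    have hT3 : x * x * x ∈ T := hcent 0 _ (mul_mem (mul_mem hxP hxP) hxP)
      (mul_mem (mul_mem hxN hxN) hxN) (mul_inv_eq_iff_eq_mul.1 h)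
    obtain ⟨e, he⟩ := hP.exists_card_eq
    have hpow : x ^ 2 ^ e = 1 := by
      rw [← he]
      exact congrArg Subtype.val (pow_card_eq_one' (x := (⟨x, hxP⟩ : P)))
    have hcop : Int.gcd 3 (2 ^ e : ℕ) = 1 :=
      (Nat.Coprime.pow_right e (by norm_num : Nat.Coprime 3 2))
    refine hxT ?_
    have hb := Int.gcd_eq_gcd_ab 3 ((2 ^ e : ℕ) : ℤ)
    rw [hcop] at hb
    have : x = (x * x * x) ^ Int.gcdA 3 ((2 ^ e : ℕ) : ℤ) := by
      conv_lhs => rw [← zpow_one x, show (1 : ℤ) = _ from hb, zpow_add, zpow_mul, zpow_mul,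
        zpow_natCast, hpow, one_zpow, mul_one]
      rw [show x ^ (3 : ℤ) = x * x * x by rw [show (3 : ℤ) = ((3 : ℕ) : ℤ) from rfl, zpow_natCast,
        pow_succ, pow_two]]
    exact this ▸ zpow_mem hT3 _

/-- An involution acting fixed-point-freely inverts. -/
theorem inverted_of_fpf {X : Subgroup G} {w : G} (hww : w * w = 1)
    (hn : ∀ x ∈ X, w * x * w⁻¹ ∈ X) (hf : ∀ x ∈ X, w * x = x * w → x = 1) {x : G} (hx : x ∈ X) :
    w * x * w⁻¹ = x⁻¹ := by
  have hwi : w⁻¹ = w := inv_eq_of_mul_eq_one_right hww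
  let φ : X → X := fun y => ⟨y.1⁻¹ * (w * y.1 * w⁻¹), mul_mem (inv_mem y.2) (hn _ y.2)⟩
  have hinj : Function.Injective φ := by
    intro a b h
    have h' : a.1⁻¹ * (w * a.1 * w⁻¹) = b.1⁻¹ * (w * b.1 * w⁻¹) := congrArg Subtype.val h
    have h2 : w * (b.1 * a.1⁻¹) = (b.1 * a.1⁻¹) * w := by
      calc w * (b.1 * a.1⁻¹) = w * b.1 * w⁻¹ * (w * a.1 * w⁻¹)⁻¹ * w := by group
        _ = b.1 * (b.1⁻¹ * (w * b.1 * w⁻¹)) * (w * a.1 * w⁻¹)⁻¹ * w := by group
        _ = b.1 * (a.1⁻¹ * (w * a.1 * w⁻¹)) * (w * a.1 * w⁻¹)⁻¹ * w := by rw [← h']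
        _ = b.1 * a.1⁻¹ * w := by group
    exact Subtype.ext (mul_inv_eq_one.1 (hf _ (mul_mem b.2 (inv_mem a.2)) h2)).symm
  obtain ⟨y, hy⟩ := Finite.injective_iff_surjective.1 hinj ⟨x, hx⟩
  have hy' : y.1⁻¹ * (w * y.1 * w⁻¹) = x := congrArg Subtype.val hy
  rw [← hy', hwi]
  simp [mul_assoc, hwi, hww, mul_inv_rev]

/-- A subgroup of odd order on which three commuting involutions `v, w, vw` act fixed-point-freely
is trivial. -/
theorem eq_bot_of_four {X : Subgroup G} (hodd : Odd (Nat.card X)) {v w : G} (hvv : v * v = 1)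
    (hww : w * w = 1) (hvw : v * w = w * v)
    (hn : ∀ x ∈ X, v * x * v⁻¹ ∈ X ∧ w * x * w⁻¹ ∈ X)
    (hv : ∀ x ∈ X, v * x = x * v → x = 1) (hw : ∀ x ∈ X, w * x = x * w → x = 1)
    (hu : ∀ x ∈ X, v * w * x = x * (v * w) → x = 1) : X = ⊥ := by
  have hsq : v * w * (v * w) = 1 := by
    calc v * w * (v * w) = v * (w * v) * w := by group
      _ = (v * v) * (w * w) := by rw [← hvw]; group
      _ = 1 := by rw [hvv, hww, one_mul]
  rw [eq_bot_iff_forall]
  intro x hx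
  have h1 := inverted_of_fpf hvv (fun y hy => (hn y hy).1) hv hx
  have hconj : ∀ y ∈ X, v * w * y * (v * w)⁻¹ ∈ X := fun y hy => by
    rw [show v * w * y * (v * w)⁻¹ = v * (w * y * w⁻¹) * v⁻¹ by group]
    exact (hn _ (hn y hy).2).1
  have h3 := inverted_of_fpf hsq hconj hu hx
  have h2 := inverted_of_fpf hww (fun y hy => (hn y hy).2) hw hx
  have h4 : x = x⁻¹ := by
    rw [← h3, show v * w * x * (v * w)⁻¹ = v * (w * x * w⁻¹) * v⁻¹ by group, h2]
    conv_lhs => rw [← inv_inv x, ← h1]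
    group
  have hx2 : x ^ 2 = 1 := by
    rw [pow_two]
    conv_lhs => arg 2; rw [h4]
    rw [mul_inv_cancel]
  by_contra hne
  have ho : orderOf x = 2 := orderOf_eq_prime hx2 hne
  have hd := orderOf_dvd_natCard (G := X) ⟨x, hx⟩
  rw [orderOf_mk, ho] at hd
  exact Nat.not_even_iff_odd.2 hodd (even_iff_two_dvd.2 hd)

/-- In a group with a normal odd subgroup modulo which an involution is central, every element is a
product of an element of it and one centralising the involution. -/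
theorem exists_mul_centralizer {U : Subgroup G} {w : G} (hww : w * w = 1)
    {N : Subgroup G} (hodd : Odd (Nat.card N))
    (hcomm : ∀ g ∈ U, w * g * w⁻¹ * g⁻¹ ∈ N) {g : G} (hg : g ∈ U) :
    ∃ x ∈ N, w * (x⁻¹ * g) = x⁻¹ * g * w := by
  have hwi : w⁻¹ = w := inv_eq_of_mul_eq_one_right hww
  set c := w * g * w⁻¹ * g⁻¹ with hc
  have hcN : c ∈ N := hcomm g hg
  have hinv : w * c * w⁻¹ = c⁻¹ := by
    rw [hc, hwi, mul_inv_rev, mul_inv_rev, mul_inv_rev, inv_inv, hwi]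
    calc w * (w * g * w * g⁻¹) * w = (w * w) * g * w * g⁻¹ * w := by group
      _ = g * (w * (g⁻¹ * w)) := by rw [hww, one_mul]; group
  obtain ⟨m, hm⟩ := hodd
  have hcm : c ^ (2 * m + 1) = 1 := by
    rw [← hm]; exact congrArg Subtype.val (pow_card_eq_one' (x := (⟨c, hcN⟩ : N)))
  refine ⟨c ^ m, pow_mem hcN m, ?_⟩
  have h1 : w * (c ^ m)⁻¹ * w⁻¹ = c ^ m := by
    have h0 : w * c⁻¹ * w⁻¹ = c := by
      have := congrArg Inv.inv hinv
      simpa [mul_assoc] using this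
    rw [← inv_pow, ← conj_pow, h0]
  calc w * ((c ^ m)⁻¹ * g) = w * (c ^ m)⁻¹ * w⁻¹ * (w * g * w⁻¹) * w := by group
    _ = c ^ m * (c * g) * w := by rw [h1, hc]; group
    _ = (c ^ m)⁻¹ * (c ^ (2 * m + 1)) * g * w := by group
    _ = (c ^ m)⁻¹ * g * w := by rw [hcm, mul_one]

/-- The odd core is a normal subgroup of odd order. -/
theorem odd_oddCore : Odd (Nat.card (Cfsg.oddCore G)) :=
  Nat.coprime_two_right.1 (CfsgLib.LocalEven50.pPrimeCore_coprime (G := G) 2)

end CfsgLib.AutLThreeFour70
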