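import Cfsg.Agent.AutLThreeFour70.SplitMasks

/-!
# Checked facts about the split candidate
-/

set_option autoImplicit false
set_option maxRecDepth 100000
set_option Elab.async false

namespace CfsgLib.AutLThreeFour70

theorem chk_groups : (grpOK 0 kMask && grpOK 0 rMask && grpOK 0 oMask && grpOK 0 bMask &&
    grpOK 0 a1Mask && grpOK 0 a2Mask && grpOK 0 dMask) = true := by
  decide +kernel

theorem chk_sizes : size kMask = 192 ∧ size rMask = 64 ∧ size oMask = 128 ∧ size bMask = 128 ∧
    size a1Mask = 16 ∧ size a2Mask = 16 ∧ size dMask = 8 := by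
  decide +kernel

/-- Two distinct classes are not fused by the candidate. -/
theorem chk_distinct : reps.all (fun u => reps.all fun v => Nat.beq u v || !isCj 0 u v) = true := by
  decide +kernel

/-- The centralisers of the four classes, with the property that pins `z`. -/
theorem chk_max : reps.all (fun u =>
    let T := tMask 0 u
    grpOK 0 T && Nat.testBit T u && Nat.testBit T 16 &&
    (Nat.beq (sel fun n => com 0 n u).length (size T) ||
      Nat.beq (sel fun n => com 0 n u).length (3 * size T)) &&
    (Nat.beq (size T) 16 || Nat.beq (size T) 32) &&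
    isSq 0 T 16 && isCen 0 T 16 &&
    (elems T).all fun x => com 0 x u &&
      (!(isInv 0 x && isCen 0 T x && isSq 0 T x) || Nat.beq x 16 ||
        (Nat.beq u 328 && isCj 0 u x))) = true := by
  decide +kernel

theorem chk_mu : ([oMask, bMask].zip [[1, 328, 2], [1, 328, 34]]).all (fun p =>
    (elems p.1).all fun n => !isInv 0 n || isW n || p.2.any fun u => isCj 0 u n) = true := by
  decide +kernel

theorem chk_cosets : codes.all (fun n => Nat.testBit kMask n ||
    [2, 32, 34].any fun u => Nat.testBit kMask (mul 0 (inv 0 u) n)) = true ∧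
    (elems kMask).all (fun n => (List.range 32).any fun e => codes.any fun x =>
      let s := mul 0 x x
      let t := mul 0 (inv 0 s) n
      Nat.beq (Nat.mod s 32) e && codes.any fun y => Nat.beq (mul 0 y y) t) = true := by
  decide +kernel

theorem chk_K : (elems kMask).all (fun n => com 0 n 1 &&
    (Nat.testBit rMask n == isR n) && (!isThree n || isCjK 64 n || isCjK (inv 0 64) n) &&
    (Nat.testBit rMask n || Nat.testBit rMask (mul 0 n (inv 0 64)) ||
      Nat.testBit rMask (mul 0 n 64)) &&
    (!isInv 0 n || isW n || isCj 0 328 n)) = true ∧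
    Nat.testBit kMask 64 = true ∧ Nat.testBit rMask 64 = false ∧ isThree 64 = true ∧
    (elems rMask).all (fun n => Nat.testBit kMask n) = true := by
  decide +kernel

theorem chk_R : (elems rMask).all (fun n =>
    (!isInv 0 n || Nat.testBit a1Mask n || Nat.testBit a2Mask n) &&
    (!(isCen 0 rMask n && isInv 0 n) || isW n) &&
    (elems rMask).any fun x => (isInv 0 x || Nat.beq x 0) &&
      (isInv 0 (mul 0 (inv 0 x) n) || Nat.beq (mul 0 (inv 0 x) n) 0)) = true ∧
    (List.range 18).all (fun n => !isW n || (isCen 0 rMask n && Nat.testBit rMask n &&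
      Nat.testBit a1Mask n && Nat.testBit a2Mask n)) = true := by
  decide +kernel

theorem chk_A : (elems a1Mask).all (fun x => Nat.testBit rMask x && Nat.testBit a2Mask (cj 0 2 x) &&
    (Nat.beq x 0 || (isW x == Nat.testBit a2Mask x)) &&
    Nat.beq (mul 0 x x) 0 && (elems a1Mask).all (fun y => com 0 x y) &&
    (elems kMask).all (fun g => Nat.testBit a1Mask (cj 0 g x)) &&
    (isW x || (isCj 0 328 x && isCjK 328 x &&
      (elems kMask).all (fun g => !com 0 g x || Nat.testBit a1Mask g) &&
      [1, 16, 17].all fun w => (elems rMask).any fun r => Nat.beq (cj 0 r x) (mul 0 x w)))) = true ∧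
    (elems a2Mask).all (fun x => Nat.testBit rMask x && Nat.testBit a1Mask (cj 0 2 x) &&
      Nat.beq (mul 0 x x) 0 &&
      (isW x || (elems a1Mask).all fun y => isW y || !com 0 x y)) = true ∧
    Nat.testBit a1Mask 328 = true ∧
    (elems rMask).all (fun r => (elems rMask).all fun x =>
      (isW x || !Nat.testBit a2Mask x || isW (mul 0 (cj 0 r x) (inv 0 x)) )) = true := by
  decide +kernel

theorem chk_d : Nat.beq (sel fun n => Nat.testBit kMask n && com 0 n 64).length 12 = true ∧
    Nat.beq (sel fun n => com 0 n 64).length 24 = true ∧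
    (elems rMask).all (fun n => !com 0 n 64 || isW n) = true ∧
    (elems dMask).all (fun n => com 0 n 64 && (!(isCen 0 dMask n && isInv 0 n) || Nat.beq n 16) &&
      (!isInv 0 n || isW n || Nat.beq n 11 || Nat.beq n 27)) = true ∧
    Nat.testBit dMask 11 = true ∧ Nat.testBit dMask 16 = true ∧ cj 0 1 11 = 27 ∧
    com 0 11 64 = true ∧ Nat.testBit kMask 11 = false ∧ isCj 0 2 11 = true ∧
    cj 0 11 1 = 17 := by
  decide +kernel

theorem chk_U : (elems kMask).all (fun n => !com 0 n 11 || ((!isInv 0 n || Nat.beq n 16) &&
    (Nat.beq n 0 || isR n || (elems kMask).any fun y => com 0 y 11 &&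
      !Nat.beq (comm n y) 0 && isR (comm n y)))) = true ∧
    (elems kMask).all (fun n => Nat.blt (chiQ (n / 32)) 3 && (elems kMask).all fun m =>
      Nat.beq (chiQ (mul 0 n m / 32)) ((chiQ (n / 32) + chiQ (m / 32)) % 3)) = true ∧
    chiQ (64 / 32) = 1 := by
  decide +kernel

end CfsgLib.AutLThreeFour70
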