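import Cfsg.Agent.AutLThreeFour70.Fusion
import Cfsg.Agent.AutLThreeFour70.SplitChecks
import Cfsg.Agent.AutLThreeFour70.Prelim
import Cfsg.Agent.Inv54.CentralizerFour

/-!
# The normal subgroup of index four

In the split candidate the classes of the codes 2, 32 and 34 avoid a subgroup of index two of a Sylow
two-subgroup, so Thompson's transfer lemma gives index-two subgroups avoiding each of them.
-/

set_option autoImplicit false
set_option maxRecDepth 20000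

namespace CfsgLib.AutLThreeFour70

open Subgroup
open CfsgLib.Small (orderOf_conj_eq)

/-- The split candidate with `z` fused to `a`. -/
structure Ctx {G : Type*} [Group G] (z : G) where
  M : Model z 0
  fus : IsConj z M.a
  nonsolvable : ¬ Group.IsSolvable G

namespace Ctx

variable {G : Type*} [Group G] {z : G} (C : Ctx z)

theorem groups : grpOK 0 kMask = true ∧ grpOK 0 rMask = true ∧ grpOK 0 oMask = true ∧
    grpOK 0 bMask = true ∧ grpOK 0 a1Mask = true ∧ grpOK 0 a2Mask = true ∧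
    grpOK 0 dMask = true := by
  simpa [Bool.and_eq_true, and_assoc] using chk_groups

/-- The intersection of the centraliser of `z` with the normal subgroup of index four. -/
def K : Subgroup G := C.M.sub kMask groups.1

/-- The largest normal two-subgroup of `K`. -/
def R : Subgroup G := C.M.sub rMask groups.2.1

/-- The first elementary subgroup of order 16. -/
def A1 : Subgroup G := C.M.sub a1Mask groups.2.2.2.2.1

/-- The second elementary subgroup of order 16. -/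
def A2 : Subgroup G := C.M.sub a2Mask groups.2.2.2.2.2.1

/-- The Sylow two-subgroup of `C(z) ∩ C(d)`. -/
def D : Subgroup G := C.M.sub dMask groups.2.2.2.2.2.2

/-- The element of order three. -/
def d : G := C.M.Φ 64

/-- The involution centralising `d` outside `K`. -/
def b : G := C.M.Φ 11

include C in
theorem z_sq : z * z = 1 := by
  have h := C.M.mul_eq 16 16 (by norm_num) (by norm_num)
  rw [show mul 0 16 16 = 0 by decide +kernel, C.M.one, C.M.z_eq] at h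
  exact h.symm

theorem isConj_W {n : ℕ} (hn : isW n = true) (h0 : n ≠ 0) : IsConj z (C.M.Φ n) := by
  rcases isW_iff.1 hn with rfl | rfl | rfl | rfl
  · exact absurd rfl h0
  · rw [C.M.z_eq]
  · exact C.fus
  · rw [C.M.a_facts.1]; exact C.fus.trans C.M.a_facts.2.2.2.1

theorem isConj_of_isW {n : ℕ} {u : ℕ} (hn : n < 768) (hu : u < 768) (h : isCj 0 u n = true) :
    IsConj (C.M.Φ u) (C.M.Φ n) := by
  obtain ⟨x, -, hx⟩ := C.M.isConj_of_isCj hu h
  exact isConj_iff.2 ⟨x, hx⟩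

theorem repsA_eq : repsA 0 = [2, 32, 34] := rfl

variable [Finite G]

omit [Finite G] in
theorem grp_tMask {u : ℕ} (hu : u ∈ reps) : grpOK 0 (tMask 0 u) = true := by
  have h := List.all_eq_true.1 chk_max u hu
  simp only [Bool.and_eq_true] at h
  exact h.1.1.1.1.1.1.1

/-- The chosen Sylow two-subgroup of the centraliser of `Φ u`. -/
def T {u : ℕ} (hu : u ∈ reps) : Subgroup G := C.M.sub (tMask 0 u) (grp_tMask hu)

omit [Finite G] in
theorem T_spec {u : ℕ} (hu : u ∈ reps) :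
    u < 768 ∧ z ∈ C.T hu ∧ C.T hu ≤ centralizer ({C.M.Φ u} : Set G) ∧ IsPGroup 2 (C.T hu) ∧
      Nat.card (C.T hu) < 256 ∧ ∃ m, Odd m ∧
        Nat.card ↥(centralizer ({C.M.Φ u} : Set G) ⊓ centralizer ({z} : Set G)) =
          Nat.card (C.T hu) * m := by
  have h := List.all_eq_true.1 chk_max u hu
  simp only [Bool.and_eq_true] at h
  obtain ⟨⟨⟨⟨⟨⟨⟨-, -⟩, hz⟩, hcard⟩, hsz⟩, -⟩, -⟩, hel⟩ := h
  have hu768 : u < 768 := (show ∀ v ∈ reps, v < 768 by decide) u hu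
  refine ⟨hu768, ?_, ?_, ?_, ?_, ?_⟩
  · have := (C.M.mem_sub (h := grp_tMask hu) (show 16 < 768 by norm_num)).2 hz
    rwa [C.M.z_eq] at this
  · rintro _ ⟨n, hn, hs, rfl⟩
    have h1 := List.all_eq_true.1 hel n (mem_elems.2 ⟨hn, hs⟩)
    simp only [Bool.and_eq_true] at h1
    exact mem_centralizer_singleton_iff.2 ((C.M.comm_iff hn hu768).2 h1.1)
  · simp only [Bool.or_eq_true, Nat.beq_eq] at hsz
    rcases hsz with hsz | hsz
    · exact C.M.isPGroup_sub (e := 4) hsz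
    · exact C.M.isPGroup_sub (e := 5) hsz
  · simp only [Bool.or_eq_true, Nat.beq_eq] at hsz
    rw [T, C.M.card_sub]
    omega
  · simp only [Bool.or_eq_true, Nat.beq_eq] at hcard
    rw [C.M.card_inf_centralizer hu768, T, C.M.card_sub]
    rcases hcard with h' | h'
    · exact ⟨1, odd_one, by rw [h', mul_one]⟩
    · exact ⟨3, by decide, by rw [h', mul_comm]⟩

/-- An element carrying one chosen Sylow subgroup onto another centralises `z`. -/
theorem pin {u v : ℕ} (hu : u ∈ reps) (hv : v ∈ reps) (hvz : ¬ IsConj z (C.M.Φ v)) {x : G}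
    (hmap : ∀ y ∈ C.T hu, x * y * x⁻¹ ∈ C.T hv)
    (hsurj : ∀ y ∈ C.T hv, x⁻¹ * y * x ∈ C.T hu) : x * z * x⁻¹ = z := by
  obtain ⟨hu768, hzu, -⟩ := C.T_spec hu
  obtain ⟨hv768, -⟩ := C.T_spec hv
  have hU := List.all_eq_true.1 chk_max u hu
  have h := List.all_eq_true.1 chk_max v hv
  simp only [Bool.and_eq_true] at h hU
  obtain ⟨⟨⟨-, hsq⟩, hcen⟩, -⟩ := hU
  obtain ⟨n, hn, hs, hnx⟩ := hmap z hzu
  have h1 := List.all_eq_true.1 h.2 n (mem_elems.2 ⟨hn, hs⟩)
  simp only [Bool.and_eq_true] at h1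
  have hi : isInv 0 n = true := (C.M.orderOf_eq_two_iff hn).1 (by
    rw [hnx, orderOf_conj_eq]; exact C.M.orderOf_z)
  have hc : isCen 0 (tMask 0 v) n = true := C.M.isCen_of hn (h := grp_tMask hv) fun y hy => by
    have h2 := C.M.comm_of_isCen (h := grp_tMask hu) (show 16 < 768 by norm_num) hcen (hsurj y hy)
    rw [C.M.z_eq] at h2
    rw [hnx]
    calc x * z * x⁻¹ * y = x * (z * (x⁻¹ * y * x)) * x⁻¹ := by group
      _ = x * ((x⁻¹ * y * x) * z) * x⁻¹ := by rw [h2]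
      _ = y * (x * z * x⁻¹) := by group
  have hq : isSq 0 (tMask 0 v) n = true := by
    obtain ⟨y, hy, hyy⟩ := List.any_eq_true.1 hsq
    obtain ⟨hy1, hy2⟩ := mem_elems.1 hy
    simp only [Nat.beq_eq] at hyy
    have hyz : C.M.Φ y * C.M.Φ y = z := by rw [← C.M.mul_eq y y hy1 hy1, hyy, C.M.z_eq]
    obtain ⟨w, hw, hws, hwx⟩ := hmap _ ((C.M.mem_sub (h := grp_tMask hu) hy1).2 hy2)
    refine List.any_eq_true.2 ⟨w, mem_elems.2 ⟨hw, hws⟩, ?_⟩
    rw [Nat.beq_eq, ← C.M.eq_iff (mul_lt C.M.hk hw hw) hn, C.M.mul_eq w w hw hw, hwx, hnx,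
      conj_sq hyz]
  simp only [hi, hc, hq, Bool.and_self, Bool.not_true, Bool.false_or, Bool.or_eq_true,
    Nat.beq_eq, Bool.and_eq_true] at h1
  rcases h1.2 with h2 | ⟨h2, h3⟩
  · rw [← hnx, h2, C.M.z_eq]
  · subst h2
    exact absurd ((isConj_iff.2 ⟨x, hnx.symm⟩ : IsConj z (C.M.Φ n)).trans
      (C.isConj_of_isW hn hv768 h3).symm) hvz

theorem max_T {u : ℕ} (hu : u ∈ reps) (huz : ¬ IsConj z (C.M.Φ u)) (P : Subgroup G)
    (hP : IsPGroup 2 P) (hTP : C.T hu ≤ P) (hPu : P ≤ centralizer ({C.M.Φ u} : Set G)) :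
    P = C.T hu := by
  obtain ⟨-, hz, -, -, -, m, hm, hK⟩ := C.T_spec hu
  refine eq_of_fix (z := z) hP hTP hPu C.M.sub_le hm hK fun x _ hx => C.pin hu hu huz
    (fun y hy => (mem_normalizer_iff.1 hx y).1 hy) fun y hy => ?_
  simpa using (mem_normalizer_iff.1 (inv_mem hx) y).1 hy

/-- Distinct classes outside `1, z, a, az` stay unfused. -/
theorem not_isConj_reps {u v : ℕ} (hu : u ∈ reps) (hv : v ∈ repsA 0) (hne : u ≠ v) :
    ¬ IsConj (C.M.Φ v) (C.M.Φ u) := by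
  intro hconj
  have hv' : v ∈ reps := (show ∀ v ∈ repsA 0, v ∈ reps by decide) v hv
  have hvz := C.M.not_isConj_repsA hv
  have huz : ¬ IsConj z (C.M.Φ u) := fun h => hvz (h.trans hconj.symm)
  obtain ⟨hu768, -, hTu, hPu, -⟩ := C.T_spec hu
  obtain ⟨hv768, -, hTv, hPv, -⟩ := C.T_spec hv'
  obtain ⟨x, hx⟩ := isConj_iff.1 hconj.symm
  haveI : Fact (Nat.Prime 2) := ⟨Nat.prime_two⟩
  -- move the image of `T u` into `T v`
  set U := (C.T hu).map (MulAut.conj x).toMonoidHom with hU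
  have hUv : U ≤ centralizer ({C.M.Φ v} : Set G) := by
    rintro _ ⟨y, hy, rfl⟩
    rw [mem_centralizer_singleton_iff, ← hx]
    show x * y * x⁻¹ * (x * C.M.Φ u * x⁻¹) = x * C.M.Φ u * x⁻¹ * (x * y * x⁻¹)
    have := mem_centralizer_singleton_iff.1 (hTu hy)
    calc x * y * x⁻¹ * (x * C.M.Φ u * x⁻¹) = x * (y * C.M.Φ u) * x⁻¹ := by group
      _ = x * (C.M.Φ u * y) * x⁻¹ := by rw [this]
      _ = x * C.M.Φ u * x⁻¹ * (x * y * x⁻¹) := by group
  set Kv := centralizer ({C.M.Φ v} : Set G)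
  obtain ⟨P, hP⟩ := ((hPu.map (MulAut.conj x).toMonoidHom).comap_subtype (K := Kv)).exists_le_sylow
  obtain ⟨Q, hQ⟩ := (hPv.comap_subtype (K := Kv)).exists_le_sylow
  have hQv : (Q : Subgroup Kv).map Kv.subtype = C.T hv' := C.max_T hv' hvz _ (Q.isPGroup'.map _)
    (fun y hy => ⟨⟨y, hTv hy⟩, hQ (show (⟨y, hTv hy⟩ : Kv) ∈ (C.T hv').comap Kv.subtype from hy), rfl⟩)
    (map_subtype_le _)
  obtain ⟨c, hc⟩ := MulAction.exists_smul_eq Kv P Q
  set y := (c : G) * x with hy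
  have hmap : ∀ t ∈ C.T hu, y * t * y⁻¹ ∈ C.T hv' := by
    intro t ht
    have h1 : x * t * x⁻¹ ∈ U := ⟨t, ht, rfl⟩
    have h2 : (⟨_, hUv h1⟩ : Kv) ∈ (P : Subgroup Kv) := hP h1
    have h3 : c * ⟨_, hUv h1⟩ * c⁻¹ ∈ (Q : Subgroup Kv) := by
      rw [← hc]
      exact Subgroup.smul_mem_pointwise_smul _ (MulAut.conj c) _ h2
    rw [← hQv]
    exact ⟨_, h3, by simp [hy, mul_assoc]⟩
  -- sizes agree
  have hyu : y * C.M.Φ u * y⁻¹ = C.M.Φ v := by
    rw [hy, show (c : G) * x * C.M.Φ u * ((c : G) * x)⁻¹ =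
      c * (x * C.M.Φ u * x⁻¹) * (c : G)⁻¹ by group, hx]
    exact mul_inv_eq_iff_eq_mul.2 (mem_centralizer_singleton_iff.1 c.2)
  have hle : (C.T hv').map (MulAut.conj y⁻¹).toMonoidHom ≤ centralizer ({C.M.Φ u} : Set G) := by
    rintro _ ⟨t, ht, rfl⟩
    rw [mem_centralizer_singleton_iff]
    show y⁻¹ * t * y⁻¹⁻¹ * C.M.Φ u = C.M.Φ u * (y⁻¹ * t * y⁻¹⁻¹)
    have := mem_centralizer_singleton_iff.1 (hTv ht)
    rw [← hyu] at this
    calc y⁻¹ * t * y⁻¹⁻¹ * C.M.Φ u = y⁻¹ * (t * (y * C.M.Φ u * y⁻¹)) * y := by group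
      _ = y⁻¹ * (y * C.M.Φ u * y⁻¹ * t) * y := by rw [this]
      _ = C.M.Φ u * (y⁻¹ * t * y⁻¹⁻¹) := by group
  have heq := C.max_T hu huz _ (hPv.map _) (fun t ht => ⟨_, hmap t ht, by
    show y⁻¹ * (y * t * y⁻¹) * y⁻¹⁻¹ = t
    group⟩) hle
  have hsurj : ∀ t ∈ C.T hv', y⁻¹ * t * y ∈ C.T hu := fun t ht => by
    rw [← heq]
    exact ⟨t, ht, by simp⟩
  have hyz := C.pin hu hv' hvz hmap hsurj
  obtain ⟨g, hg, hgy⟩ := C.M.mem_range y (mul_inv_eq_iff_eq_mul.1 hyz)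
  have hcj : isCj 0 u v = true := List.any_eq_true.2 ⟨g, List.mem_range.2 hg, by
    rw [Nat.beq_eq, ← C.M.eq_iff (cj_lt C.M.hk hg hu768) hv768, C.M.map_cj hg hu768, hgy, hyu]⟩
  have h := List.all_eq_true.1 (List.all_eq_true.1 chk_distinct u hu) v hv'
  simp [hcj, hne] at h

include C in
theorem card_G : ∃ m, Odd m ∧ Nat.card G = 256 * m := by
  haveI : Fact (Nat.Prime 2) := ⟨Nat.prime_two⟩
  refine ⟨(C.M.sylow : Subgroup G).index,
    Nat.odd_iff.2 (Nat.two_dvd_ne_zero.1 C.M.sylow.not_dvd_index), ?_⟩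
  rw [← Subgroup.card_mul_index (C.M.sylow : Subgroup G)]
  exact congrArg (· * _) C.M.card_S

theorem exists_index_two {u : ℕ} (hu : u ∈ repsA 0) {mask : ℕ} (hg : grpOK 0 mask = true)
    (hsz : size mask = 128) {l : List ℕ}
    (hl : (elems mask).all (fun n => !isInv 0 n || isW n || l.any fun v => isCj 0 v n) = true)
    (hlu : ∀ v ∈ l, v = 1 ∨ (v ∈ reps ∧ v ≠ u)) :
    ∃ K : Subgroup G, K.index = 2 ∧ C.M.Φ u ∉ K := by
  have hu' : u ∈ reps := (show ∀ v ∈ repsA 0, v ∈ reps by decide) u hu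
  obtain ⟨hu768, -⟩ := C.T_spec hu'
  have hu2 : orderOf (C.M.Φ u) = 2 := by
    rw [C.M.orderOf_eq_two_iff hu768]
    exact (show ∀ v ∈ repsA 0, isInv 0 v = true by decide +kernel) u hu
  have hcard : Nat.card (C.M.sub mask hg) = 128 := C.M.card_sub.trans hsz
  obtain ⟨m, hm, hG⟩ := C.card_G
  refine CfsgLib.Inv54.exists_index_two_not_mem (C.M.sub mask hg) hu2 hm ?_ fun x hx => ?_
  · have h := (C.M.sub mask hg).card_mul_index
    rw [hcard, hG] at h
    omega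
  · obtain ⟨n, hn, hs, hnx⟩ := hx
    have hconj : IsConj (C.M.Φ u) (C.M.Φ n) := isConj_iff.2 ⟨x⁻¹, by rw [hnx]; group⟩
    have hi : isInv 0 n = true := (C.M.orderOf_eq_two_iff hn).1 (by
      rw [← orderOf_conj_eq x, hnx]; group; exact hu2)
    have h := List.all_eq_true.1 hl n (mem_elems.2 ⟨hn, hs⟩)
    simp only [hi, Bool.not_true, Bool.false_or, Bool.or_eq_true, List.any_eq_true] at h
    have hW : ∀ w, isW w = true → w ≠ 0 → ¬ IsConj (C.M.Φ u) (C.M.Φ w) := fun w hw h0 h =>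
      C.M.not_isConj_repsA hu ((C.isConj_W hw h0).trans h.symm)
    rcases h with h | ⟨v, hv, hvn⟩
    · exact hW n h (fun h0 => by subst h0; simp [isInv] at hi) hconj
    · rcases hlu v hv with rfl | ⟨hvr, hvu⟩
      · exact hW 1 rfl (by norm_num) (hconj.trans (C.isConj_of_isW hn (by norm_num) hvn).symm)
      · exact C.not_isConj_reps hvr hu hvu
          (hconj.trans (C.isConj_of_isW hn (C.T_spec hvr).1 hvn).symm)

/-- The normal subgroup of index four, as the intersection of three subgroups of index two. -/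
theorem exists_four : ∃ N : Subgroup G, N.Normal ∧ (∀ x : G, x * x ∈ N) ∧
    C.M.Φ 2 ∉ N ∧ C.M.Φ 32 ∉ N ∧ C.M.Φ 34 ∉ N := by
  have hl := chk_mu
  simp only [List.zip_cons_cons, List.zip_nil_right, List.all_cons, List.all_nil, Bool.and_true,
    Bool.and_eq_true] at hl
  obtain ⟨K1, i1, n1⟩ := C.exists_index_two (u := 34) (by decide) groups.2.2.1 chk_sizes.2.2.1
    hl.1 (by decide)
  obtain ⟨K2, i2, n2⟩ := C.exists_index_two (u := 32) (by decide) groups.2.2.1 chk_sizes.2.2.1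
    hl.1 (by decide)
  obtain ⟨K3, i3, n3⟩ := C.exists_index_two (u := 2) (by decide) groups.2.2.2.1
    chk_sizes.2.2.2.1 hl.2 (by decide)
  haveI := Subgroup.normal_of_index_eq_two i1
  haveI := Subgroup.normal_of_index_eq_two i2
  haveI := Subgroup.normal_of_index_eq_two i3
  exact ⟨K1 ⊓ K2 ⊓ K3, inferInstance, fun x => ⟨⟨mul_self_mem_of_index_two i1 x,
    mul_self_mem_of_index_two i2 x⟩, mul_self_mem_of_index_two i3 x⟩, fun h => n3 h.2,
    fun h => n2 h.1.2, fun h => n1 h.1.1⟩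

/-- The normal subgroup of index four. -/
noncomputable def N4 : Subgroup G := C.exists_four.choose

theorem N4_spec : C.N4.Normal ∧ (∀ x : G, x * x ∈ C.N4) ∧
    C.M.Φ 2 ∉ C.N4 ∧ C.M.Φ 32 ∉ C.N4 ∧ C.M.Φ 34 ∉ C.N4 := C.exists_four.choose_spec

instance : C.N4.Normal := C.N4_spec.1

theorem K_le : C.K ≤ C.N4 := by
  rintro _ ⟨n, hn, hs, rfl⟩
  obtain ⟨e, -, h⟩ := List.any_eq_true.1 (List.all_eq_true.1 chk_cosets.2 n (mem_elems.2 ⟨hn, hs⟩))
  obtain ⟨x, hx, h⟩ := List.any_eq_true.1 h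
  simp only [Bool.and_eq_true, List.any_eq_true, Nat.beq_eq] at h
  obtain ⟨-, y, hy, hyy⟩ := h
  have hx' : x < 768 := List.mem_range.1 hx
  have hy' : y < 768 := List.mem_range.1 hy
  have hs' := mul_lt C.M.hk hx' hx'
  have e1 : C.M.Φ n = C.M.Φ (mul 0 x x) * C.M.Φ (mul 0 y y) := by
    rw [hyy, C.M.mul_eq _ _ (inv_lt C.M.hk hs') hn, C.M.map_inv hs', mul_inv_cancel_left]
  rw [e1, C.M.mul_eq x x hx' hx', C.M.mul_eq y y hy' hy']
  exact mul_mem (C.N4_spec.2.1 _) (C.N4_spec.2.1 _)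

theorem mem_N4_iff {n : ℕ} (hn : n < 768) : C.M.Φ n ∈ C.N4 ↔ Nat.testBit kMask n = true := by
  refine ⟨fun h => ?_, fun h => C.K_le ((C.M.mem_sub hn).2 h)⟩
  by_contra hk
  have h1 := chk_all chk_cosets.1 hn
  simp only [Bool.or_eq_true, hk, false_or, List.any_eq_true] at h1
  obtain ⟨u, hu, hun⟩ := h1
  have hu768 : u < 768 := (show ∀ v ∈ [2, 32, 34], v < 768 by decide) u hu
  have hmem := C.K_le ((C.M.mem_sub (h := groups.1)
    (mul_lt C.M.hk (inv_lt C.M.hk hu768) hn)).2 hun)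
  rw [C.M.mul_eq _ _ (inv_lt C.M.hk hu768) hn, C.M.map_inv hu768] at hmem
  have hu4 : C.M.Φ u ∈ C.N4 := by simpa using mul_mem h (inv_mem hmem)
  simp only [List.mem_cons, List.not_mem_nil, or_false] at hu
  rcases hu with rfl | rfl | rfl
  · exact C.N4_spec.2.2.1 hu4
  · exact C.N4_spec.2.2.2.1 hu4
  · exact C.N4_spec.2.2.2.2 hu4

theorem mem_K_iff {x : G} : x ∈ C.K ↔ x ∈ C.N4 ∧ x * z = z * x := by
  constructor
  · exact fun h => ⟨C.K_le h, Model.mem_cent.1 (C.M.sub_le h)⟩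
  · rintro ⟨h4, hz⟩
    obtain ⟨n, hn, rfl⟩ := C.M.mem_range x hz
    exact (C.M.mem_sub hn).2 ((C.mem_N4_iff hn).1 h4)

end Ctx

end CfsgLib.AutLThreeFour70
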