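import Cfsg.Agent.AutLThreeFour70.Masks

/-!
# Subgroups of the split candidate, as bit sets
-/

set_option autoImplicit false

namespace CfsgLib.AutLThreeFour70

/-- The intersection with the kernel of the three index-two subgroups. -/
def kMask : ℕ := 0x3333333300000000000000003333333333333333333333333333333300000000000000000000000033333333333333333333333300000000000000000000000033333333333333330000000000000000333333330000000033333333

/-- The largest normal two-subgroup of `kMask`. -/
def rMask : ℕ := 0x3333333300000000000000000000000000000000000000000000000000000000000000000000000033333333000000003333333300000000000000000000000000000000000000000000000000000000000000000000000033333333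

/-- The largest normal two-subgroup. -/
def oMask : ℕ := 0xffffffff000000000000000000000000000000000000000000000000000000000000000000000000ffffffff00000000ffffffff000000000000000000000000000000000000000000000000000000000000000000000000ffffffff

/-- A subgroup of index two in a Sylow subgroup avoiding the code 2. -/
def bMask : ℕ := 0xcccccccc33333333000000000000000000000000000000000000000000000000cccccccc000000000000000033333333000000003333333300000000cccccccc000000000000000000000000000000000000000000000000cccccccc33333333

/-- The first elementary subgroup of order 16. -/
def a1Mask : ℕ := 0x30003000000000000000000000000000000000000000000000000000000000000000000000000030003000000000000300030000000000000000000000000000000000000000000000000000000000000000000000000000030003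

/-- The second elementary subgroup of order 16. -/
def a2Mask : ℕ := 0x300030000000000000000000000000000000000000000000000000000000000000000000000000000300030000000003000300000000000000000000000000000000000000000000000000000000000000000000000000000030003

/-- A Sylow two-subgroup of the centraliser of the code 64. -/
def dMask : ℕ := 0xc030c03

/-- The character of order three, on the quotient by `E`. -/
def chiQ (q : ℕ) : ℕ :=
  bif [2, 11, 16, 19].contains q then 1 else bif [5, 6, 17, 18].contains q then 2 else 0

/-- The four involution classes outside `1, z, a, az`. -/
def reps : List ℕ := [2, 32, 34, 328]

/-- The order of the code divides 4. -/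
def isR (n : ℕ) : Bool := Nat.beq (mul 0 (mul 0 n n) (mul 0 n n)) 0

/-- The code has order three. -/
def isThree (n : ℕ) : Bool := !Nat.beq n 0 && Nat.beq (mul 0 n (mul 0 n n)) 0

/-- Commutators. -/
def comm (n m : ℕ) : ℕ := mul 0 (mul 0 n m) (inv 0 (mul 0 m n))

/-- Conjugacy inside `kMask`. -/
def isCjK (u n : ℕ) : Bool := (elems kMask).any fun g => Nat.beq (cj 0 g u) n

end CfsgLib.AutLThreeFour70
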